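import Cfsg.Agent.Lib.DerangeIndex.Count
import Cfsg.Agent.Lib.PGroup.Basic

/-!
# Invariant elementary abelian subgroups are cyclic

In a linear setting with large `[H:Y]`, an elementary abelian subgroup of `Y` normalised by a
covering subgroup has order at most `p`.
-/

set_option autoImplicit false

namespace Cfsg.Agent.DerangeIndex

open Subgroup

variable {G : Type*} [Group G] {V H Y : Subgroup G}

/-- The arithmetic of an orbit of `m` fixed spaces. -/
theorem orbit_arith {m Q : ℕ} (hm : 2 ≤ m) (hQ : 3 ≤ Q) : (m * (Q - 1) + 2) ^ 2 ≤ 4 * Q ^ m := by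
  obtain ⟨R, rfl⟩ : ∃ R, Q = R + 1 := ⟨Q - 1, by omega⟩
  rw [Nat.add_sub_cancel]
  induction m, hm using Nat.le_induction with
  | base => ring_nf; omega
  | succ m hm ih =>
    have h1 : 2 * R ≤ m * R + 2 := by
      have := Nat.mul_le_mul_right R hm
      omega
    calc ((m + 1) * R + 2) ^ 2 ≤ (R + 1) * (m * R + 2) ^ 2 := by
          have h2 : 2 * ((m + 1) * R + 2) ≤ 3 * (m * R + 2) := by
            rw [add_mul]
            omega
          have h3 : 4 * ((m + 1) * R + 2) ^ 2 ≤ 9 * (m * R + 2) ^ 2 := by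
            calc 4 * ((m + 1) * R + 2) ^ 2 = (2 * ((m + 1) * R + 2)) ^ 2 := by ring
              _ ≤ (3 * (m * R + 2)) ^ 2 := Nat.pow_le_pow_left h2 2
              _ = 9 * (m * R + 2) ^ 2 := by ring
          have h4 : 3 * (m * R + 2) ^ 2 ≤ (R + 1) * (m * R + 2) ^ 2 :=
            Nat.mul_le_mul_right _ (by omega)
          omega
      _ ≤ (R + 1) * (4 * (R + 1) ^ m) := Nat.mul_le_mul_left _ ih
      _ = 4 * (R + 1) ^ (m + 1) := by ring

theorem LinSetting.relIndex_cover [Finite G] (L : LinSetting V H Y) {H' : Subgroup G}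
    (hH' : H' ≤ H) (hcov : ∀ h ∈ H, ∃ k ∈ H', k⁻¹ * h ∈ Y) : Y.relIndex H' = Y.relIndex H :=
  relIndex_eq_of_covers L.le L.conj hH' hcov

theorem LinSetting.ne_bot [Finite G] (L : LinSetting V H Y) {x : G} (hx : x ∈ Y) (hx1 : x ≠ 1) :
    V ≠ ⊥ := fun hV => hx1 (L.faithful x (L.le hx) fun v hv => by
  rw [hV, mem_bot] at hv
  rw [hv, mul_one, one_mul])

/-- The bound through classes of translates and a semiregular subgroup. -/
theorem LinSetting.bound [Finite G] (L : LinSetting V H Y) {H' W C : Subgroup G}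
    (hH' : H' ≤ H) (hcov : ∀ h ∈ H, ∃ k ∈ H', k⁻¹ * h ∈ Y)
    (hWV : W ≤ V) (hW : W ≠ ⊥) {α : Type*} (κ : G → α) (T : Finset α)
    (hT : ∀ h ∈ H', κ h ∈ T)
    (hκ : ∀ h ∈ H', ∀ h' ∈ H', κ h = κ h' → ∃ y ∈ H' ⊓ Y, h⁻¹ * y * h' ∈ normalizer (W : Set G))
    (hC : C ≤ H' ⊓ normalizer (W : Set G) ⊓ Y) {e : ℕ}
    (hCv : ∀ v ∈ W, v ≠ 1 → Nat.card (C ⊓ centralizer {v} : Subgroup G) ≤ e) :
    Nat.card C * Y.relIndex H ≤ T.card * (e * (Nat.card W - 1)) := by
  have h1 := relIndex_le_of_classes (W := W) (fun h hh y hy => L.conj h (hH' hh) y hy) κ T hT hκ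
  have h2 := L.card_stab_bound (S := H' ⊓ normalizer (W : Set G)) (C := C) (inf_le_left.trans hH')
    inf_le_right hWV hW hC hCv
  rw [L.relIndex_cover hH' hcov] at h1
  calc Nat.card C * Y.relIndex H
      ≤ Nat.card C * (T.card * Y.relIndex (H' ⊓ normalizer (W : Set G))) := Nat.mul_le_mul_left _ h1
    _ = T.card * (Nat.card C * Y.relIndex (H' ⊓ normalizer (W : Set G))) := by ring
    _ ≤ T.card * (e * (Nat.card W - 1)) := Nat.mul_le_mul_left _ h2

theorem LinSetting.card_coprime [Finite G] (L : LinSetting V H Y) {B : Subgroup G} (hB : B ≤ Y) :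
    (Nat.card B).Coprime (Nat.card V) :=
  L.coprime.coprime_dvd_left (card_dvd_of_le hB)

theorem map_conj_mul (B : Subgroup G) (g h : G) :
    B.map (MulAut.conj (g * h)).toMonoidHom =
      (B.map (MulAut.conj h).toMonoidHom).map (MulAut.conj g).toMonoidHom := by
  rw [map_map]
  congr 1
  ext x
  simp [mul_assoc]

theorem commute_of_mem_sup {A B : Subgroup G} {x : G} (hA : ∀ b ∈ A, b * x = x * b)
    (hB : ∀ b ∈ B, b * x = x * b) : ∀ b ∈ A ⊔ B, b * x = x * b := fun b hb => by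
  have : A ⊔ B ≤ centralizer {x} := sup_le
    (fun b hb => mem_centralizer_singleton_iff.2 (hA b hb))
    (fun b hb => mem_centralizer_singleton_iff.2 (hB b hb))
  exact mem_centralizer_singleton_iff.1 (this hb)

theorem card_fixV_map_conj {B : Subgroup G} {h : G} (hV : h ∈ normalizer (V : Set G)) :
    Nat.card (fixV V (B.map (MulAut.conj h).toMonoidHom)) = Nat.card (fixV V B) := by
  have hmap : fixV V (B.map (MulAut.conj h).toMonoidHom) =
      (fixV V B).map (MulAut.conj h).toMonoidHom := by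
    rw [Subgroup.map_inf _ _ _ (MulAut.conj h).injective,
      show V.map (MulAut.conj h).toMonoidHom = V from mem_normalizer_iff_map_conj_eq.1 hV]
    refine congrArg (V ⊓ ·) ?_
    ext x
    constructor
    · intro hx
      refine ⟨h⁻¹ * x * h, fun b hb => ?_, by simp [mul_assoc]⟩
      have h2 : h * b * h⁻¹ * x = x * (h * b * h⁻¹) := hx _ ⟨b, hb, rfl⟩
      calc b * (h⁻¹ * x * h) = h⁻¹ * (h * b * h⁻¹ * x) * h := by group
        _ = h⁻¹ * (x * (h * b * h⁻¹)) * h := by rw [h2]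
        _ = h⁻¹ * x * h * b := by group
    · rintro ⟨y, hy, rfl⟩ _ ⟨b, hb, rfl⟩
      simp only [MulEquiv.coe_toMonoidHom, MulAut.conj_apply]
      calc h * b * h⁻¹ * (h * y * h⁻¹) = h * (b * y) * h⁻¹ := by group
        _ = h * (y * b) * h⁻¹ := by rw [show b * y = y * b from hy b hb]
        _ = h * y * h⁻¹ * (h * b * h⁻¹) := by group
  rw [hmap, card_map_of_injective (MulAut.conj h).injective]

theorem mem_normalizer_of_comm {A B : Subgroup G} [IsMulCommutative A] (hBA : B ≤ A) {a : G}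
    (ha : a ∈ A) : a ∈ normalizer (B : Set G) := by
  refine mem_normalizer_iff.2 fun b => ⟨fun hb => ?_, fun hb => ?_⟩
  · rwa [setLike_mul_comm ha (hBA hb), mul_inv_cancel_right]
  · have hb' : b ∈ A := by
      have h' := A.mul_mem (A.mul_mem (A.inv_mem ha) (hBA hb)) ha
      group at h'
      exact h'
    rwa [setLike_mul_comm ha hb', mul_inv_cancel_right] at hb

/-- An elementary abelian subgroup of `Y` normalised by a covering subgroup has order at most `p`. -/
theorem LinSetting.card_le_of_invariant [Finite G] (L : LinSetting V H Y) {H' A : Subgroup G}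
    (hH' : H' ≤ H) (hcov : ∀ h ∈ H, ∃ k ∈ H', k⁻¹ * h ∈ Y) (hAY : A ≤ Y) (hAH : A ≤ H')
    (hn : H' ≤ normalizer (A : Set G)) [IsMulCommutative A] {p : ℕ} (hp : p.Prime)
    (hexp : ∀ a ∈ A, a ^ p = 1) : Nat.card A ≤ p := by
  classical
  by_contra hcon
  push Not at hcon
  have := Fact.mk hp
  have hAV : A ≤ normalizer (V : Set G) := hAY.trans (L.le.trans L.norm)
  obtain ⟨a₀, ha₀, ha₀1⟩ : ∃ a ∈ A, a ≠ 1 := by
    have hne : A ≠ ⊥ := fun h => by
      rw [h, card_bot] at hcon
      have := hp.two_le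
      omega
    obtain ⟨⟨a, ha⟩, ha1⟩ := ne_bot_iff_exists_ne_one.1 hne
    exact ⟨a, ha, fun h => ha1 (Subtype.ext h)⟩
  have hVne : V ≠ ⊥ := L.ne_bot (hAY ha₀) ha₀1
  have hfA : fixV V A = ⊥ := by
    refine (L.irred H' hH' hcov _ inf_le_left fun h hh =>
      mul_inv_mem_normalizer_fixV (L.norm (hH' hh)) (hn hh)).resolve_right fun hV => ha₀1 ?_
    exact L.faithful a₀ (L.le (hAY ha₀)) fun v hv => (hV.ge hv).2 a₀ ha₀
  have hApg : IsPGroup p A := fun a => ⟨1, Subtype.ext (by simpa using hexp a a.2)⟩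
  obtain ⟨B₀, hB₀A, hB₀i, hB₀f⟩ := exists_fixed_relIndex_le (V := V) hp hexp hAV
    (L.card_coprime hAY) hVne
  -- the orbit of `B₀`
  let ι := {B : Subgroup G // ∃ h ∈ H', B = B₀.map (MulAut.conj h).toMonoidHom}
  let _ : Fintype ι := Fintype.ofFinite ι
  have hιA : ∀ i : ι, i.1 ≤ A := by
    rintro ⟨B, h, hh, rfl⟩ b ⟨c, hc, rfl⟩
    simpa using (mem_normalizer_iff.1 (hn hh) c).1 (hB₀A hc)
  have hιcard : ∀ i : ι, Nat.card i.1 = Nat.card B₀ := by
    rintro ⟨B, h, hh, rfl⟩
    exact card_map_of_injective (MulAut.conj h).injective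
  have hAB : Nat.card A ≤ p * Nat.card B₀ := by
    have h := PGroup.card_inf_mul_relIndex A B₀
    rw [inf_eq_right.2 hB₀A] at h
    rw [← h, mul_comm]
    exact Nat.mul_le_mul_right _ hB₀i
  have hιfix : ∀ i : ι, Nat.card (fixV V i.1) = Nat.card (fixV V B₀) := by
    rintro ⟨B, h, hh, rfl⟩
    exact card_fixV_map_conj (L.norm (hH' hh))
  have hlt : ∀ B : Subgroup G, B ≤ A → ∀ B' ≤ A, Nat.card B = Nat.card B₀ → ¬ B' ≤ B →
      B ⊔ B' = A := by
    intro B hB B' hB' hc hne
    refine PGroup.eq_of_le_of_card_le (sup_le hB hB') ?_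
    have hlt' : B.subgroupOf A < (B ⊔ B').subgroupOf A := by
      refine lt_of_le_of_ne (fun x hx => mem_sup_left (T := B') hx) fun he => hne fun b hb => ?_
      have : (⟨b, hB' hb⟩ : A) ∈ (B ⊔ B').subgroupOf A := mem_sup_right (S := B) hb
      rw [← he] at this
      exact this
    have := PGroup.mul_card_le_of_lt hApg hlt'
    rw [Nat.card_congr (subgroupOfEquivOfLe hB).toEquiv,
      Nat.card_congr (subgroupOfEquivOfLe (sup_le hB hB')).toEquiv, hc] at this
    exact hAB.trans this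
  have := L.comm
  have hprod := prod_card_le (V := V) (fun i : ι => fixV V i.1) (fun i => i.1)
    (fun i => inf_le_left) (fun j => (hιA j).trans hAV) (fun j => L.card_coprime ((hιA j).trans hAY))
    (fun i j b hb => mul_inv_mem_normalizer_fixV (hAV (hιA j hb))
      (mem_normalizer_of_comm (hιA i) (hιA j hb))) (fun j => inf_le_right)
    (fun i j hij => by
      rw [eq_bot_iff, ← hfA]
      intro x hx
      refine ⟨hx.1.1, fun b hb => ?_⟩
      have hne : ¬ j.1 ≤ i.1 := fun h => hij (Subtype.ext (PGroup.eq_of_le_of_card_le h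
        (by rw [hιcard i, hιcard j])).symm)
      rw [← hlt i.1 (hιA i) j.1 (hιA j) (hιcard i) hne] at hb
      exact commute_of_mem_sup hx.1.2 hx.2 b hb)
  set Q := Nat.card (fixV V B₀) with hQ
  set m := Fintype.card ι with hm
  rw [Finset.prod_congr rfl (fun i _ => hιfix i), Finset.prod_const, Finset.card_univ] at hprod
  have hm2 : 2 ≤ m := by
    by_contra hm1
    have hss : Subsingleton ι := Fintype.card_le_one_iff_subsingleton.1 (by omega)
    have hinv : H' ≤ normalizer (fixV V B₀ : Set G) := fun h hh => by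
      refine mul_inv_mem_normalizer_fixV (L.norm (hH' hh)) (mem_normalizer_iff_map_conj_eq.2 ?_)
      have heq := congrArg Subtype.val (Subsingleton.elim
        (⟨_, h, hh, rfl⟩ : ι) ⟨_, 1, one_mem _, rfl⟩)
      refine heq.trans ?_
      ext x
      simp
    have hV := (L.irred H' hH' hcov _ inf_le_left hinv).resolve_left hB₀f
    have hB₀ : B₀ = ⊥ := (eq_bot_iff_forall _).2 fun b hb =>
      L.faithful b (L.le (hAY (hB₀A hb))) fun v hv => (hV.ge hv).2 b hb
    rw [hB₀, card_bot, mul_one] at hAB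
    omega
  obtain ⟨a, ha, haB⟩ : ∃ a ∈ A, a ∉ B₀ := by
    by_contra hall
    push Not at hall
    exact hB₀f (eq_bot_iff.2 ((fixV_mono (V := V) hall).trans hfA.le))
  have hao : orderOf a = p := orderOf_eq_prime (hexp a ha) fun h => haB (h ▸ one_mem B₀)
  have hCS : zpowers a ≤ H' ⊓ normalizer (fixV V B₀ : Set G) ⊓ Y :=
    zpowers_le.2 ⟨⟨hAH ha, mul_inv_mem_normalizer_fixV (hAV ha)
      (mem_normalizer_of_comm hB₀A ha)⟩, hAY ha⟩
  have hCv : ∀ v ∈ fixV V B₀, v ≠ 1 →
      Nat.card (zpowers a ⊓ centralizer {v} : Subgroup G) ≤ 1 := by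
    intro v hv hv1
    refine le_of_eq (card_eq_one.2 ((eq_bot_iff_forall _).2 fun c hc => by_contra fun hc1 => ?_))
    obtain ⟨⟨k, rfl⟩, hck⟩ := hc
    have hcA : a ^ k ∈ A := zpow_mem ha k
    by_cases hcB : a ^ k ∈ B₀
    · have hz : zpowers (a ^ k) = zpowers a := by
        refine PGroup.eq_of_le_of_card_le (zpowers_le.2 (zpow_mem (mem_zpowers a) k)) ?_
        rw [Nat.card_zpowers, Nat.card_zpowers, hao, orderOf_eq_prime (hexp _ hcA) hc1]
      exact haB ((zpowers_le.2 hcB) (hz.symm ▸ mem_zpowers a))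
    · refine hv1 ((eq_bot_iff_forall _).1 hfA v ⟨hv.1, fun b hb => ?_⟩)
      rw [← hlt B₀ hB₀A (zpowers (a ^ k)) (zpowers_le.2 hcA) rfl
        (fun h => hcB (h (mem_zpowers _)))] at hb
      refine commute_of_mem_sup hv.2 ?_ b hb
      rintro _ ⟨i, rfl⟩
      exact Commute.zpow_left (mem_centralizer_singleton_iff.1 hck) i
  have hbd := L.bound (W := fixV V B₀) (C := zpowers a) hH' hcov inf_le_left hB₀f
    (fun h : G => B₀.map (MulAut.conj h).toMonoidHom)
    (Finset.univ.image fun i : ι => i.1) (fun h hh => Finset.mem_image.2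
      ⟨⟨_, h, hh, rfl⟩, Finset.mem_univ _, rfl⟩)
    (fun h hh h' hh' heq => ⟨1, one_mem _, mul_inv_mem_normalizer_fixV
      (L.norm (hH' (mul_mem (mul_mem (inv_mem hh) (one_mem _)) hh'))) (by
        rw [mem_normalizer_iff_map_conj_eq, mul_one]
        refine (map_conj_mul B₀ h⁻¹ h').trans ?_
        rw [← heq, ← map_conj_mul, inv_mul_cancel]
        ext x
        simp)⟩)
    hCS (e := 1) hCv
  have hT : (Finset.univ.image fun i : ι => i.1).card ≤ m := Finset.card_image_le
  rw [Nat.card_zpowers, hao, one_mul] at hbd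
  set d := Y.relIndex H with hd
  have hdpos : 1 ≤ d := Nat.one_le_iff_ne_zero.2 index_ne_zero_of_finite
  have h1 : p * d ≤ m * (Q - 1) := hbd.trans (Nat.mul_le_mul_right _ hT)
  have hQ3 : 3 ≤ Q := by
    have h2 := L.card_stab_bound (S := H' ⊓ normalizer (fixV V B₀ : Set G)) (W := fixV V B₀)
      (C := zpowers a) (inf_le_left.trans hH') inf_le_right inf_le_left hB₀f hCS (e := 1) hCv
    rw [Nat.card_zpowers, hao, one_mul] at h2
    have : p * 1 ≤ Q - 1 := le_trans (Nat.mul_le_mul_left p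
      (Nat.one_le_iff_ne_zero.2 index_ne_zero_of_finite)) h2
    have := hp.two_le
    omega
  have h2 := orbit_arith hm2 hQ3
  have h3 : 2 * (d + 1) ≤ m * (Q - 1) + 2 := by
    have := Nat.mul_le_mul_right d hp.two_le
    omega
  have h4 : (2 * (d + 1)) ^ 2 ≤ 4 * Nat.card V :=
    (Nat.pow_le_pow_left h3 2).trans (h2.trans (Nat.mul_le_mul_left 4 hprod))
  have h5 := L.big
  rw [← hd] at h5
  rw [mul_pow] at h4
  omega

end Cfsg.Agent.DerangeIndex
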