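import Cfsg.Agent.Lib.Char.Perm
import Cfsg.Agent.Lib.Char.Linear
import Cfsg.Agent.Lib.Derangement.Basic

/-!
# Characters of a group with a small self-centralising abelian TI subgroup

`V` is an abelian TI subgroup of `X` whose normalizer has order `|V| * |A|` with `A` acting
semiregularly on `V`.  A permutation character regular on `V` cannot have many constituents.
-/

set_option autoImplicit false

namespace Cfsg.Agent.DerangeIndex

open Cfsg Cfsg.Agent.Char
open scoped ComplexConjugate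

/-- A free action preserving a weight: the group order divides the total weight. -/
theorem dvd_sum_of_free {A Z : Type*} [Group A] [Finite A] [Fintype Z] [MulAction A Z]
    (hfree : ∀ (a : A) (z : Z), a • z = z → a = 1) (F : Z → ℕ) (hF : ∀ (a : A) z, F (a • z) = F z) :
    Nat.card A ∣ ∑ z, F z := by
  let P : Type _ := {p : Z × ℕ // p.2 < F p.1}
  let e : P ≃ Σ z : Z, Fin (F z) :=
    { toFun := fun p => ⟨p.1.1, p.1.2, p.2⟩
      invFun := fun p => ⟨(p.1, p.2.1), p.2.2⟩
      left_inv := fun _ => rfl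
      right_inv := fun _ => rfl }
  have : Finite P := Finite.of_equiv _ e.symm
  let act : MulAction A P :=
    { smul := fun a p => ⟨(a • p.1.1, p.1.2), (hF a p.1.1).symm ▸ p.2⟩
      one_smul := fun p => Subtype.ext (Prod.ext (one_smul A p.1.1) rfl)
      mul_smul := fun a b p => Subtype.ext (Prod.ext (mul_smul a b p.1.1) rfl) }
  have h := Derangement.dvd_card_of_stabilizer_le (G := A) (Ω := P) ⊥ (fun p a ha =>
    Subgroup.mem_bot.2 (hfree a p.1.1 (congrArg (fun p : P => p.1.1) ha)))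
  rw [Subgroup.index_bot, Nat.card_congr e, Nat.card_sigma] at h
  simpa using h

variable {X : Type*} [Group X]

/-- The hypotheses on `V`, `A` and `N`. -/
structure LocalTI (V A N : Subgroup X) : Prop where
  norm : A ≤ Subgroup.normalizer (V : Set X)
  free : ∀ a ∈ A, ∀ v ∈ V, v ≠ 1 → a * v = v * a → a = 1
  ti : ∀ (g : X), ∀ v ∈ V, v ≠ 1 → g * v * g⁻¹ ∈ V → g ∈ N
  card_N : Nat.card N = Nat.card V * Nat.card A

variable {V A N : Subgroup X}

/-- Restriction to `V`. -/
def resV (V : Subgroup X) (χ : X → ℂ) : V → ℂ := fun v => χ v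

/-- The trivial irreducible character of `V`. -/
noncomputable def trivV (V : Subgroup X) : IrrCharacter V := ⟨1, isIrrCharacter_one⟩

/-- The multiplicity of a linear character in a restriction. -/
noncomputable def mult [Fintype V] (χ : X → ℂ) (l : IrrCharacter V) : ℕ :=
  ⌊(classInner (resV V χ) (l : V → ℂ)).re⌋₊

variable [Fintype V] {χ : X → ℂ}

theorem mult_spec (hχ : IsCharacter X χ) (l : IrrCharacter V) :
    classInner (resV V χ) (l : V → ℂ) = (mult χ l : ℂ) := by
  obtain ⟨m, hm⟩ := IsCharacter.classInner_nat (IsCharacter.restrict hχ V)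
    (IsIrrCharacter.isCharacter l.2)
  have hm' : classInner (resV V χ) (l : V → ℂ) = (m : ℂ) := hm
  rw [mult, hm', Complex.natCast_re, Nat.floor_natCast]

theorem mult_one [Finite X] : mult (1 : X → ℂ) (trivV V) = 1 := by
  have h := mult_spec (V := V) (isCharacter_one (G := X)) (trivV V)
  have h1 : classInner (resV V (1 : X → ℂ)) ((trivV V : IrrCharacter V) : V → ℂ) = 1 :=
    classInner_irr_self (isIrrCharacter_one (G := V))
  rw [h1] at h
  exact_mod_cast h.symm

variable [Fintype (IrrCharacter V)] [IsMulCommutative V]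

theorem irr_apply_one (l : IrrCharacter V) : (l : V → ℂ) 1 = 1 :=
  apply_one_eq_one_of_comm (fun a b => mul_comm' a b) l

theorem resV_eq_sum (hχ : IsCharacter X χ) :
    resV V χ = ∑ l : IrrCharacter V, (mult χ l : ℂ) • (l : V → ℂ) := by
  obtain ⟨m, hm, hm'⟩ := IsCharacter.decompose (IsCharacter.restrict hχ V)
  refine hm.trans (Finset.sum_congr rfl fun l _ => ?_)
  have : (m l : ℂ) = mult χ l := (hm' l).symm.trans (mult_spec hχ l)
  rw [this]

theorem apply_one_eq_sum_mult (hχ : IsCharacter X χ) :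
    χ 1 = ((∑ l : IrrCharacter V, mult χ l : ℕ) : ℂ) := by
  have h := congrFun (resV_eq_sum (V := V) hχ) 1
  simp only [resV, Subgroup.coe_one, Finset.sum_apply, Pi.smul_apply, irr_apply_one, smul_eq_mul,
    mul_one] at h
  rw [h, Nat.cast_sum]

theorem classInner_resV_self (hχ : IsCharacter X χ) :
    classInner (resV V χ) (resV V χ) = ((∑ l : IrrCharacter V, mult χ l ^ 2 : ℕ) : ℂ) := by
  rw [classInner_eq_sum (IsCharacter.isClassFunction (χ := resV V χ) (IsCharacter.restrict hχ V)),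
    Nat.cast_sum]
  refine Finset.sum_congr rfl fun l _ => ?_
  rw [mult_spec hχ l, map_natCast, Nat.cast_pow, sq]

omit [IsMulCommutative V] in
theorem const_of_mult [DecidableEq (IrrCharacter V)] (hχ : IsCharacter X χ) [IsMulCommutative V]
    (h : ∀ l : IrrCharacter V, l ≠ trivV V → mult χ l = 0) (v : V) : χ v = χ 1 := by
  have e : ∀ w : V, χ w = (mult χ (trivV V) : ℂ) := by
    intro w
    have h1 := congrFun (resV_eq_sum (V := V) hχ) w
    simp only [resV, Finset.sum_apply, Pi.smul_apply, smul_eq_mul] at h1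
    rw [h1, Finset.sum_eq_single (trivV V)]
    · simp [trivV]
    · intro l _ hl
      rw [h l hl, Nat.cast_zero, zero_mul]
    · exact fun h' => absurd (Finset.mem_univ _) h'
  rw [e v, ← e 1]
  rfl

/-- The TI bound. -/
theorem LocalTI.norm_bound [Fintype X] (L : LocalTI V A N) (hχ : IsIrrCharacter X χ) {k : ℕ}
    (hk : χ 1 = k) :
    Nat.card V * (∑ l : IrrCharacter V, mult χ l ^ 2) < Nat.card V * Nat.card A + k ^ 2 := by
  classical
  have hk0 : 0 < k := by
    obtain ⟨n, hn, hn'⟩ := IsIrrCharacter.exists_degree hχ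
    rw [hk, Nat.cast_inj] at hn'
    omega
  let f : X → ℝ := fun g => ‖χ g‖ ^ 2
  have hX : ∑ g, f g = (Nat.card X : ℝ) := by
    have h := classInner_irr_self hχ
    rw [classInner_self_eq, ← Complex.ofReal_one, Complex.ofReal_inj,
      inv_mul_eq_iff_eq_mul₀ (Nat.cast_ne_zero.2 Nat.card_pos.ne'), mul_one] at h
    exact h
  have hV : ∑ v : V, f v = (Nat.card V : ℝ) * (∑ l : IrrCharacter V, mult χ l ^ 2 : ℕ) := by
    have h := classInner_resV_self (V := V) (IsIrrCharacter.isCharacter hχ)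
    rw [classInner_self_eq, ← Complex.ofReal_natCast (∑ l, mult χ l ^ 2), Complex.ofReal_inj,
      inv_mul_eq_iff_eq_mul₀ (Nat.cast_ne_zero.2 Nat.card_pos.ne')] at h
    exact h
  have hf1 : f 1 = (k : ℝ) ^ 2 := by simp [f, hk]
  let Φ : (X ⧸ N) × V → X := fun p => p.1.out * p.2 * p.1.out⁻¹
  have hinj : Set.InjOn Φ ↑((Finset.univ : Finset (X ⧸ N)) ×ˢ (Finset.univ.erase (1 : V))) := by
    rintro ⟨c, v⟩ hv ⟨c', v'⟩ - he
    simp only [Finset.mem_coe, Finset.mem_product, Finset.mem_univ, Finset.mem_erase, true_and,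
      and_true] at hv
    change c.out * (v : X) * c.out⁻¹ = c'.out * (v' : X) * c'.out⁻¹ at he
    have hmem : c'.out⁻¹ * c.out ∈ N := by
      refine L.ti _ v v.2 (fun h => hv (Subtype.ext h)) ?_
      have : c'.out⁻¹ * c.out * (v : X) * (c'.out⁻¹ * c.out)⁻¹ =
          c'.out⁻¹ * (c.out * (v : X) * c.out⁻¹) * c'.out := by group
      rw [this, he, show c'.out⁻¹ * (c'.out * (v' : X) * c'.out⁻¹) * c'.out = (v' : X) by group]
      exact v'.2
    have hcc : c = c' := by
      rw [← QuotientGroup.out_eq' c, ← QuotientGroup.out_eq' c']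
      exact (QuotientGroup.eq.2 hmem).symm
    subst hcc
    exact Prod.ext rfl (Subtype.ext (mul_left_cancel (mul_right_cancel he)))
  have hle : (Nat.card (X ⧸ N) : ℝ) * (∑ v ∈ Finset.univ.erase (1 : V), f v) ≤
      ∑ g ∈ Finset.univ.erase (1 : X), f g := by
    calc (Nat.card (X ⧸ N) : ℝ) * (∑ v ∈ Finset.univ.erase (1 : V), f v)
        = ∑ _c : X ⧸ N, ∑ v ∈ Finset.univ.erase (1 : V), f v := by
          rw [Finset.sum_const, Finset.card_univ, nsmul_eq_mul, Nat.card_eq_fintype_card]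
      _ = ∑ p ∈ (Finset.univ : Finset (X ⧸ N)) ×ˢ (Finset.univ.erase (1 : V)), f (Φ p) := by
          rw [Finset.sum_product]
          refine Finset.sum_congr rfl fun c _ => Finset.sum_congr rfl fun v _ => ?_
          show ‖χ (v : X)‖ ^ 2 = ‖χ (c.out * (v : X) * c.out⁻¹)‖ ^ 2
          rw [IsIrrCharacter.isClassFunction hχ (v : X) c.out]
      _ = ∑ g ∈ ((Finset.univ : Finset (X ⧸ N)) ×ˢ (Finset.univ.erase (1 : V))).image Φ, f g :=
          (Finset.sum_image hinj).symm
      _ ≤ _ := by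
          refine Finset.sum_le_sum_of_subset_of_nonneg ?_ fun g _ _ => sq_nonneg _
          intro g hg
          simp only [Finset.mem_image, Finset.mem_product, Finset.mem_univ, Finset.mem_erase,
            true_and, and_true] at hg ⊢
          obtain ⟨⟨c, v⟩, hv, rfl⟩ := hg
          intro h1
          exact hv (Subtype.ext (conj_eq_one_iff.1 h1))
  rw [Finset.sum_erase_eq_sub (Finset.mem_univ _), Finset.sum_erase_eq_sub (Finset.mem_univ _),
    hX, hV, Subgroup.coe_one, hf1] at hle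
  have hidx : (Nat.card X : ℝ) = (Nat.card (X ⧸ N) : ℝ) * ((Nat.card V : ℝ) * Nat.card A) := by
    rw [Subgroup.card_eq_card_quotient_mul_card_subgroup N, L.card_N]
    push_cast
    ring
  set S := ∑ l : IrrCharacter V, mult χ l ^ 2
  have hq : (0 : ℝ) < Nat.card (X ⧸ N) := Nat.cast_pos.2 Nat.card_pos
  have hk' : (0 : ℝ) < (k : ℝ) ^ 2 := pow_pos (Nat.cast_pos.2 hk0) 2
  rw [hidx] at hle
  have h2 : (Nat.card V : ℝ) * S - (k : ℝ) ^ 2 < (Nat.card V : ℝ) * Nat.card A := by
    refine lt_of_mul_lt_mul_left ?_ hq.le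
    linarith
  have h3 : ((Nat.card V * S : ℕ) : ℝ) < ((Nat.card V * Nat.card A + k ^ 2 : ℕ) : ℝ) := by
    push_cast
    linarith
  exact_mod_cast h3

omit [Fintype (IrrCharacter V)] in
/-- The nontrivial constituents come in regular `A`-orbits. -/
theorem LocalTI.dvd_sum_mult [Finite X] [Fintype (IrrCharacter V)] [DecidableEq (IrrCharacter V)]
    (L : LocalTI V A N) (hχ : IsCharacter X χ) (F : ℕ → ℕ) :
    Nat.card A ∣ ∑ l ∈ Finset.univ.erase (trivV V), F (mult χ l) := by
  classical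
  have hc : ∀ a : A, ∀ v : V, (a : X)⁻¹ * v * a ∈ V := fun a v =>
    (Subgroup.mem_normalizer_iff''.1 (L.norm a.2) v).1 v.2
  let e : A → (V ≃* V) := fun a =>
    { toFun := fun v => ⟨(a : X)⁻¹ * v * a, hc a v⟩
      invFun := fun v => ⟨(a : X) * v * (a : X)⁻¹, by simpa using hc a⁻¹ v⟩
      left_inv := fun v => Subtype.ext (by simp [mul_assoc])
      right_inv := fun v => Subtype.ext (by simp [mul_assoc])
      map_mul' := fun v w => Subtype.ext (by simp [mul_assoc]) }
  let Z : Type _ := {l : IrrCharacter V // l ≠ trivV V}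
  let tw : A → Z → Z := fun a l =>
    ⟨⟨fun v => l.1.1 (e a v), IsIrrCharacter.comp_equiv l.1.2 (e a)⟩, fun h => l.2 (Subtype.ext (by
      funext v
      have := congrFun (congrArg Subtype.val h) ((e a).symm v)
      simpa [trivV] using this))⟩
  let act : MulAction A Z :=
    { smul := tw
      one_smul := fun l => Subtype.ext (Subtype.ext (funext fun v => congrArg l.1.1
        (Subtype.ext (by show ((1 : A) : X)⁻¹ * v * ((1 : A) : X) = v; simp))))
      mul_smul := fun a b l => Subtype.ext (Subtype.ext (funext fun v => congrArg l.1.1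
        (Subtype.ext (by
          show ((a * b : A) : X)⁻¹ * v * ((a * b : A) : X) =
            (b : X)⁻¹ * ((a : X)⁻¹ * v * a) * b
          simp [mul_assoc])))) }
  rw [Finset.sum_subtype (p := fun l => l ≠ trivV V) _ (by simp) (fun l => F (mult χ l))]
  refine dvd_sum_of_free (A := A) (Z := Z) ?_ _ fun a l => congrArg F ?_
  · intro a l hl
    by_contra ha
    obtain ⟨hom, hhom⟩ := exists_hom_of_degree_one (IsIrrCharacter.isCharacter l.1.2)
      (irr_apply_one l.1)
    have hfix : ∀ v : V, hom (e a v * v⁻¹) = 1 := by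
      intro v
      have h1 : hom (e a v) = hom v := by
        rw [hhom]
        exact congrFun (congrArg (fun z : Z => z.1.1) hl) v
      rw [map_mul, h1, ← map_mul, mul_inv_cancel, map_one]
    have hsurj : Function.Surjective fun v : V => e a v * v⁻¹ := by
      refine Finite.injective_iff_surjective.1 fun v w hvw => ?_
      have h1 : e a (w⁻¹ * v) = w⁻¹ * v := by
        change e a v * v⁻¹ = e a w * w⁻¹ at hvw
        rw [mul_inv_eq_iff_eq_mul] at hvw
        rw [map_mul, map_inv, hvw, ← mul_assoc, ← mul_assoc, inv_mul_cancel, one_mul]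
      have h2 : (a : X)⁻¹ * ((w⁻¹ * v : V) : X) * a = ((w⁻¹ * v : V) : X) := congrArg Subtype.val h1
      by_contra hne
      refine ha (Subtype.ext (L.free a a.2 _ (w⁻¹ * v : V).2 (fun h => hne ?_) ?_))
      · exact (inv_mul_eq_one.1 (Subtype.ext h)).symm
      · conv_lhs => rw [← h2]
        group
    refine l.2 (Subtype.ext (funext fun v => ?_))
    obtain ⟨w, rfl⟩ := hsurj v
    rw [← hhom, hfix w]
    simp [trivV]
  · have h2 : classInner (resV V χ) ((a • l : Z).1 : V → ℂ) = classInner (resV V χ) (l.1 : V → ℂ) := by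
      conv_rhs => rw [← classInner_comp_equiv (e a)]
      congr 1
      funext v
      show χ v = χ ((a : X)⁻¹ * v * a)
      have := IsCharacter.isClassFunction hχ (v : X) (a : X)⁻¹
      rw [inv_inv] at this
      exact this.symm
    rw [mult_spec hχ, mult_spec hχ, Nat.cast_inj] at h2
    exact h2

/-- The arithmetic for a constituent of `θ θ̄`. -/
theorem false_of_small {n A a M R d : ℕ} (h : n * (a ^ 2 + R) < n * A + (a + M) ^ 2) (hMR : M ≤ R)
    (hdM : A ∣ M) (hdR : A ∣ R) (hR : R ≠ 0) (hM : M ≠ 0) (ha : 1 ≤ a) (hdeg : a + M ≤ A ^ 2)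
    (h2 : 2 * (d * A) ≤ n - 1) (hbig : n < (d + 1) ^ 2) (hA : 2 ≤ A) (hd0 : 0 < d) : False := by
  have h2' : 2 * (d * A) + 1 ≤ n := by
    have : 0 < d * A := Nat.mul_pos hd0 (by omega)
    omega
  have hd : 2 * A ≤ d + 1 := by
    have h1 : d * (2 * A) < d * (d + 2) := by
      rw [pow_two, show (d + 1) * (d + 1) = d * (d + 2) + 1 by ring] at hbig
      rw [mul_left_comm]
      omega
    have := Nat.lt_of_mul_lt_mul_left h1
    omega
  have hAA : 2 * A ≤ A * A := Nat.mul_le_mul_right A hA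
  have hn : 3 * A ^ 2 ≤ n := by
    have h1 : 2 * A * A ≤ (d + 1) * A := Nat.mul_le_mul_right A hd
    rw [pow_two]
    linarith
  obtain ⟨r, rfl⟩ := hdR
  obtain ⟨s, rfl⟩ := hdM
  have hr0 : r ≠ 0 := fun h0 => hR (by simp [h0])
  have hs0 : s ≠ 0 := fun h0 => hM (by simp [h0])
  rcases Nat.lt_or_ge r 2 with hr | hr
  · obtain rfl : r = 1 := by omega
    have hs1 := Nat.le_of_mul_le_mul_left hMR (by omega : 0 < A)
    obtain rfl : s = 1 := by omega
    simp only [mul_one] at h
    have h3 : n * a ^ 2 < (a + A) ^ 2 := by rw [mul_add] at h; omega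
    have h4 : a + A ≤ a * (1 + A) := by
      have := Nat.mul_le_mul_right A ha
      linarith
    have h5 : (a + A) ^ 2 ≤ a ^ 2 * (1 + A) ^ 2 := by rw [← mul_pow]; exact Nat.pow_le_pow_left h4 2
    have h6 : n < (1 + A) ^ 2 := Nat.lt_of_mul_lt_mul_left
      (calc a ^ 2 * n = n * a ^ 2 := mul_comm _ _
        _ < _ := h3.trans_le h5)
    rw [pow_two] at hn h6
    linarith
  · have hX : A * 2 ≤ A * r := Nat.mul_le_mul_left A hr
    obtain ⟨Y, hY⟩ : ∃ Y, a ^ 2 + A * r = A + Y := ⟨a ^ 2 + A * r - A, by omega⟩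
    rw [hY, mul_add] at h
    have h3 : n * Y < (a + A * s) ^ 2 := by omega
    have h4 : a + A * s ≤ 2 * Y := by
      have : a ≤ a ^ 2 := Nat.le_self_pow two_ne_zero a
      omega
    have h5 : (a + A * s) ^ 2 ≤ (2 * Y) ^ 2 := Nat.pow_le_pow_left h4 2
    have h6 : (a + A * s) ^ 2 ≤ (A ^ 2) ^ 2 := Nat.pow_le_pow_left hdeg 2
    have h7 : n < 4 * Y := Nat.lt_of_mul_lt_mul_left (a := Y)
      (calc Y * n = n * Y := mul_comm _ _
        _ < (2 * Y) ^ 2 := h3.trans_le h5
        _ = Y * (4 * Y) := by ring)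
    have h8 : n * n ≤ n * (4 * Y) := Nat.mul_le_mul_left _ h7.le
    have h9 : (3 * A ^ 2) * (3 * A ^ 2) ≤ n * n := Nat.mul_le_mul hn hn
    have h10 : 0 < (A ^ 2) ^ 2 := by positivity
    linarith

/-- A permutation character regular on `V` has few constituents. -/
theorem LocalTI.false_of_perm [Fintype X] (L : LocalTI V A N) {π : X → ℂ} (hπ : IsCharacter X π)
    (hπ1 : classInner π 1 = 1) {r d : ℕ} (hππ : classInner π π = r) (hr : d + 1 ≤ r)
    (hdegπ : π 1 = (Nat.card V : ℂ)) (hreg : ∀ v : V, v ≠ 1 → π v = 0)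
    (hgen : ∀ φ : X → ℂ, IsIrrCharacter X φ → (∀ v : V, φ v = φ 1) → φ = 1)
    (h2 : 2 * (d * Nat.card A) ≤ Nat.card V - 1) (hbig : Nat.card V < (d + 1) ^ 2)
    (hA : 2 ≤ Nat.card A) (hd0 : 0 < d) : False := by
  classical
  have := Fintype.ofFinite (IrrCharacter X)
  set n := Nat.card V
  set A' := Nat.card A
  set χ₀ : IrrCharacter X := ⟨1, isIrrCharacter_one⟩
  have hdeg' : ∀ χ : IrrCharacter X, ∃ k : ℕ, 0 < k ∧ (χ : X → ℂ) 1 = k := fun χ =>
    IsIrrCharacter.exists_degree χ.2
  choose deg hdegpos hdeg using hdeg'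
  have hsum : ∀ χ : IrrCharacter X, deg χ = ∑ l : IrrCharacter V, mult (χ : X → ℂ) l := fun χ => by
    have h := apply_one_eq_sum_mult (V := V) (IsIrrCharacter.isCharacter χ.2)
    rw [hdeg χ, Nat.cast_inj] at h
    exact h
  -- numerical data of an irreducible character
  have hdata : ∀ χ : IrrCharacter X, χ ≠ χ₀ → ∃ a M R : ℕ, a = mult (χ : X → ℂ) (trivV V) ∧
      R = ∑ l ∈ Finset.univ.erase (trivV V), mult (χ : X → ℂ) l ^ 2 ∧
      M = ∑ l ∈ Finset.univ.erase (trivV V), mult (χ : X → ℂ) l ∧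
      deg χ = a + M ∧ M ≤ R ∧ A' ∣ M ∧ A' ∣ R ∧ M ≠ 0 ∧
      n * (a ^ 2 + R) < n * A' + (a + M) ^ 2 := by
    intro χ hne
    refine ⟨_, _, _, rfl, rfl, rfl, ?_, ?_, ?_, ?_, ?_, ?_⟩
    · rw [hsum, Finset.add_sum_erase _ _ (Finset.mem_univ _)]
    · exact Finset.sum_le_sum fun l _ => Nat.le_self_pow two_ne_zero _
    · exact L.dvd_sum_mult (IsIrrCharacter.isCharacter χ.2) id
    · exact L.dvd_sum_mult (IsIrrCharacter.isCharacter χ.2) (· ^ 2)
    · intro h0
      refine hne (Subtype.ext (hgen _ χ.2 fun v => const_of_mult (IsIrrCharacter.isCharacter χ.2)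
        (fun l hl => ?_) v))
      exact Finset.sum_eq_zero_iff.1 h0 l (Finset.mem_erase.2 ⟨hl, Finset.mem_univ _⟩)
    · have h := L.norm_bound χ.2 (hdeg χ)
      rw [hsum χ] at h
      rw [← Finset.add_sum_erase _ _ (Finset.mem_univ (trivV V)),
        ← Finset.add_sum_erase _ (fun l => mult (χ : X → ℂ) l) (Finset.mem_univ (trivV V))] at h
      exact h
  -- multiplicities for a decomposed character
  have hlin : ∀ (c : IrrCharacter X → ℕ) (l : IrrCharacter V) (φ : X → ℂ),
      φ = ∑ χ : IrrCharacter X, (c χ : ℂ) • (χ : X → ℂ) →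
      classInner (resV V φ) (l : V → ℂ) = ((∑ χ, c χ * mult (χ : X → ℂ) l : ℕ) : ℂ) := by
    rintro c l φ rfl
    rw [show resV V (∑ χ : IrrCharacter X, (c χ : ℂ) • (χ : X → ℂ)) =
      ∑ χ : IrrCharacter X, (c χ : ℂ) • resV V (χ : X → ℂ) from by
        funext v; simp [resV, Finset.sum_apply], classInner_sum_left, Nat.cast_sum]
    refine Finset.sum_congr rfl fun χ _ => ?_
    rw [classInner_smul_left, mult_spec (IsIrrCharacter.isCharacter χ.2), Nat.cast_mul]
  obtain ⟨c, hc, hc'⟩ := IsCharacter.decompose hπ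
  have hc0 : c χ₀ = 1 := by
    have := (hc' χ₀).symm.trans hπ1
    exact_mod_cast this
  have hone : ∀ l : IrrCharacter V, ∑ χ, c χ * mult (χ : X → ℂ) l = 1 := by
    intro l
    have h := hlin c l π hc
    have h1 : classInner (resV V π) (l : V → ℂ) = 1 := by
      rw [classInner, Finset.sum_eq_single (1 : V)]
      · simp [resV, irr_apply_one, hdegπ, n, Nat.card_eq_fintype_card]
      · intro v _ hv
        simp [resV, hreg v hv]
      · exact fun h' => absurd (Finset.mem_univ _) h'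
    rw [h1] at h
    exact_mod_cast h.symm
  have hfree : ∀ χ : IrrCharacter X, χ ≠ χ₀ → c χ ≠ 0 →
      c χ = 1 ∧ mult (χ : X → ℂ) (trivV V) = 0 ∧
      ∀ l : IrrCharacter V, mult (χ : X → ℂ) l ≤ 1 := by
    intro χ hne hcχ
    have hle : ∀ l : IrrCharacter V, c χ * mult (χ : X → ℂ) l ≤ 1 := fun l =>
      (Finset.single_le_sum (f := fun χ : IrrCharacter X => c χ * mult (χ : X → ℂ) l)
        (fun _ _ => Nat.zero_le _) (Finset.mem_univ χ)).trans (hone l).le
    refine ⟨?_, ?_, fun l => (Nat.le_mul_of_pos_left _ (Nat.pos_of_ne_zero hcχ)).trans (hle l)⟩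
    · have hpos : (∑ l : IrrCharacter V, mult (χ : X → ℂ) l) ≠ 0 := by
        rw [← hsum]; exact (hdegpos χ).ne'
      obtain ⟨l, -, hl⟩ := Finset.exists_ne_zero_of_sum_ne_zero hpos
      have := (Nat.le_mul_of_pos_right (c χ) (Nat.pos_of_ne_zero hl)).trans (hle l)
      omega
    · by_contra h0
      have h1 := Finset.sum_le_sum_of_subset (f := fun χ : IrrCharacter X =>
        c χ * mult (χ : X → ℂ) (trivV V)) (Finset.subset_univ {χ₀, χ})
      rw [Finset.sum_pair (Ne.symm hne), hone, hc0, show mult (χ₀ : X → ℂ) (trivV V) = 1 from mult_one (V := V)]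
        at h1
      have := Nat.mul_pos (Nat.pos_of_ne_zero hcχ) (Nat.pos_of_ne_zero h0)
      omega
  let S : Finset (IrrCharacter X) := (Finset.univ.erase χ₀).filter fun χ => c χ ≠ 0
  have hS : ∀ χ ∈ S, χ ≠ χ₀ ∧ c χ ≠ 0 := fun χ hχ => by simpa [S] using hχ
  have hcard : r = S.card + 1 := by
    have h := classInner_eq_sum (IsCharacter.isClassFunction hπ) π
    simp only [hππ, hc', map_natCast] at h
    have h' : r = ∑ χ, c χ * c χ := by exact_mod_cast h
    rw [h', ← Finset.add_sum_erase _ _ (Finset.mem_univ χ₀), hc0, add_comm]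
    congr 1
    rw [← Finset.sum_filter_of_ne (p := fun χ => c χ ≠ 0) (fun χ _ h h0 => h (by rw [h0, mul_zero]))]
    rw [Finset.card_eq_sum_ones]
    exact Finset.sum_congr rfl fun χ hχ => by
      rw [(hfree χ (hS χ hχ).1 (hS χ hχ).2).1]
  have hdegsum : ∑ χ ∈ S, deg χ + 1 ≤ n := by
    have h := congrFun hc 1
    have h1 : π 1 = (n : ℂ) := hdegπ
    simp only [Finset.sum_apply, Pi.smul_apply, smul_eq_mul, hdeg, h1] at h
    have h' : n = ∑ χ, c χ * deg χ := by exact_mod_cast h
    rw [h', ← Finset.add_sum_erase _ _ (Finset.mem_univ χ₀), hc0, one_mul, add_comm (∑ χ ∈ S, deg χ)]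
    refine Nat.add_le_add (hdegpos χ₀) ?_
    refine le_trans (le_of_eq (Finset.sum_congr rfl fun χ hχ => ?_))
      (Finset.sum_le_sum_of_subset (Finset.filter_subset _ _))
    rw [(hfree χ (hS χ hχ).1 (hS χ hχ).2).1, one_mul]
  obtain ⟨θ, hθS, hmin⟩ := S.exists_min_image deg (Finset.card_pos.1 (by omega))
  have hdθ : d * deg θ ≤ n - 1 := by
    have := Finset.card_nsmul_le_sum S deg (deg θ) hmin
    rw [smul_eq_mul] at this
    have h' : d * deg θ ≤ S.card * deg θ := Nat.mul_le_mul_right _ (by omega)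
    exact Nat.le_sub_of_add_le ((Nat.add_le_add_right (h'.trans this) 1).trans hdegsum)
  obtain ⟨hθne, hθc⟩ := hS θ hθS
  obtain ⟨-, hθa, hθm⟩ := hfree θ hθne hθc
  have hsq : ∀ l : IrrCharacter V, mult (θ : X → ℂ) l ^ 2 = mult (θ : X → ℂ) l := fun l => by
    have := hθm l
    interval_cases hm : mult (θ : X → ℂ) l <;> norm_num
  have hθdeg : deg θ = A' := by
    obtain ⟨a, M, R, ha, hR, hM, hdg, -, hdM, -, hM0, hb⟩ := hdata θ hθne
    rw [hθa] at ha
    subst ha
    rw [Finset.sum_congr rfl (fun l _ => hsq l), ← hM] at hR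
    rw [hR] at hb
    rw [zero_add] at hdg
    rw [zero_add] at hb
    rw [hdg] at hdθ ⊢
    obtain ⟨s, hs⟩ := hdM
    by_contra hne
    have hs2 : 2 ≤ s := by
      rcases Nat.lt_or_ge s 2 with h | h
      · interval_cases s
        · exact absurd (hs.trans (mul_zero _)) hM0
        · exact absurd (hs.trans (mul_one _)) hne
      · exact h
    have hM2 : M ≤ d + 1 := by
      by_contra hcon
      have : d * (d + 2) ≤ d * M := Nat.mul_le_mul_left _ (by omega)
      rw [pow_two, show (d + 1) * (d + 1) = d * (d + 2) + 1 by ring] at hbig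
      omega
    have h3 : n * (A' + A') ≤ n * M := Nat.mul_le_mul_left _ (by rw [hs]; nlinarith)
    rw [mul_add] at h3
    simp only [zero_pow two_ne_zero, zero_add] at hb
    have h4 : n * A' < M ^ 2 := by omega
    have h5 : M ^ 2 ≤ (d + 1) * M := by rw [sq]; exact Nat.mul_le_mul_right _ hM2
    have h6 : (d + 1) * M ≤ 2 * (d * M) := by nlinarith
    have h7 : n * 2 ≤ n * A' := Nat.mul_le_mul_left _ hA
    omega
  -- `θ θ̄` has a constituent with a fixed vector
  have hθ := IsIrrCharacter.isCharacter θ.2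
  let Φ : X → ℂ := (θ : X → ℂ) * fun g => conj ((θ : X → ℂ) g)
  have hΦ : IsCharacter X Φ := IsCharacter.mul hθ (IsCharacter.conj hθ)
  obtain ⟨e, he, he'⟩ := IsCharacter.decompose hΦ
  have he0 : e χ₀ = 1 := by
    have h : classInner Φ ((χ₀ : IrrCharacter X) : X → ℂ) = classInner (θ : X → ℂ) θ := by
      simp [classInner, Φ, χ₀]
    rw [he' χ₀, classInner_irr_self θ.2] at h
    exact_mod_cast h
  have hea : ∑ χ, e χ * mult (χ : X → ℂ) (trivV V) = A' := by
    have h := hlin e (trivV V) Φ he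
    have h1 : classInner (resV V Φ) ((trivV V : IrrCharacter V) : V → ℂ) =
        classInner (resV V (θ : X → ℂ)) (resV V (θ : X → ℂ)) := by
      simp [classInner, Φ, resV, trivV]
    rw [h1, classInner_resV_self hθ, Finset.sum_congr rfl (fun l _ => hsq l), ← hsum, hθdeg,
      Nat.cast_inj] at h
    exact h.symm
  obtain ⟨φ, hφne, hφe, hφa⟩ : ∃ φ, φ ≠ χ₀ ∧ e φ ≠ 0 ∧ mult (φ : X → ℂ) (trivV V) ≠ 0 := by
    by_contra hcon
    push Not at hcon
    rw [Finset.sum_eq_single χ₀ (fun χ _ hne => by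
      rcases Nat.eq_zero_or_pos (e χ) with h | h
      · rw [h, zero_mul]
      · rw [hcon χ hne h.ne', mul_zero]) (fun h => absurd (Finset.mem_univ _) h),
      he0, one_mul, show mult (χ₀ : X → ℂ) (trivV V) = 1 from mult_one (V := V)] at hea
    omega
  have hφdeg : deg φ ≤ A' ^ 2 := by
    have h := congrFun he 1
    simp only [Φ, Pi.mul_apply, Finset.sum_apply, Pi.smul_apply, smul_eq_mul, hdeg, hθdeg,
      map_natCast] at h
    have h' : A' * A' = ∑ χ, e χ * deg χ := by exact_mod_cast h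
    rw [sq, h']
    exact (Nat.le_mul_of_pos_left _ (Nat.pos_of_ne_zero hφe)).trans
      (Finset.single_le_sum (f := fun χ => e χ * deg χ) (fun _ _ => Nat.zero_le _)
        (Finset.mem_univ φ))
  obtain ⟨a, M, R, ha, -, -, hdg, hMR, hdM, hdR, hM0, hb⟩ := hdata φ hφne
  exact false_of_small hb hMR hdM hdR (fun h => hM0 (by omega)) hM0 (by omega) (hdg ▸ hφdeg)
    h2 hbig hA hd0

end Cfsg.Agent.DerangeIndex
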