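import Cfsg.Agent.Lib.DerangeIndex.Rigid
import Cfsg.Agent.Lib.DerangeIndex.CharLocal

/-!
# The character argument inside the normal closure of `Q`
-/

set_option autoImplicit false

namespace Cfsg.Agent.DerangeIndex

open MulAction Cfsg Cfsg.Agent.Char
open scoped IsMulCommutative

variable {G : Type*} [Group G] [Finite G] {Ω : Type*} [MulAction G Ω] [Finite Ω] [FaithfulSMul G Ω]
  [IsPretransitive G Ω] {q : ℕ} {Q : Subgroup G} {x : Ω}

local notation "𝒟" => Derangement.derGrp G Ω

/-- The final contradiction. -/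
theorem Core.false (K : Core G q Q x) : False := by
  classical
  have := Fact.mk K.prime
  have := K.reg.comm
  set Kc : Subgroup G := Subgroup.normalClosure (Q : Set G) with hKc
  have hKn : Kc.Normal := Subgroup.normalClosure_normal
  have hQK : Q ≤ Kc := fun u hu => Subgroup.subset_normalClosure hu
  have hKD : Kc ≤ 𝒟 := Subgroup.normalClosure_le_normal (fun u hu => K.reg.sylow.le hu)
  have hsyl : IsSylowIn q Q Kc :=
    ⟨hQK, K.reg.sylow.pgroup, fun R hR hRp => K.reg.sylow.max R (hR.trans hKD) hRp⟩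
  let V : Subgroup Kc := Q.subgroupOf Kc
  let A : Subgroup Kc := (stabY 𝒟 Q x).subgroupOf Kc
  let N : Subgroup Kc := (Subgroup.normalizer (Q : Set G)).subgroupOf Kc
  have : IsMulCommutative V := ⟨⟨fun a b => by
    refine Subtype.ext (Subtype.ext ?_)
    show (a : G) * (b : G) = (b : G) * (a : G)
    exact congrArg Subtype.val (mul_comm' (⟨(a : G), a.2⟩ : Q) ⟨(b : G), b.2⟩)⟩⟩
  have hinv : ∀ {g : G} {v : G}, g ∈ stabN Q x → v ∈ Q → g * v * g⁻¹ ∈ Q := fun hg hv =>
    (Subgroup.mem_normalizer_iff.1 hg.1 _).1 hv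
  have L : LocalTI V A N := by
    refine ⟨fun a ha => Subgroup.mem_normalizer_fintype fun v hv => hinv ha.1 hv,
      fun a ha v hv hv1 hc => Subtype.ext (K.semireg _ ha.1 v hv (congrArg Subtype.val hc)
        (fun h => hv1 (Subtype.ext h))), fun g v hv hv1 hg => ?_, ?_⟩
    · refine Subgroup.mem_normalizer_fintype fun u hu => ?_
      refine K.cent hg (fun h => hv1 ?_) (Derangement.derGrp_normal.conj_mem u
        (K.reg.sylow.le hu) g) ?_
      · exact Subtype.ext (conj_eq_one_iff.1 h)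
      · have hc : u * (v : G) = (v : G) * u :=
          congrArg Subtype.val (mul_comm' (⟨u, hu⟩ : Q) ⟨(v : G), hv⟩)
        show (g : G) * u * (g : G)⁻¹ * ((g : G) * v * (g : G)⁻¹) =
          (g : G) * v * (g : G)⁻¹ * ((g : G) * u * (g : G)⁻¹)
        calc (g : G) * u * (g : G)⁻¹ * ((g : G) * v * (g : G)⁻¹)
            = (g : G) * (u * (v : G)) * (g : G)⁻¹ := by group
          _ = (g : G) * ((v : G) * u) * (g : G)⁻¹ := by rw [hc]
          _ = _ := by group
    · rw [← Nat.card_prod]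
      refine (Nat.card_congr (Equiv.ofBijective (fun p : V × A =>
        (⟨(p.1 : Kc) * p.2, N.mul_mem (Subgroup.le_normalizer p.1.2) p.2.2.1.1⟩ : N))
        ⟨fun a b hab => ?_, fun g => ?_⟩)).symm
      · have h1 : ((a.1 : Kc) : G) * ((a.2 : Kc) : G) = ((b.1 : Kc) : G) * ((b.2 : Kc) : G) :=
          congrArg (fun z : N => ((z : Kc) : G)) hab
        have h2 := congrArg (· • x) h1
        have hax : ((a.2 : Kc) : G) • x = x := a.2.2.1.2
        have hbx : ((b.2 : Kc) : G) • x = x := b.2.2.1.2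
        simp only [mul_smul, hax, hbx] at h2
        have h3 : ((a.1 : Kc) : G) = ((b.1 : Kc) : G) := K.reg.smul_injOn a.1.2 b.1.2 h2
        rw [h3, mul_right_inj] at h1
        exact Prod.ext (Subtype.ext (Subtype.ext h3)) (Subtype.ext (Subtype.ext h1))
      · obtain ⟨u, hu, hux⟩ := K.reg.trans (((g : Kc) : G) • x)
        refine ⟨(⟨⟨u, hQK hu⟩, hu⟩, ⟨⟨u, hQK hu⟩⁻¹ * (g : Kc), ⟨?_, ?_⟩, ?_⟩), ?_⟩
        · exact Subgroup.mul_mem (Subgroup.normalizer (Q : Set G))
            (Subgroup.inv_mem _ (Subgroup.le_normalizer hu)) g.2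
        · show (u⁻¹ * ((g : Kc) : G)) • x = x
          rw [mul_smul, ← hux, inv_smul_smul]
        · exact hKD (Subgroup.mul_mem Kc (Subgroup.inv_mem Kc (hQK hu)) (g : Kc).2)
        · exact Subtype.ext (mul_inv_cancel_left _ _)
  have hVQ : Nat.card V = Nat.card Ω := by
    rw [Nat.card_congr (Subgroup.subgroupOfEquivOfLe hQK).toEquiv, K.reg.card_eq]
  have hAY : Nat.card A ≤ Nat.card (stabY 𝒟 Q x) :=
    Nat.card_le_card_of_injective (fun a : A => (⟨((a : Kc) : G), a.2⟩ : stabY 𝒟 Q x))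
      fun a b h => Subtype.ext (Subtype.ext (congrArg Subtype.val h :))
  have hA2 : 2 ≤ Nat.card A := by
    have hne : A ≠ ⊥ := fun h => by
      have hbot := K.inf_stab_eq_bot hQK hKD fun c hc hcx hcN =>
        congrArg Subtype.val ((Subgroup.eq_bot_iff_forall _).1 h ⟨c, hc⟩ ⟨⟨hcN, hcx⟩, hKD hc⟩)
      refine K.not_normal fun g => ?_
      have hKQ : Kc = Q := by
        refine le_antisymm (fun c hc => ?_) hQK
        obtain ⟨u, hu, hux⟩ := K.reg.trans (c • x)
        have h1 := (Subgroup.eq_bot_iff_forall _).1 hbot (u⁻¹ * c)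
          ⟨Subgroup.mul_mem Kc (Subgroup.inv_mem Kc (hQK hu)) hc,
            show (u⁻¹ * c) • x = x by rw [mul_smul, ← hux, inv_smul_smul]⟩
        exact inv_mul_eq_one.1 h1 ▸ hu
      rw [← hKQ, Subgroup.normalizer_eq_top]
      trivial
    exact (Subgroup.one_lt_card_iff_ne_bot A).2 hne
  let _ := Fintype.ofFinite Kc
  let _ := Fintype.ofFinite V
  let _ := Fintype.ofFinite (IrrCharacter V)
  have : IsPretransitive Kc Ω := ⟨fun a b => by
    obtain ⟨u, hu, rfl⟩ := K.reg.trans a
    obtain ⟨v, hv, rfl⟩ := K.reg.trans b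
    refine ⟨⟨v * u⁻¹, mul_mem (hQK hv) (inv_mem (hQK hu))⟩, ?_⟩
    show (v * u⁻¹) • u • x = v • x
    rw [mul_smul, inv_smul_smul]⟩
  have : Nonempty Ω := ⟨x⟩
  let π : Kc → ℂ := fun g => (Nat.card (fixedBy Ω g) : ℂ)
  have hππ : classInner π π = (Nat.card (orbitRel.Quotient Kc (Ω × Ω)) : ℂ) := by
    rw [← classInner_fixedPoints_one (G := Kc) (Ω × Ω)]
    rw [classInner, classInner]
    congr 1
    refine Finset.sum_congr rfl fun g _ => ?_
    simp only [Derangement.card_fixedBy_prod, π, Nat.cast_mul, map_natCast, Pi.one_apply, map_one,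
      mul_one]
  have hrank : (Derangement.derGrp G Ω).index + 1 ≤ Nat.card (orbitRel.Quotient Kc (Ω × Ω)) := by
    have h1 : Nat.card (orbitRel.Quotient (Derangement.derGrp G Ω) (Ω × Ω)) ≤
        Nat.card (orbitRel.Quotient Kc (Ω × Ω)) := by
      refine Nat.card_le_card_of_surjective (Quotient.map' id fun a b hab => ?_) fun z => ?_
      · obtain ⟨⟨g, hg⟩, hgab⟩ := hab
        exact ⟨⟨g, hKD hg⟩, hgab⟩
      · induction z using Quotient.inductionOn'
        exact ⟨Quotient.mk'' _, rfl⟩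
    have h2 : 2 ≤ Nat.card (orbitRel.Quotient G (Ω × Ω)) := by
      have : Nontrivial Ω := Finite.one_lt_card_iff_nontrivial.1 K.one_lt
      obtain ⟨p, hp⟩ := exists_ne x
      have : Nontrivial (orbitRel.Quotient G (Ω × Ω)) := by
        refine ⟨⟨Quotient.mk'' (x, x), Quotient.mk'' (x, p), fun h => ?_⟩⟩
        obtain ⟨g, hg⟩ := Quotient.exact' h
        have e1 : g • x = x := congrArg Prod.fst hg
        have e2 : g • p = x := congrArg Prod.snd hg
        exact hp (MulAction.injective g (e2.trans e1.symm))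
      exact Finite.one_lt_card
    have h3 := Derangement.rank_formula (G := G) (Ω := Ω)
    have h4 : 1 * (Derangement.derGrp G Ω).index ≤
        (Nat.card (orbitRel.Quotient G (Ω × Ω)) - 1) * (Derangement.derGrp G Ω).index :=
      Nat.mul_le_mul_right _ (by omega)
    have h5 : (Derangement.derGrp G Ω).index ≠ 0 := Subgroup.index_ne_zero_of_finite
    omega
  refine L.false_of_perm (isCharacter_fixedPoints Ω) ?_ hππ hrank ?_ ?_ ?_ ?_ ?_ hA2 ?_
  · rw [classInner_fixedPoints_one, Derangement.card_orbits_eq_one, Nat.cast_one]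
  · rw [hVQ, Nat.cast_inj]
    rw [fixedBy_one_eq_univ, Nat.card_univ]
  · intro v hv
    rw [Nat.cast_eq_zero, Nat.card_eq_zero]
    refine Or.inl ⟨fun p => hv ?_⟩
    obtain ⟨u, hu, hup⟩ := K.reg.trans p.1
    have h1 : ((v : Kc) : G) • p.1 = p.1 := p.2
    rw [← hup, ← mul_smul] at h1
    have h2 := K.reg.smul_injOn (Q.mul_mem v.2 hu) hu h1
    exact Subtype.ext (Subtype.ext (mul_eq_right.1 h2))
  · intro φ hφ hV
    obtain ⟨k, ρ, hρi, hρ⟩ := hφ
    have hker : ∀ v : V, ρ (v : Kc) = 1 := fun v => by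
      refine (character_eq_finrank_iff ρ _).1 ?_
      rw [hρ, hV v, ← hρ, Representation.char_one]
    have hall : ∀ (g : G) (hg : g ∈ Kc), ρ ⟨g, hg⟩ = 1 := by
      have hle : Kc ≤ (ρ.ker).map Kc.subtype := by
        refine (Subgroup.closure_le _).2 fun z hz => ?_
        rw [Group.mem_conjugatesOfSet_iff] at hz
        obtain ⟨u, hu, hz⟩ := hz
        obtain ⟨c, hc⟩ := isConj_iff.1 hz
        obtain ⟨δ, hδ, hδN⟩ := hsyl.frattini (h := c) (fun w hw => hKn.conj_mem w hw c)
        have hu' : δ * c * u * (δ * c)⁻¹ ∈ Q := (Subgroup.mem_normalizer_iff.1 hδN u).1 hu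
        refine ⟨⟨δ, hδ⟩⁻¹ * ⟨δ * c * u * (δ * c)⁻¹, hQK hu'⟩ * ⟨δ, hδ⟩, ?_, ?_⟩
        · show ρ _ = 1
          rw [map_mul, map_mul, hker ⟨⟨_, hQK hu'⟩, hu'⟩, mul_one, ← map_mul, inv_mul_cancel, map_one]
        · show δ⁻¹ * (δ * c * u * (δ * c)⁻¹) * δ = z
          rw [← hc]
          group
      intro g hg
      obtain ⟨g', hg', he⟩ := hle hg
      rw [show (⟨g, hg⟩ : Kc) = g' from Subtype.ext he.symm]
      exact hg'
    have hirr : IsIrrCharacter Kc φ := ⟨k, ρ, hρi, hρ⟩
    have hone : classInner φ φ = φ 1 * φ 1 := by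
      have hc : ∀ g : Kc, φ g = φ 1 := fun g => by
        rw [← hρ, Representation.character, hall g g.2, Representation.char_one,
          Module.End.one_eq_id, LinearMap.trace_id]
      rw [classInner, Finset.sum_congr rfl (fun g _ => by rw [hc g]), Finset.sum_const,
        Finset.card_univ, nsmul_eq_mul, ← Nat.card_eq_fintype_card,
        inv_mul_cancel_left₀ (Nat.cast_ne_zero.2 Nat.card_pos.ne'),
        IsCharacter.conj_apply_one (IsIrrCharacter.isCharacter hirr)]
    rw [classInner_irr_self hirr] at hone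
    have hk1 : φ 1 = 1 := by
      obtain ⟨m, hm, hm'⟩ := IsIrrCharacter.exists_degree hirr
      rw [hm'] at hone ⊢
      have h' : 1 = m * m := by exact_mod_cast hone
      rw [Nat.eq_one_of_mul_eq_one_right h'.symm, Nat.cast_one]
    funext g
    rw [← hρ, Representation.character, hall g g.2, Module.End.one_eq_id, LinearMap.trace_id]
    rw [← hρ, Representation.char_one] at hk1
    exact hk1
  · rw [hVQ]
    exact le_trans (Nat.mul_le_mul_left _ (Nat.mul_le_mul_left _ hAY)) K.two_mul_le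
  · rw [hVQ]
    exact K.big
  · exact Nat.pos_of_ne_zero Subgroup.index_ne_zero_of_finite

end Cfsg.Agent.DerangeIndex
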