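import Cfsg.Agent.Lib.DerangeIndex.Split
import Cfsg.Agent.Lib.PGroup.Basic

/-!
# A Sylow subgroup with a covering fixed-point normalizer

For a split normal subgroup `D` and a prime `q` there are a Sylow `q`-subgroup `Q` of `D` and a
point `x` such that `N(Q) ∩ G_x` covers `G/D` and `Q ∩ G_x` is a Sylow `q`-subgroup of `D_x`.
-/

set_option autoImplicit false

namespace Cfsg.Agent.DerangeIndex

open MulAction

theorem card_orbit_pos {K : Type*} [Group K] {Y : Type*} [MulAction K Y] [Finite Y] (y : Y) :
    0 < Nat.card (orbit K y) :=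
  have : Nonempty (orbit K y) := ⟨⟨y, mem_orbit_self y⟩⟩
  Nat.card_pos

theorem card_orbit_mul_stabilizer (K : Type*) [Group K] {Y : Type*} [MulAction K Y] (y : Y) :
    Nat.card (orbit K y) * Nat.card (stabilizer K y) = Nat.card K := by
  rw [← Nat.card_prod]
  exact Nat.card_congr (orbitProdStabilizerEquivGroup K y)

/-- If every element outside `L` fixes exactly one point, then a point stabilizer covers `K/L`. -/
theorem exists_covering_fixed {K : Type*} [Group K] [Finite K] {Y : Type*} [MulAction K Y]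
    [Finite Y] (L : Subgroup K) [L.Normal] (hL : L ≠ ⊤)
    (h : ∀ g : K, g ∉ L → Nat.card (fixedBy Y g) = 1) :
    ∃ y : Y, Covers L (stabilizer K y) := by
  classical
  have := Fintype.ofFinite K
  have := Fintype.ofFinite Y
  have huniq : ∀ g : K, g ∉ L → ∀ y y' : Y, g • y = y → g • y' = y' → y = y' := by
    intro g hg y y' hy hy'
    obtain ⟨hss, -⟩ := Nat.card_eq_one_iff_unique.1 (h g hg)
    exact congrArg Subtype.val (@Subsingleton.elim _ hss (⟨y, hy⟩ : fixedBy Y g) ⟨y', hy'⟩)
  have hex : ∀ g : K, g ∉ L → ∃ y : Y, g • y = y := fun g hg => by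
    obtain ⟨-, ⟨⟨y, hy⟩⟩⟩ := Nat.card_eq_one_iff_unique.1 (h g hg)
    exact ⟨y, hy⟩
  -- `A y` counts the elements outside `L` fixing `y`
  let A : Y → ℕ := fun y => (Finset.univ.filter fun g : K => g ∉ L ∧ g • y = y).card
  let B : Y → ℕ := fun y => (Finset.univ.filter fun g : K => g ∈ L ∧ g • y = y).card
  have hAB : ∀ y, A y + B y = Nat.card (stabilizer K y) := fun y => by
    rw [Nat.card_eq_fintype_card, Fintype.card_of_subtype
      (Finset.univ.filter fun g : K => g • y = y) (by simp)]
    rw [← Finset.card_union_of_disjoint]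
    · congr 1
      ext g
      simp only [Finset.mem_union, Finset.mem_filter, Finset.mem_univ, true_and]
      tauto
    · rw [Finset.disjoint_left]
      simp only [Finset.mem_filter]
      tauto
  have hBL : ∀ y, B y = Nat.card (stabilizer L y) := fun y => by
    rw [Nat.card_congr (show stabilizer L y ≃ {g : K // g ∈ L ∧ g • y = y} from
      { toFun := fun g => ⟨(g.1 : K), g.1.2, g.2⟩
        invFun := fun g => ⟨⟨g.1, g.2.1⟩, g.2.2⟩
        left_inv := fun _ => rfl
        right_inv := fun _ => rfl }),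
      Nat.card_eq_fintype_card, Fintype.card_of_subtype
      (Finset.univ.filter fun g : K => g ∈ L ∧ g • y = y) (by simp)]
  have hhalf : ∀ (g : K) (y : Y), g ∉ L → g • y = y → B y ≤ A y := by
    intro g y hg hy
    refine Finset.card_le_card_of_injOn (g * ·) ?_ (fun a _ b _ hab => mul_left_cancel hab)
    intro a ha
    simp only [Finset.coe_filter, Finset.mem_univ, true_and, Set.mem_ofPred_eq] at ha ⊢
    refine ⟨fun h' => hg ?_, by rw [mul_smul, ha.2, hy]⟩
    have := mul_mem h' (inv_mem ha.1)
    rwa [mul_inv_cancel_right] at this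
  -- the sets of elements outside `L` fixing different points are disjoint
  have hsum : ∀ O : Finset Y, ∑ y ∈ O, A y ≤
      (Finset.univ.filter fun g : K => g ∉ L).card := by
    intro O
    rw [← Finset.card_biUnion]
    · refine Finset.card_le_card fun g hg => ?_
      simp only [Finset.mem_biUnion, Finset.mem_filter, Finset.mem_univ, true_and] at hg ⊢
      obtain ⟨y, -, hg, -⟩ := hg
      exact hg
    · intro y _ y' _ hne
      rw [Function.onFun, Finset.disjoint_left]
      intro g hg hg'
      simp only [Finset.mem_filter, Finset.mem_univ, true_and] at hg hg'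
      exact hne (huniq g hg.1 y y' hg.2 hg'.2)
  have hout : (Finset.univ.filter fun g : K => g ∉ L).card + Nat.card L = Nat.card K := by
    rw [Nat.card_eq_fintype_card, Nat.card_eq_fintype_card,
      Fintype.card_of_subtype (Finset.univ.filter (fun g : K => g ∈ L)) (by simp),
      add_comm, Finset.card_filter_add_card_filter_not, Finset.card_univ]
  have hKorb : ∀ y z : Y, z ∈ orbit K y →
      Nat.card (orbit K y) * (A z + B z) = Nat.card K := by
    intro y z hz
    rw [hAB, ← orbit_eq_iff.2 hz, card_orbit_mul_stabilizer]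
  -- the orbit of one fixed point
  obtain ⟨g₀, hg₀⟩ : ∃ g : K, g ∉ L := not_forall.1 fun h' => hL (eq_top_iff.2 fun g _ => h' g)
  obtain ⟨y, hy⟩ := hex g₀ hg₀
  have hmem : ∀ (g : K) (z : Y), z ∈ orbit K y → g • z ∈ orbit K y := fun g z hz => by
    rw [← orbit_eq_iff.2 hz]
    exact mem_orbit z g
  have hbig : ∀ (g : K) (w : Y), g ∉ L → g • w = w →
      Nat.card K ≤ 2 * ∑ z ∈ (orbit K w).toFinset, A z := by
    intro g w hg hw
    calc Nat.card K = ∑ z ∈ (orbit K w).toFinset, (A z + B z) := by
          have hcard : (orbit K w).toFinset.card = Nat.card (orbit K w) := by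
            rw [Set.toFinset_card, Nat.card_eq_fintype_card]
          have hpos : 0 < Nat.card (orbit K w) := card_orbit_pos w
          rw [Finset.sum_const_nat (m := Nat.card K / Nat.card (orbit K w)), hcard,
            Nat.mul_div_cancel']
          · exact Dvd.intro _ (hKorb w w (mem_orbit_self w))
          · intro z hz
            exact (Nat.div_eq_of_eq_mul_right hpos (hKorb w z (Set.mem_toFinset.1 hz)).symm).symm
      _ ≤ ∑ z ∈ (orbit K w).toFinset, 2 * A z := by
          refine Finset.sum_le_sum fun z hz => ?_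
          obtain ⟨k, rfl⟩ := Set.mem_toFinset.1 hz
          have := hhalf (k * g * k⁻¹) (k • w) (fun h' => hg ?_) ?_
          · change A (k • w) + B (k • w) ≤ 2 * A (k • w)
            omega
          · have := ‹L.Normal›.conj_mem' _ h' k
            simpa [mul_assoc] using this
          · simp [mul_smul, hw]
      _ = _ := (Finset.mul_sum _ _ _).symm
  -- every element outside `L` fixes a point of this orbit
  have hall : ∀ g : K, g ∉ L → ∃ z ∈ orbit K y, g • z = z := by
    intro g hg
    obtain ⟨w, hw⟩ := hex g hg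
    by_contra hcon
    push Not at hcon
    have hwy : w ∉ orbit K y := fun h' => hcon w h' hw
    have h1 := hbig g₀ y hg₀ hy
    have h2 := hbig g w hg hw
    have h3 := hsum ((orbit K y).toFinset ∪ (orbit K w).toFinset)
    rw [Finset.sum_union] at h3
    · have := Nat.card_pos (α := L)
      omega
    · rw [Finset.disjoint_left]
      intro z hz hz'
      rw [Set.mem_toFinset] at hz hz'
      refine hwy ?_
      rw [← orbit_eq_iff.2 hz, orbit_eq_iff.2 hz']
      exact mem_orbit_self w
  have hnum : ∑ z ∈ (orbit K y).toFinset, A z =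
      (Finset.univ.filter fun g : K => g ∉ L).card := by
    refine le_antisymm (hsum _) ?_
    refine le_trans (Finset.card_le_card ?_) Finset.card_biUnion_le
    intro g hg
    simp only [Finset.mem_biUnion, Finset.mem_filter, Finset.mem_univ, true_and,
      Set.mem_toFinset] at hg ⊢
    obtain ⟨z, hz, hz'⟩ := hall g hg
    exact ⟨z, hz, hg, hz'⟩
  -- hence `L` is transitive on this orbit
  have hsumB : ∑ z ∈ (orbit K y).toFinset, B z = Nat.card L := by
    have h1 : ∑ z ∈ (orbit K y).toFinset, (A z + B z) = Nat.card K := by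
      have hcard : (orbit K y).toFinset.card = Nat.card (orbit K y) := by
        rw [Set.toFinset_card, Nat.card_eq_fintype_card]
      have hpos : 0 < Nat.card (orbit K y) := card_orbit_pos y
      rw [Finset.sum_const_nat (m := Nat.card K / Nat.card (orbit K y)), hcard,
        Nat.mul_div_cancel']
      · exact Dvd.intro _ (hKorb y y (mem_orbit_self y))
      · intro z hz
        exact (Nat.div_eq_of_eq_mul_right hpos (hKorb y z (Set.mem_toFinset.1 hz)).symm).symm
    rw [Finset.sum_add_distrib, hnum] at h1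
    omega
  have hsub : (orbit L y).toFinset ⊆ (orbit K y).toFinset := by
    intro z hz
    rw [Set.mem_toFinset] at hz ⊢
    obtain ⟨l, rfl⟩ := hz
    exact mem_orbit y (l : K)
  have hsumL : ∑ z ∈ (orbit L y).toFinset, B z = Nat.card L := by
    have hpos : 0 < Nat.card (orbit L y) := card_orbit_pos y
    have hc : ∀ z ∈ (orbit L y).toFinset, B z = Nat.card L / Nat.card (orbit L y) := by
      intro z hz
      rw [Set.mem_toFinset] at hz
      rw [hBL, ← orbit_eq_iff.2 hz]
      exact (Nat.div_eq_of_eq_mul_right (card_orbit_pos z)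
        (card_orbit_mul_stabilizer L z).symm).symm
    rw [Finset.sum_const_nat hc, Set.toFinset_card, ← Nat.card_eq_fintype_card,
      Nat.mul_div_cancel']
    exact Dvd.intro _ (card_orbit_mul_stabilizer L y)
  refine ⟨y, fun g => ?_⟩
  have hgy : g • y ∈ orbit L y := by
    by_contra hc
    have hlt : ∑ z ∈ (orbit L y).toFinset, B z < ∑ z ∈ (orbit K y).toFinset, B z := by
      refine Finset.sum_lt_sum_of_subset hsub (i := g • y) (Set.mem_toFinset.2 (mem_orbit y g))
        (fun h' => hc (Set.mem_toFinset.1 h')) ?_ (fun _ _ _ => Nat.zero_le _)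
      rw [hBL]
      exact Nat.card_pos
    omega
  obtain ⟨l, hl⟩ := hgy
  refine ⟨(l : K)⁻¹ * g, ?_, ?_⟩
  · rw [mem_stabilizer_iff, mul_smul, ← hl]
    exact inv_smul_smul (l : K) y
  · rw [show ((l : K)⁻¹ * g)⁻¹ * g = g⁻¹ * l * g by group]
    exact ‹L.Normal›.conj_mem' l l.2 g

variable {G : Type*} [Group G]

/-- `U` is a Sylow `q`-subgroup of `N`. -/
structure IsSylowIn (q : ℕ) (U N : Subgroup G) : Prop where
  le : U ≤ N
  pgroup : IsPGroup q U
  max : ∀ R : Subgroup G, R ≤ N → IsPGroup q R → Nat.card R ≤ Nat.card U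

theorem card_map_conj (U : Subgroup G) (h : G) :
    Nat.card (U.map (MulAut.conj h).toMonoidHom) = Nat.card U :=
  Subgroup.card_map_of_injective (MulAut.conj h).injective

theorem exists_isSylowIn [Finite G] (q : ℕ) [Fact q.Prime] (R N : Subgroup G) (hR : R ≤ N)
    (hRp : IsPGroup q R) : ∃ U, R ≤ U ∧ IsSylowIn q U N := by
  have hR' : IsPGroup q (R.subgroupOf N) :=
    hRp.of_equiv (Subgroup.subgroupOfEquivOfLe hR).symm
  obtain ⟨P, hP⟩ := hR'.exists_le_sylow
  refine ⟨(P : Subgroup N).map N.subtype, ?_, Subgroup.map_subtype_le _, P.2.map _, ?_⟩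
  · intro r hr
    exact ⟨⟨r, hR hr⟩, hP (Subgroup.mem_subgroupOf.2 hr), rfl⟩
  · intro T hT hTp
    rw [Subgroup.card_map_of_injective N.subtype_injective]
    have hT' : IsPGroup q (T.subgroupOf N) :=
      hTp.of_equiv (Subgroup.subgroupOfEquivOfLe hT).symm
    obtain ⟨P', hP'⟩ := hT'.exists_le_sylow
    rw [← Nat.card_congr (Subgroup.subgroupOfEquivOfLe hT).toEquiv,
      Nat.card_congr (Sylow.equiv P P').toEquiv]
    exact Nat.le_of_dvd Nat.card_pos (Subgroup.card_dvd_of_le hP')

/-- The Frattini argument. -/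
theorem IsSylowIn.frattini [Finite G] {q : ℕ} [Fact q.Prime] {U N : Subgroup G}
    (hU : IsSylowIn q U N) {h : G} (hN : ∀ v ∈ N, h * v * h⁻¹ ∈ N) :
    ∃ δ ∈ N, δ * h ∈ Subgroup.normalizer (U : Set G) := by
  let U' := U.map (MulAut.conj h).toMonoidHom
  have hU'N : U' ≤ N := by
    rintro _ ⟨u, hu, rfl⟩
    simpa using hN u (hU.le hu)
  have hsyl : ∀ V : Subgroup G, V ≤ N → IsPGroup q V → Nat.card V = Nat.card U →
      ∃ P : Sylow q N, (P : Subgroup N) = V.subgroupOf N := by
    intro V hV hVp hVc
    obtain ⟨P, hP⟩ := (hVp.of_equiv (Subgroup.subgroupOfEquivOfLe hV).symm).exists_le_sylow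
    refine ⟨P, (PGroup.eq_of_le_of_card_le hP ?_).symm⟩
    rw [Nat.card_congr (Subgroup.subgroupOfEquivOfLe hV).toEquiv, hVc,
      ← Subgroup.card_map_of_injective N.subtype_injective]
    exact hU.max _ (Subgroup.map_subtype_le _) (P.2.map _)
  obtain ⟨P, hP⟩ := hsyl U hU.le hU.pgroup rfl
  obtain ⟨P', hP'⟩ := hsyl U' hU'N (hU.pgroup.map _) (card_map_conj U h)
  obtain ⟨n, hn⟩ := exists_smul_eq N P' P
  refine ⟨n, n.2, ?_⟩
  refine Subgroup.mem_normalizer_fintype ?_
  · rintro u hu
    have hu' : (⟨h * u * h⁻¹, hN u (hU.le hu)⟩ : N) ∈ (P' : Subgroup N) := by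
      rw [hP', Subgroup.mem_subgroupOf]
      exact ⟨u, hu, rfl⟩
    have h2 : n * (⟨h * u * h⁻¹, hN u (hU.le hu)⟩ : N) * n⁻¹ ∈ (P : Subgroup N) := by
      rw [← hn]
      exact ⟨_, hu', rfl⟩
    rw [hP, Subgroup.mem_subgroupOf] at h2
    simpa [mul_assoc] using h2

end Cfsg.Agent.DerangeIndex
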