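import Cfsg.Agent.Lib.DerangeIndex.CharBound
import Cfsg.Agent.Lib.FPF.Kernel

/-!
# The symplectic case for every degree

Orbit counting on the vectors with a large stabiliser in `coreK` removes the bound `2^256`.
-/

set_option autoImplicit false

namespace Cfsg.Agent.DerangeIndex

open Subgroup
open scoped commutatorElement

/-- In a nonabelian finite group at most three quarters of the elements square to one. -/
theorem four_mul_card_sq_one_le {K : Type*} [Group K] [Fintype K] [DecidableEq K]
    (hK : ∃ a b : K, a * b ≠ b * a) :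
    4 * (Finset.univ.filter fun x : K => x * x = 1).card ≤ 3 * Fintype.card K := by
  classical
  by_contra hlt
  push Not at hlt
  set s := Finset.univ.filter fun x : K => x * x = 1 with hs
  have hbig : ∀ H : Subgroup K, Fintype.card K < 2 * Nat.card H → H = ⊤ := by
    intro H hH
    refine index_eq_one.1 ?_
    have h := H.card_mul_index
    have hpos : H.index ≠ 0 := index_ne_zero_of_finite
    rw [← Nat.card_eq_fintype_card, ← h] at hH
    by_contra h1
    have : Nat.card H * 2 ≤ Nat.card H * H.index := Nat.mul_le_mul_left _ (by omega)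
    omega
  have hcent : ∀ x ∈ s, x ∈ center K := by
    intro x hx
    have hxx : x * x = 1 := by simpa [hs] using hx
    have hU : (s ∩ s.image (x * ·)) ⊆
        Finset.univ.filter (fun y : K => y ∈ centralizer ({x} : Set K)) := by
      intro y hy
      obtain ⟨hy1, hy2⟩ := Finset.mem_inter.1 hy
      obtain ⟨w, hw, rfl⟩ := Finset.mem_image.1 hy2
      have hww : w * w = 1 := by simpa [hs] using hw
      have hyy : x * w * (x * w) = 1 := by simpa [hs] using hy1
      have hxw : x * w = w * x := by
        calc x * w = x * (x * w * (x * w)) * w := by rw [hyy, mul_one]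
          _ = (x * x) * (w * x) * (w * w) := by group
          _ = w * x := by rw [hxx, hww, one_mul, mul_one]
      simp only [Finset.mem_filter, Finset.mem_univ, true_and, mem_centralizer_singleton_iff]
      calc x * w * x = x * (w * x) := mul_assoc _ _ _
        _ = x * (x * w) := by rw [hxw]
    have h1 := Finset.card_le_card hU
    have h2 := Finset.card_union_add_card_inter s (s.image (x * ·))
    rw [Finset.card_image_of_injective _ (mul_right_injective x)] at h2
    have h3 := Finset.card_le_univ (s ∪ s.image (x * ·))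
    rw [← Fintype.card_of_subtype (Finset.univ.filter fun y : K => y ∈ centralizer ({x} : Set K))
      (by simp) (p := fun y => y ∈ centralizer ({x} : Set K)), ← Nat.card_eq_fintype_card] at h1
    have htop := hbig (centralizer ({x} : Set K)) (by omega)
    rw [mem_center_iff]
    intro g
    exact mem_centralizer_singleton_iff.1 (htop ▸ mem_top g)
  have h4 : s.card ≤ Nat.card (center K) := by
    rw [Nat.card_eq_fintype_card, Fintype.card_of_subtype
      (Finset.univ.filter fun y : K => y ∈ center K) (by simp)]
    exact Finset.card_le_card fun x hx => by simp [hcent x hx]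
  have htop := hbig (center K) (by omega)
  obtain ⟨a, b, hab⟩ := hK
  exact hab ((mem_center_iff.1 (htop ▸ mem_top b)) a)

variable {G : Type*} [Group G] {V H Y H' P A : Subgroup G} {p : ℕ} {z : G}

namespace PSetting

/-- The elements of order `p` of `coreK` outside `⟨z⟩`. -/
noncomputable def badSet [Fintype G] (P : Subgroup G) (p : ℕ) (z : G) : Finset G := by
  classical
  exact Finset.univ.filter fun g : G => g ∈ coreK P p z ∧ g ^ p = 1 ∧ g ∉ zpowers z

theorem mem_badSet [Fintype G] {g : G} :
    g ∈ badSet P p z ↔ g ∈ coreK P p z ∧ g ^ p = 1 ∧ g ∉ zpowers z := by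
  classical
  simp [badSet]

theorem zgen [Finite G] (S : PSetting V H Y H' P p z) {c : G} (hc : c ∈ zpowers z) (hc1 : c ≠ 1) :
    zpowers c = zpowers z := by
  have := Fact.mk S.prime
  refine PGroup.eq_of_le_of_card_le (zpowers_le.2 hc) ?_
  obtain ⟨i, hi⟩ := hc
  replace hi : z ^ i = c := hi
  rw [S.card_zpowers_eq, Nat.card_zpowers, orderOf_eq_prime (p := p) ?_ hc1]
  rw [← hi, ← zpow_natCast, ← zpow_mul, mul_comm, zpow_mul, zpow_natCast, S.zpow_p, one_zpow]

theorem eq_one_of_fix [Finite G] (S : PSetting V H Y H' P p z) {c v : G} (hc : c ∈ zpowers z) (hv : v ∈ V)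
    (hv1 : v ≠ 1) (hcv : c * v = v * c) : c = 1 := by
  by_contra hc1
  refine hv1 ((eq_bot_iff_forall _).1 S.zfix v (mem_fixV_zpowers.2 ⟨hv, ?_⟩))
  have hz : z ∈ zpowers c := (S.zgen hc hc1).symm ▸ mem_zpowers z
  obtain ⟨i, rfl⟩ := hz
  exact ((show Commute c v from hcv).zpow_left i).eq

theorem fix_pow_le [Finite G] (S : PSetting V H Y H' P p z) {g : G} (hg : g ∈ coreK P p z)
    (hgp : g ^ p = 1) (hgz : g ∉ zpowers z) :
    Nat.card (fixV V (zpowers g)) ^ p ≤ Nat.card V := by
  obtain ⟨A, F, hgA⟩ := S.exists_frame hg hgp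
  have := F.comm
  let _ : Fintype (zpowers z) := Fintype.ofFinite _
  choose k hk hkb using fun c : zpowers z => F.exists_shift hgA hgz c.2
  have h := S.pow_card_le (B := zpowers g) F.leP k (fun c => coreK_le (hk c)) (fun c => by
    rw [MonoidHom.map_zpowers, zpowers_le]
    show k c * g * (k c)⁻¹ ∈ A
    rw [hkb c]
    exact A.mul_mem hgA (zpowers_le.2 F.zmem c.2)) (fun c c' hne => by
    set B' := (zpowers g).map (MulAut.conj (k c)).toMonoidHom ⊔
      (zpowers g).map (MulAut.conj (k c')).toMonoidHom
    have h1 : g * c ∈ B' := mem_sup_left ⟨g, mem_zpowers g, hkb c⟩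
    have h2 : g * c' ∈ B' := mem_sup_right ⟨g, mem_zpowers g, hkb c'⟩
    have h3 : (c : G)⁻¹ * c' ∈ B' := by
      have := B'.mul_mem (B'.inv_mem h1) h2
      rwa [mul_inv_rev, mul_assoc, inv_mul_cancel_left] at this
    have h4 : (c : G)⁻¹ * c' ∈ zpowers z := mul_mem (inv_mem c.2) c'.2
    have heq := S.zgen h4 fun he => hne (Subtype.ext (inv_mul_eq_one.1 he))
    exact zpowers_le.2 h3 (heq.symm ▸ mem_zpowers z))
  rwa [← Nat.card_eq_fintype_card, S.card_zpowers_eq] at h

/-- The orbit count. -/
theorem orbit_count [Finite G] [Fintype G] (S : PSetting V H Y H' P p z) {v₀ : G} (hv₀ : v₀ ∈ V)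
    (hv₀1 : v₀ ≠ 1) {r : ℕ}
    (hr : Nat.card (coreK P p z ⊓ centralizer {v₀} : Subgroup G) = r) {s : ℕ}
    (hs : ∀ g ∈ badSet P p z, Nat.card (fixV V (zpowers g)) ≤ s) :
    Y.relIndex H * Nat.card (coreK P p z) * (r - 1) ≤ r * ((badSet P p z).card * (s - 1)) := by
  classical
  set K := coreK P p z with hKdef
  set S0 := Finset.univ.filter fun v : G => v ∈ V ∧ v ≠ 1 ∧
    Nat.card (K ⊓ centralizer {v} : Subgroup G) = r with hS0
  have hKH : K ≤ H' := coreK_le.trans S.hPH
  -- double counting
  have h1 : S0.card * (r - 1) ≤ (badSet P p z).card * (s - 1) := by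
    have hlow : ∀ v ∈ S0, r - 1 ≤ ((badSet P p z).filter fun g => g * v = v * g).card := by
      intro v hv
      simp only [hS0, Finset.mem_filter, Finset.mem_univ, true_and] at hv
      obtain ⟨hvV, hv1, hvr⟩ := hv
      rw [Nat.card_eq_fintype_card, Fintype.card_of_subtype
        (Finset.univ.filter fun g : G => g ∈ K ⊓ centralizer {v}) (by simp)] at hvr
      rw [← hvr, ← Finset.card_erase_of_mem (a := (1 : G)) (by simp [one_mem])]
      refine Finset.card_le_card fun g hg => ?_
      simp only [Finset.mem_erase, Finset.mem_filter, Finset.mem_univ, true_and, mem_inf] at hg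
      obtain ⟨hg1, hgK, hgv⟩ := hg
      have hgv' : g * v = v * g := mem_centralizer_singleton_iff.1 hgv
      refine Finset.mem_filter.2 ⟨mem_badSet.2 ⟨hgK, ?_, fun hz => hg1 ?_⟩, hgv'⟩
      · exact S.eq_one_of_fix (S.coreK_pow hgK).1 hvV hv1
          ((show Commute g v from hgv').pow_left p).eq
      · exact S.eq_one_of_fix hz hvV hv1 hgv'
    have hup : ∀ g ∈ badSet P p z, (S0.filter fun v => g * v = v * g).card ≤ s - 1 := by
      intro g hg
      have h := hs g hg
      rw [Nat.card_eq_fintype_card, Fintype.card_of_subtype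
        (Finset.univ.filter fun v : G => v ∈ fixV V (zpowers g)) (by simp)] at h
      refine le_trans (Finset.card_le_card (t := (Finset.univ.filter
        fun v : G => v ∈ fixV V (zpowers g)).erase 1) fun v hv => ?_) ?_
      · simp only [hS0, Finset.mem_filter, Finset.mem_univ, true_and] at hv
        simp only [Finset.mem_erase, Finset.mem_filter, Finset.mem_univ, true_and]
        exact ⟨hv.1.2.1, mem_fixV_zpowers.2 ⟨hv.1.1, hv.2⟩⟩
      · rw [Finset.card_erase_of_mem (by simp [one_mem])]
        omega
    exact Finset.card_mul_le_card_mul (fun v g => g * v = v * g) hlow hup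
  -- an injection from cosets times the orbit
  have h2 : Y.relIndex H * Nat.card K ≤ S0.card * r := by
    set C := K ⊓ centralizer {v₀} with hC
    let R := H' ⧸ Y.subgroupOf H'
    let Q := K ⧸ (centralizer ({v₀} : Set G)).subgroupOf K
    have hR : Nat.card R = Y.relIndex H := S.lin.relIndex_cover S.le S.cov
    have hQ : r * Nat.card Q = Nat.card K := by
      rw [← hr]
      exact PGroup.card_inf_mul_relIndex K (centralizer {v₀})
    let g : R × Q → G := fun i => ((Quotient.out i.1 : H') : G) * ((Quotient.out i.2 : K) : G)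
    let φ : R × Q → S0 := fun i => ⟨g i * v₀ * (g i)⁻¹, by
      have hgH : g i ∈ H' := H'.mul_mem (Quotient.out i.1).2 (hKH (Quotient.out i.2).2)
      have hgV : g i ∈ normalizer (V : Set G) := S.lin.norm (S.le hgH)
      have hgK : g i ∈ normalizer (K : Set G) := S.coreK_norm hgH
      simp only [hS0, Finset.mem_filter, Finset.mem_univ, true_and]
      refine ⟨(mem_normalizer_iff.1 hgV v₀).1 hv₀, fun h => hv₀1 (conj_eq_one_iff.1 h), ?_⟩
      rw [← hr, ← card_map_of_injective (K := K ⊓ centralizer {v₀})
        (f := (MulAut.conj (g i)).toMonoidHom) (MulAut.conj (g i)).injective]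
      congr 2
      ext y
      simp only [mem_map_equiv, mem_inf, mem_centralizer_singleton_iff, MulAut.conj_symm_apply]
      refine and_congr ?_ ?_
      · exact mem_normalizer_iff''.1 hgK y
      · constructor
        · intro e
          calc (g i)⁻¹ * y * g i * v₀ = (g i)⁻¹ * (y * (g i * v₀ * (g i)⁻¹)) * g i := by group
            _ = (g i)⁻¹ * (g i * v₀ * (g i)⁻¹ * y) * g i := by rw [e]
            _ = v₀ * ((g i)⁻¹ * y * g i) := by group
        · intro e
          calc y * (g i * v₀ * (g i)⁻¹) = g i * ((g i)⁻¹ * y * g i * v₀) * (g i)⁻¹ := by group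
            _ = g i * (v₀ * ((g i)⁻¹ * y * g i)) * (g i)⁻¹ := by rw [e]
            _ = g i * v₀ * (g i)⁻¹ * y := by group⟩
    have hφ : Function.Injective φ := by
      rintro ⟨i, j⟩ ⟨i', j'⟩ he
      have he' := congrArg Subtype.val he
      set h := ((Quotient.out i : H') : G) with hh
      set k := ((Quotient.out j : K) : G) with hk
      set h' := ((Quotient.out i' : H') : G) with hh'
      set k' := ((Quotient.out j' : K) : G) with hk'
      replace he' : h * k * v₀ * (h * k)⁻¹ = h' * k' * v₀ * (h' * k')⁻¹ := he'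
      have hs' : (h * k)⁻¹ * (h' * k') * v₀ = v₀ * ((h * k)⁻¹ * (h' * k')) := by
        calc (h * k)⁻¹ * (h' * k') * v₀
            = (h * k)⁻¹ * (h' * k' * v₀ * (h' * k')⁻¹) * (h' * k') := by group
          _ = (h * k)⁻¹ * (h * k * v₀ * (h * k)⁻¹) * (h' * k') := by rw [he']
          _ = v₀ * ((h * k)⁻¹ * (h' * k')) := by group
      have hkY : ∀ j : Q, ((Quotient.out j : K) : G) ∈ Y := fun j =>
        S.hPY (coreK_le (Quotient.out j).2)
      have hsY : (h * k)⁻¹ * (h' * k') ∈ Y := by
        by_contra hn
        refine hv₀1 (S.lin.fpf _ ?_ hn v₀ hv₀ hs')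
        exact S.le (mul_mem (inv_mem (mul_mem (Quotient.out i).2 (hKH (Quotient.out j).2)))
          (mul_mem (Quotient.out i').2 (hKH (Quotient.out j').2)))
      have hii : i = i' := by
        rw [← QuotientGroup.out_eq' i, ← QuotientGroup.out_eq' i', QuotientGroup.eq]
        show h⁻¹ * h' ∈ Y
        rw [show h⁻¹ * h' = k * ((h * k)⁻¹ * (h' * k')) * k'⁻¹ by group]
        exact mul_mem (mul_mem (hkY j) hsY) (inv_mem (hkY j'))
      subst hii
      refine Prod.ext rfl ?_
      show j = j'
      rw [← QuotientGroup.out_eq' j, ← QuotientGroup.out_eq' j', QuotientGroup.eq]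
      show k⁻¹ * k' ∈ centralizer ({v₀} : Set G)
      rw [mem_centralizer_singleton_iff]
      rwa [show (h * k)⁻¹ * (h * k') = k⁻¹ * k' by group] at hs'
    have h := Nat.card_le_card_of_injective φ hφ
    rw [Nat.card_prod, hR, Nat.card_eq_fintype_card (α := (S0 : Type _)), Fintype.card_coe] at h
    rw [← hQ]
    calc Y.relIndex H * (r * Nat.card Q) = Y.relIndex H * Nat.card Q * r := by ring
      _ ≤ S0.card * r := Nat.mul_le_mul_right _ h
  calc Y.relIndex H * Nat.card K * (r - 1) ≤ S0.card * r * (r - 1) := Nat.mul_le_mul_right _ h2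
    _ = r * (S0.card * (r - 1)) := by ring
    _ ≤ r * ((badSet P p z).card * (s - 1)) := Nat.mul_le_mul_left _ h1

/-- A noncentral element of order `p` of `coreK` with fixed points contradicts a large index. -/
theorem false_of_core_all [Finite G] (S : PSetting V H Y H' P p z) {t : G}
    (ht : t ∈ coreK P p z) (htp : t ^ p = 1) (htz : t ∉ zpowers z)
    (htf : fixV V (zpowers t) ≠ ⊥) : False := by
  classical
  have := Fintype.ofFinite G
  have := Fact.mk S.prime
  set K := coreK P p z with hKdef
  set I := badSet P p z with hI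
  have htI : t ∈ I := mem_badSet.2 ⟨ht, htp, htz⟩
  set s := I.sup fun g => Nat.card (fixV V (zpowers g)) with hsdef
  have hs : ∀ g ∈ I, Nat.card (fixV V (zpowers g)) ≤ s := fun g hg =>
    Finset.le_sup (f := fun g => Nat.card (fixV V (zpowers g))) hg
  obtain ⟨g₁, hg₁, hg₁s⟩ := Finset.exists_mem_eq_sup I ⟨t, htI⟩
    (fun g => Nat.card (fixV V (zpowers g)))
  have hsp : s ^ p ≤ Nat.card V := by
    obtain ⟨h1, h2, h3⟩ := mem_badSet.1 hg₁
    rw [hsdef, hg₁s]
    exact S.fix_pow_le h1 h2 h3
  have hs2 : 2 ≤ s := by
    refine le_trans ?_ (hs t htI)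
    have : Nat.card (fixV V (zpowers t)) ≠ 1 := fun h => htf (card_eq_one.1 h)
    have := Nat.card_pos (α := fixV V (zpowers t))
    omega
  have hbig := S.lin.big
  have hKp : IsPGroup p K := S.pgroup.to_le coreK_le
  obtain ⟨A, F, htA⟩ := S.exists_frame ht htp
  have hKpos : 0 < Nat.card K := Nat.card_pos
  have hIK : I.card ≤ Nat.card K := by
    rw [Nat.card_eq_fintype_card,
      Fintype.card_of_subtype (Finset.univ.filter fun g : G => g ∈ K) (by simp)]
    exact Finset.card_le_card fun g hg => by
      simpa [hKdef] using (mem_badSet.1 hg).1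
  obtain ⟨v, hv, hv1⟩ : ∃ v ∈ fixV V (zpowers t), v ≠ 1 := by
    by_contra hcon
    push Not at hcon
    exact htf ((eq_bot_iff_forall _).2 hcon)
  have hr2 : ∀ {v : G}, v ∈ fixV V (zpowers t) →
      t ∈ K ⊓ centralizer {v} := fun {v} hv =>
    ⟨ht, mem_centralizer_singleton_iff.2 (mem_fixV_zpowers.1 hv).2⟩
  have hrlb : ∀ {v : G}, v ∈ fixV V (zpowers t) →
      p ≤ Nat.card (K ⊓ centralizer {v} : Subgroup G) := fun {v} hv => by
    refine Nat.le_of_dvd Nat.card_pos ?_
    have ho : orderOf t = p := orderOf_eq_prime htp fun h => htz (h ▸ one_mem _)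
    calc p = Nat.card (zpowers t) := by rw [Nat.card_zpowers, ho]
      _ ∣ _ := card_dvd_of_le (zpowers_le.2 (hr2 hv))
  rcases eq_or_ne p 2 with hp2 | hp2
  swap
  · -- odd `p`
    have hp3 : 3 ≤ p := by have := S.prime.two_le; omega
    have h := S.orbit_count hv.1 hv1 rfl hs
    set r := Nat.card (K ⊓ centralizer {v} : Subgroup G) with hr
    have hr3 : 3 ≤ r := hp3.trans (hrlb hv)
    have h2 : Y.relIndex H * (r - 1) ≤ r * (s - 1) := by
      refine Nat.le_of_mul_le_mul_left ?_ hKpos
      calc Nat.card K * (Y.relIndex H * (r - 1)) = Y.relIndex H * Nat.card K * (r - 1) := by ring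
        _ ≤ r * (I.card * (s - 1)) := h
        _ ≤ r * (Nat.card K * (s - 1)) :=
          Nat.mul_le_mul_left _ (Nat.mul_le_mul_right _ hIK)
        _ = Nat.card K * (r * (s - 1)) := by ring
    have h3 : 2 * Y.relIndex H ≤ 3 * (s - 1) := by
      refine Nat.le_of_mul_le_mul_left ?_ (show 0 < r - 1 by omega)
      calc (r - 1) * (2 * Y.relIndex H) = 2 * (Y.relIndex H * (r - 1)) := by ring
        _ ≤ 2 * (r * (s - 1)) := Nat.mul_le_mul_left _ h2
        _ = 2 * r * (s - 1) := by ring
        _ ≤ 3 * (r - 1) * (s - 1) := Nat.mul_le_mul_right _ (by omega)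
        _ = (r - 1) * (3 * (s - 1)) := by ring
    have h4 : (2 * (Y.relIndex H + 1)) ^ 2 ≤ (3 * s) ^ 2 :=
      Nat.pow_le_pow_left (by omega) 2
    have h5 : s ^ 3 ≤ Nat.card V :=
      le_trans (Nat.pow_le_pow_right (by omega) hp3) hsp
    rcases Nat.lt_or_ge s 3 with hs3 | hs3
    · have hseq : s = 2 := by omega
      rw [hseq] at h5
      have : Y.relIndex H ≤ 1 := by omega
      have := Nat.pow_le_pow_left (show Y.relIndex H + 1 ≤ 2 by omega) 2
      omega
    · have : 9 * s ^ 2 ≤ 3 * s ^ 3 := by
        calc 9 * s ^ 2 = 3 * (3 * s ^ 2) := by ring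
          _ ≤ 3 * (s * s ^ 2) := Nat.mul_le_mul_left _ (Nat.mul_le_mul_right _ hs3)
          _ = 3 * s ^ 3 := by ring
      have h6 : 4 * (Y.relIndex H + 1) ^ 2 ≤ 3 * s ^ 3 := by
        calc 4 * (Y.relIndex H + 1) ^ 2 = (2 * (Y.relIndex H + 1)) ^ 2 := by ring
          _ ≤ (3 * s) ^ 2 := h4
          _ = 9 * s ^ 2 := by ring
          _ ≤ _ := this
      omega
  · -- `p = 2`
    subst hp2
    have hd : Y.relIndex H ≤ s - 1 := by
      by_cases hex : ∃ v₀ ∈ V, v₀ ≠ 1 ∧ 3 ≤ Nat.card (K ⊓ centralizer {v₀} : Subgroup G)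
      · obtain ⟨v₀, hv₀, hv₀1, hr3⟩ := hex
        set r := Nat.card (K ⊓ centralizer {v₀} : Subgroup G) with hr
        have hr4 : 4 ≤ r := by
          obtain ⟨k, hk⟩ := IsPGroup.iff_card.1
            (hKp.to_le (inf_le_left : K ⊓ centralizer {v₀} ≤ K))
          rw [← hr] at hk
          rcases k with _ | _ | k
          · simp at hk; omega
          · simp at hk; omega
          · rw [hk, pow_add]
            have := Nat.one_le_two_pow (n := k)
            omega
        have h34 : 4 * I.card ≤ 3 * Nat.card K := by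
          obtain ⟨k, hk, hkt⟩ := F.exists_not_commute htA htz
          have h := four_mul_card_sq_one_le (K := K)
            ⟨⟨k, hk⟩, ⟨t, ht⟩, fun e => hkt (congrArg Subtype.val e)⟩
          rw [← Nat.card_eq_fintype_card] at h
          refine le_trans (Nat.mul_le_mul_left 4 ?_) h
          refine Finset.card_le_card_of_surjOn (fun x : K => (x : G)) ?_
          intro g hg
          obtain ⟨h1, h2, -⟩ := mem_badSet.1 hg
          refine ⟨⟨g, h1⟩, ?_, rfl⟩
          simp only [Finset.coe_filter, Finset.mem_univ, true_and, Set.mem_ofPred_eq]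
          exact Subtype.ext (by rw [← sq]; exact h2)
        have h := S.orbit_count hv₀ hv₀1 hr.symm hs
        refine Nat.le_of_mul_le_mul_left ?_ (show 0 < 4 * Nat.card K * (r - 1) by
          have : 0 < r - 1 := by omega
          positivity)
        calc 4 * Nat.card K * (r - 1) * Y.relIndex H
            = 4 * (Y.relIndex H * Nat.card K * (r - 1)) := by ring
          _ ≤ 4 * (r * (I.card * (s - 1))) := Nat.mul_le_mul_left _ h
          _ = 4 * I.card * r * (s - 1) := by ring
          _ ≤ 3 * Nat.card K * r * (s - 1) := by gcongr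
          _ = Nat.card K * (3 * r) * (s - 1) := by ring
          _ ≤ Nat.card K * (4 * (r - 1)) * (s - 1) := Nat.mul_le_mul_right _ (Nat.mul_le_mul_left _ (by omega))
          _ = 4 * Nat.card K * (r - 1) * (s - 1) := by ring
      · push Not at hex
        have := F.comm
        -- `|A| = 4`
        have hA4 : Nat.card A ≤ 4 := by
          obtain ⟨B, hBA, hBi, hBf⟩ := exists_fixed_relIndex_le (V := V) S.prime F.exp
            (F.leP.trans S.normP) (S.lin.card_coprime (F.leP.trans S.hPY))
            (S.lin.ne_bot (S.hPY S.zmem) S.zne)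
          obtain ⟨w, hw, hw1⟩ : ∃ w ∈ fixV V B, w ≠ 1 := by
            by_contra hcon
            push Not at hcon
            exact hBf ((eq_bot_iff_forall _).2 hcon)
          have h1 := hex w hw.1 hw1
          have h2 : Nat.card B ≤ Nat.card (K ⊓ centralizer {w} : Subgroup G) :=
            Nat.le_of_dvd Nat.card_pos (card_dvd_of_le fun b hb =>
              ⟨F.le (hBA hb), mem_centralizer_singleton_iff.2 (hw.2 b hb)⟩)
          have hA' := PGroup.card_inf_mul_relIndex A B
          rw [inf_eq_right.2 hBA] at hA'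
          rw [← hA']
          calc Nat.card B * B.relIndex A ≤ 2 * 2 := Nat.mul_le_mul (by omega) hBi
            _ = 4 := rfl
        have hzK : z ∈ K := S.zmem_coreK
        have ht1 : t ≠ 1 := fun h => htz (h ▸ one_mem _)
        have htzz : t ≠ z := fun h => htz (h ▸ mem_zpowers z)
        have ht22 : t * t = 1 := by rw [← sq]; exact htp
        have hz2 : z * z = 1 := by rw [← sq]; exact S.zpow_p
        have htzc : Commute t z := S.zcent t (coreK_le ht)
        set Q : Finset G := {1, z, t, t * z} with hQ
        have hQ4 : Q.card = 4 := by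
          have e1 : t * z ≠ 1 := fun h => htz (by
            rw [eq_inv_of_mul_eq_one_left h]; exact inv_mem (mem_zpowers z))
          have e2 : t * z ≠ z := fun h => ht1 (mul_eq_right.1 h)
          have e3 : t * z ≠ t := fun h => S.zne (mul_eq_left.1 h)
          simp [hQ, Finset.card_insert_of_notMem, Ne.symm S.zne, Ne.symm ht1, Ne.symm e1,
            Ne.symm htzz, Ne.symm e2, Ne.symm e3]
        have hQA : Q = Finset.univ.filter (fun x : G => x ∈ A) := by
          refine Finset.eq_of_subset_of_card_le ?_ ?_
          · intro x hx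
            simp only [hQ, Finset.mem_insert, Finset.mem_singleton] at hx
            simp only [Finset.mem_filter, Finset.mem_univ, true_and]
            rcases hx with rfl | rfl | rfl | rfl
            exacts [one_mem _, F.zmem, htA, A.mul_mem htA F.zmem]
          · rw [hQ4, ← Fintype.card_of_subtype (Finset.univ.filter fun x : G => x ∈ A) (by simp)
              (p := fun x => x ∈ A), ← Nat.card_eq_fintype_card]
            exact hA4
        -- involutions commuting with `t`
        have hcomm : ∀ w ∈ I, w * t = t * w → w ∈ Q := by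
          intro w hw hwt
          obtain ⟨hwK, hw2, -⟩ := mem_badSet.1 hw
          rw [hQA]
          simp only [Finset.mem_filter, Finset.mem_univ, true_and]
          refine F.max w hwK (fun a ha => ?_) hw2
          have hwz : w * z = z * w := S.zcent w (coreK_le hwK)
          have : a ∈ Q := by rw [hQA]; simp [ha]
          simp only [hQ, Finset.mem_insert, Finset.mem_singleton] at this
          rcases this with rfl | rfl | rfl | rfl
          · rw [one_mul, mul_one]
          · exact hwz
          · exact hwt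
          · exact ((show Commute w t from hwt).mul_right hwz).eq
        have hI2 : 2 * I.card ≤ Nat.card K := by
          set J := I.filter fun w => w ∉ Q with hJ
          have hJI : I.card ≤ J.card + 2 := by
            have h := Finset.card_filter_add_card_filter_not (s := I) (fun w => w ∈ Q)
            have h' : (I.filter fun w => w ∈ Q).card ≤ 2 := by
              refine le_trans (Finset.card_le_card ?_) (Finset.card_le_two (a := t) (b := t * z))
              intro w hw
              simp only [hQ, Finset.mem_filter, Finset.mem_insert, Finset.mem_singleton] at hw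
              obtain ⟨hwI, hwQ⟩ := hw
              obtain ⟨-, -, hwz⟩ := mem_badSet.1 hwI
              rcases hwQ with rfl | rfl | rfl | rfl
              · exact absurd (one_mem _) hwz
              · exact absurd (mem_zpowers _) hwz
              · simp
              · simp
            simp only [← hJ] at h
            omega
          have hdisj : Disjoint J (J.image (· * t)) := by
            rw [Finset.disjoint_left]
            intro x hx hx'
            obtain ⟨w, hw, rfl⟩ := Finset.mem_image.1 hx'
            simp only [hJ, Finset.mem_filter] at hx hw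
            obtain ⟨-, hx2, -⟩ := mem_badSet.1 hx.1
            obtain ⟨-, hw2, -⟩ := mem_badSet.1 hw.1
            refine hw.2 (hcomm w hw.1 ?_)
            have e1 : w * t * (w * t) = 1 := by rw [← sq]; exact hx2
            have e2 : w * w = 1 := by rw [← sq]; exact hw2
            calc w * t = w * (w * t * (w * t)) * t := by rw [e1, mul_one]
              _ = w * w * (t * w) * (t * t) := by group
              _ = t * w := by rw [e2, ht22, one_mul, mul_one]
          have hsub : J ∪ J.image (· * t) ⊆
              (Finset.univ.filter fun x : G => x ∈ K) \ Q := by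
            intro x hx
            rw [Finset.mem_sdiff]
            simp only [Finset.mem_filter, Finset.mem_univ, true_and]
            rcases Finset.mem_union.1 hx with hx | hx
            · exact ⟨(mem_badSet.1 (Finset.mem_filter.1 hx).1).1, (Finset.mem_filter.1 hx).2⟩
            · obtain ⟨w, hw, rfl⟩ := Finset.mem_image.1 hx
              simp only [hJ, Finset.mem_filter] at hw
              refine ⟨K.mul_mem (mem_badSet.1 hw.1).1 ht, fun h => hw.2 ?_⟩
              rw [hQA] at h ⊢
              simp only [Finset.mem_filter, Finset.mem_univ, true_and] at h ⊢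
              simpa using A.mul_mem h (A.inv_mem htA)
          have h3 := Finset.card_le_card hsub
          rw [Finset.card_union_of_disjoint hdisj,
            Finset.card_image_of_injective _ (mul_left_injective t),
            Finset.card_sdiff_of_subset (by
              intro x hx
              simp only [hQ, Finset.mem_insert, Finset.mem_singleton] at hx
              simp only [Finset.mem_filter, Finset.mem_univ, true_and]
              rcases hx with rfl | rfl | rfl | rfl
              exacts [one_mem _, hzK, ht, K.mul_mem ht hzK]), hQ4,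
            ← Fintype.card_of_subtype (Finset.univ.filter fun x : G => x ∈ K) (by simp)
              (p := fun x => x ∈ K), ← Nat.card_eq_fintype_card] at h3
          have h4 : 4 ≤ Nat.card K := by
            rw [← hQ4, Nat.card_eq_fintype_card,
              Fintype.card_of_subtype (Finset.univ.filter fun x : G => x ∈ K) (by simp)]
            refine Finset.card_le_card fun x hx => ?_
            simp only [hQ, Finset.mem_insert, Finset.mem_singleton] at hx
            simp only [Finset.mem_filter, Finset.mem_univ, true_and]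
            rcases hx with rfl | rfl | rfl | rfl
            exacts [one_mem _, hzK, ht, K.mul_mem ht hzK]
          omega
        have hr : Nat.card (K ⊓ centralizer {v} : Subgroup G) = 2 := by
          have := hex v hv.1 hv1
          have := hrlb hv
          omega
        have h := S.orbit_count hv.1 hv1 hr hs
        refine Nat.le_of_mul_le_mul_left ?_ hKpos
        calc Nat.card K * Y.relIndex H = Y.relIndex H * Nat.card K * (2 - 1) := by ring
          _ ≤ 2 * (I.card * (s - 1)) := h
          _ = 2 * I.card * (s - 1) := by ring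
          _ ≤ Nat.card K * (s - 1) := Nat.mul_le_mul_right _ hI2
    have := Nat.pow_le_pow_left (show Y.relIndex H + 1 ≤ s by omega) 2
    omega

end PSetting

/-- Semiregularity in every degree. -/
theorem LinSetting.semiregular_all [Finite G] (L : LinSetting V H Y)
    {y v : G} (hy : y ∈ Y) (hy1 : y ≠ 1) (hv : v ∈ V) (hyv : y * v = v * y) : v = 1 := by
  by_contra hv1
  obtain ⟨p, hp, hpd⟩ := Nat.exists_prime_and_dvd (show orderOf y ≠ 1 from
    fun h => hy1 (orderOf_eq_one_iff.1 h))
  have := Fact.mk hp
  set x := y ^ (orderOf y / p) with hx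
  have hxo : orderOf x = p := orderOf_pow_orderOf_div (orderOf_pos y).ne' hpd
  have hxY : x ∈ Y := pow_mem hy _
  have hxv : x * v = v * x := ((show Commute y v from hyv).pow_left _).eq
  have hxp : x ^ p = 1 := by rw [← hxo, pow_orderOf_eq_one]
  have hxpg : IsPGroup p (zpowers x) :=
    IsPGroup.of_card (n := 1) (by rw [Nat.card_zpowers, hxo, pow_one])
  obtain ⟨P, hxP, hP⟩ := exists_isSylowIn p (zpowers x) Y (zpowers_le.2 hxY) hxpg
  have hxmem : x ∈ P := hxP (mem_zpowers x)
  have hPne : P ≠ ⊥ := fun h => by
    rw [h, mem_bot] at hxmem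
    rw [hxmem, orderOf_one] at hxo
    exact hp.ne_one hxo.symm
  set H' := H ⊓ normalizer (P : Set G) with hH'
  have hcov : ∀ h ∈ H, ∃ k ∈ H', k⁻¹ * h ∈ Y := by
    intro h hh
    obtain ⟨δ, hδ, hN⟩ := hP.frattini (h := h) (fun w hw => L.conj h hh w hw)
    refine ⟨δ * h, ⟨H.mul_mem (L.le hδ) hh, hN⟩, ?_⟩
    have := L.conj h⁻¹ (H.inv_mem hh) δ⁻¹ (Y.inv_mem hδ)
    simpa [mul_assoc] using this
  obtain ⟨z, S⟩ := exists_pSetting L hp (H' := H') inf_le_left hcov hP.le
    (le_inf (hP.le.trans L.le) le_normalizer) inf_le_right hP.pgroup hPne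
  have hxf : fixV V (zpowers x) ≠ ⊥ := fun h =>
    hv1 ((eq_bot_iff_forall _).1 h v (mem_fixV_zpowers.2 ⟨hv, hxv⟩))
  have hxz : x ∉ zpowers z := fun h => hxf (by
    have heq : zpowers x = zpowers z := PGroup.eq_of_le_of_card_le (zpowers_le.2 h)
      (by rw [S.card_zpowers_eq, Nat.card_zpowers, hxo])
    rw [heq, S.zfix])
  by_cases hE : ∃ E : Subgroup P, E.Normal ∧ Cfsg.IsElementaryAbelian p E ∧ Nat.card E = p ^ 2
  · obtain ⟨t, ht, htp, htz, htf⟩ := S.exists_mem_coreK_fix hE
    exact S.false_of_core_all ht htp htz htf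
  have hnc : ¬ IsCyclic P := by
    intro hc
    refine hxz ?_
    exact PGroup.mem_zpowers_of_isCyclic hc S.zmem hxmem S.zord hxp
  obtain ⟨rfl, -⟩ := (PGroup.exists_normal_elementary_sq_or_cases hP.pgroup hnc).resolve_left hE
  exact S.false_of_no_four hE hxmem hxp hxz hxf

open MulAction in
theorem exists_core_all {Ω : Type*} [MulAction G Ω] [Finite G] [Finite Ω] [FaithfulSMul G Ω]
    [IsPretransitive G Ω] (hn1 : 1 < Nat.card Ω) (hD : Derangement.derGrp G Ω ≠ ⊤)
    (hbig : Nat.card Ω < ((Derangement.derGrp G Ω).index + 1) ^ 2)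
    (hnt : ∀ y : Ω, Derangement.derGrp G Ω ⊓ stabilizer G y ≠ ⊥) :
    ∃ (q : ℕ) (Q : Subgroup G) (x : Ω), Core G q Q x := by
  obtain ⟨q, hq, Q, x, R⟩ := exists_regularSylow split_derGrp hD hn1 hbig
  have := Fact.mk hq
  have L := R.linSetting split_derGrp hbig
  refine ⟨q, Q, x, hq, R, fun h hh v hv hc hv1 => ?_, hbig, hnt x, hn1⟩
  by_contra h1
  by_cases hY : h ∈ stabY (Derangement.derGrp G Ω) Q x
  · exact hv1 (L.semiregular_all hY h1 hv hc)
  · exact hv1 (L.fpf h hh hY v hv hc)

open MulAction in
/-- Either `([G : D] + 1)^2 ≤ |Ω|` or there is an abelian normal subgroup. -/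
theorem index_succ_sq_le_all {Ω : Type*} [MulAction G Ω] [Finite G] [Finite Ω] [FaithfulSMul G Ω]
    [IsPretransitive G Ω] (h4 : 4 ≤ Nat.card Ω) :
    (∃ N : Subgroup G, N.Normal ∧ IsMulCommutative N ∧ N ≠ ⊥) ∨
      ((Derangement.derGrp G Ω).index + 1) ^ 2 ≤ Nat.card Ω := by
  by_cases hsq : ((Derangement.derGrp G Ω).index + 1) ^ 2 ≤ Nat.card Ω
  · exact Or.inr hsq
  left
  rw [not_le] at hsq
  set D := Derangement.derGrp G Ω with hDdef
  have hDn : D.Normal := Derangement.derGrp_normal
  have hD : D ≠ ⊤ := by
    intro h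
    rw [h, Subgroup.index_top] at hsq
    omega
  obtain ⟨a, ha⟩ : ∃ a : Ω, D ⊓ stabilizer G a = ⊥ := by
    by_contra hcon
    push Not at hcon
    obtain ⟨q, Q, x, K⟩ := exists_core_all (by omega) hD hsq hcon
    exact K.false
  have hstab : stabilizer G a ≠ ⊥ := by
    intro h
    refine hD (eq_top_iff.2 fun g _ => ?_)
    obtain ⟨⟨u, hu⟩, hua⟩ := @exists_smul_eq D _ _ Derangement.derGrp_transitive a (g • a)
    have : u⁻¹ * g ∈ stabilizer G a := by
      rw [mem_stabilizer_iff, mul_smul, inv_smul_eq_iff]
      exact hua.symm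
    rw [h, mem_bot, inv_mul_eq_one] at this
    exact this ▸ hu
  have hfpf : Frobenius.FPF (stabilizer G a) D := by
    intro h hh hh1 d hd hdh
    by_contra hd1
    have hfix : h • (d • a) = d • a := by
      rw [← mul_smul, hdh, mul_smul, mem_stabilizer_iff.1 hh]
    have hne : d • a ≠ a := fun e => hd1 ((eq_bot_iff_forall _).1 ha d ⟨hd, e⟩)
    exact hh1 ((eq_bot_iff_forall _).1 ha h ⟨Derangement.mem_of_two_fixed hne hfix
      (mem_stabilizer_iff.1 hh), hh⟩)
  have hnil := FPF.isNilpotent_of_fpf_subgroup hstab hfpf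
  have hDbot : D ≠ ⊥ := by
    intro h
    obtain ⟨b, hb⟩ : ∃ b, b ≠ a := by
      have : Nontrivial Ω := Finite.one_lt_card_iff_nontrivial.1 (by omega)
      exact exists_ne a
    obtain ⟨⟨u, hu⟩, hua⟩ := @exists_smul_eq D _ _ Derangement.derGrp_transitive a b
    rw [h, mem_bot] at hu
    exact hb (by simpa [hu] using hua.symm)
  have : Nontrivial D := (nontrivial_iff_ne_bot D).2 hDbot
  refine ⟨(center D).map D.subtype, inferInstance, ⟨⟨?_⟩⟩, ?_⟩
  · rintro ⟨x, x', hx', rfl⟩ ⟨y, y', hy', rfl⟩
    exact Subtype.ext (congrArg (fun w : D => (w : G)) (mem_center_iff.1 hy' x'))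
  · intro h
    rw [map_eq_bot_iff_of_injective _ D.subtype_injective] at h
    have := hnil
    exact (Group.IsNilpotent.center_ne_bot (G := D)) h

end Cfsg.Agent.DerangeIndex
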