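import Cfsg.Agent.EqLemmas
import Cfsg.Agent.Lib.Coprime.Generation
import Cfsg.Agent.Lib.Coprime.Abelian
import Cfsg.Agent.Lib.PGroup.UniqueOrderP

/-!
# Counting lemmas for linear groups that are fixed-point-free outside a normal subgroup
-/

set_option autoImplicit false

namespace Cfsg.Agent.DerangeIndex

open Subgroup
open scoped IsMulCommutative

variable {G : Type*} [Group G]

/-- A group `H` acting on the abelian group `V`, fixed-point-free outside the normal subgroup `Y`,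
with no invariant subgroups for covering subgroups and with large quotient `H/Y`. -/
structure LinSetting (V H Y : Subgroup G) : Prop where
  comm : IsMulCommutative V
  norm : H ≤ normalizer (V : Set G)
  le : Y ≤ H
  conj : ∀ h ∈ H, ∀ y ∈ Y, h * y * h⁻¹ ∈ Y
  coprime : (Nat.card Y).Coprime (Nat.card V)
  faithful : ∀ h ∈ H, (∀ v ∈ V, h * v = v * h) → h = 1
  fpf : ∀ h ∈ H, h ∉ Y → ∀ v ∈ V, h * v = v * h → v = 1
  irred : ∀ H' ≤ H, (∀ h ∈ H, ∃ k ∈ H', k⁻¹ * h ∈ Y) → ∀ W ≤ V,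
    H' ≤ normalizer (W : Set G) → W = ⊥ ∨ W = V
  big : Nat.card V < (Y.relIndex H + 1) ^ 2

/-- The fixed points of `B` on `V`. -/
abbrev fixV (V B : Subgroup G) : Subgroup G := V ⊓ centralizer (B : Set G)

theorem fixV_mono {V B B' : Subgroup G} (h : B ≤ B') : fixV V B' ≤ fixV V B :=
  le_inf inf_le_left (inf_le_right.trans (centralizer_le h))

theorem mem_fixV {V B : Subgroup G} {v : G} :
    v ∈ fixV V B ↔ v ∈ V ∧ ∀ b ∈ B, b * v = v * b :=
  Iff.rfl

theorem mem_fixV_zpowers {V : Subgroup G} {a v : G} :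
    v ∈ fixV V (zpowers a) ↔ v ∈ V ∧ a * v = v * a := by
  refine ⟨fun h => ⟨h.1, h.2 a (mem_zpowers a)⟩, fun h => ⟨h.1, ?_⟩⟩
  rintro _ ⟨i, rfl⟩
  exact Commute.zpow_left h.2 i

theorem mul_inv_mem_normalizer_fixV [Finite G] {V B : Subgroup G} {g : G}
    (hV : g ∈ normalizer (V : Set G)) (hB : g ∈ normalizer (B : Set G)) :
    g ∈ normalizer (fixV V B : Set G) := by
  refine Coprime.mem_normalizer_of_forall fun v hv => ?_
  refine ⟨(mem_normalizer_iff.1 hV v).1 hv.1, fun b hb => ?_⟩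
  have hb' : g⁻¹ * b * g ∈ B := (mem_normalizer_iff''.1 hB b).1 hb
  have h2 : g⁻¹ * b * g * v = v * (g⁻¹ * b * g) := hv.2 _ hb'
  calc b * (g * v * g⁻¹) = g * (g⁻¹ * b * g * v) * g⁻¹ := by group
    _ = g * (v * (g⁻¹ * b * g)) * g⁻¹ := by rw [h2]
    _ = g * v * g⁻¹ * b := by group

/-- Index of `Y` in a covering subgroup. -/
theorem relIndex_eq_of_covers [Finite G] {H Y H' : Subgroup G} (hY : Y ≤ H)
    (hconj : ∀ h ∈ H, ∀ y ∈ Y, h * y * h⁻¹ ∈ Y) (hle : H' ≤ H)
    (hcov : ∀ h ∈ H, ∃ k ∈ H', k⁻¹ * h ∈ Y) : Y.relIndex H' = Y.relIndex H := by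
  have : (Y.subgroupOf H).Normal := ⟨fun y hy h => hconj h h.2 y hy⟩
  have htop : H'.subgroupOf H ⊔ Y.subgroupOf H = ⊤ := by
    rw [eq_top_iff]
    intro h _
    obtain ⟨k, hk, hkh⟩ := hcov h h.2
    have : h = (⟨k, hle hk⟩ : H) * ((⟨k, hle hk⟩ : H)⁻¹ * h) := by group
    rw [this]
    exact mul_mem (mem_sup_left hk) (mem_sup_right hkh)
  have h1 : (Y.subgroupOf H).relIndex (H'.subgroupOf H) = (Y.subgroupOf H).index := by
    rw [← Subgroup.relIndex_sup_right, sup_comm, ← Subgroup.relIndex_top_right]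
    rw [sup_comm] at htop
    rw [htop]
  rw [Subgroup.relIndex_subgroupOf hle] at h1
  exact h1

variable {V H Y : Subgroup G}

/-- Bound for the index in the stabilizer of a subgroup of `V`. -/
theorem LinSetting.card_stab_bound [Finite G] (L : LinSetting V H Y) {S W C : Subgroup G}
    (hS : S ≤ H) (hSW : S ≤ normalizer (W : Set G)) (hWV : W ≤ V) (hW : W ≠ ⊥) (hC : C ≤ S ⊓ Y)
    {e : ℕ} (hCv : ∀ v ∈ W, v ≠ 1 → Nat.card (C ⊓ centralizer {v} : Subgroup G) ≤ e) :
    Nat.card C * Y.relIndex S ≤ e * (Nat.card W - 1) := by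
  obtain ⟨v, hv, hv1⟩ : ∃ v ∈ W, v ≠ 1 := by
    obtain ⟨⟨v, hv⟩, hv1⟩ := ne_bot_iff_exists_ne_one.1 hW
    exact ⟨v, hv, fun h => hv1 (Subtype.ext h)⟩
  let X : Type _ := {w : G // w ∈ W ∧ w ≠ 1}
  let act : MulAction S X :=
    { smul := fun s w => ⟨(s : G) * w.1 * (s : G)⁻¹, (mem_normalizer_iff.1 (hSW s.2) w.1).1 w.2.1,
        fun h => w.2.2 (by simpa using h)⟩
      one_smul := fun w => Subtype.ext (by show (1 : G) * w.1 * (1 : G)⁻¹ = w.1; group)
      mul_smul := fun a b w => Subtype.ext (by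
        show ((a : G) * b) * w.1 * ((a : G) * b)⁻¹ = a * (b * w.1 * (b : G)⁻¹) * (a : G)⁻¹
        group) }
  have hX : Nat.card X = Nat.card W - 1 := by
    have : Nat.card X = Nat.card ↥((W : Set G) \ {1}) := rfl
    rw [this, Nat.card_coe_set_eq, Set.ncard_diff_singleton_of_mem (one_mem W),
      ← Nat.card_coe_set_eq]
    rfl
  let w₀ : X := ⟨v, hv, hv1⟩
  have horb := (Nat.card_congr (MulAction.orbitProdStabilizerEquivGroup S w₀)).symm
  rw [Nat.card_prod] at horb
  have hle : Nat.card (MulAction.orbit S w₀) ≤ Nat.card W - 1 :=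
    hX ▸ Nat.card_le_card_of_injective Subtype.val Subtype.val_injective
  have hst : Nat.card (MulAction.stabilizer S w₀) =
      Nat.card (S ⊓ centralizer {v} : Subgroup G) := by
    refine Nat.card_congr
      { toFun := fun s => ⟨s.1, s.1.2, ?_⟩
        invFun := fun s => ⟨⟨s.1, s.2.1⟩, ?_⟩
        left_inv := fun _ => rfl
        right_inv := fun _ => rfl }
    · have := congrArg Subtype.val s.2
      exact mem_centralizer_singleton_iff.2 (mul_inv_eq_iff_eq_mul.1 this)
    · exact Subtype.ext (mul_inv_eq_iff_eq_mul.2 (mem_centralizer_singleton_iff.1 s.2.2))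
  rw [hst] at horb
  set T := S ⊓ Y with hT
  set Sv := S ⊓ centralizer {v} with hSv
  have hSvT : Sv ≤ T := fun s hs => ⟨hs.1, by
    by_contra hsY
    exact hv1 (L.fpf s (hS hs.1) hsY v (hWV hv) (mem_centralizer_singleton_iff.1 hs.2))⟩
  have h1 : Nat.card C * Nat.card Sv ≤ e * Nat.card T := by
    have hi := PGroup.card_inf_mul_relIndex C Sv
    have hcv : Nat.card (C ⊓ Sv : Subgroup G) ≤ e :=
      (card_le_of_le (inf_le_inf_left C inf_le_right)).trans (hCv v hv hv1)
    have hr : Sv.relIndex C ≤ Sv.relIndex T :=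
      relIndex_le_of_le_right hC index_ne_zero_of_finite
    have hT2 := PGroup.card_inf_mul_relIndex T Sv
    rw [inf_eq_right.2 hSvT] at hT2
    calc Nat.card C * Nat.card Sv
        = Nat.card (C ⊓ Sv : Subgroup G) * Sv.relIndex C * Nat.card Sv := by rw [hi]
      _ ≤ e * Sv.relIndex T * Nat.card Sv := by gcongr
      _ = e * (Nat.card Sv * Sv.relIndex T) := by ring
      _ = e * Nat.card T := by rw [hT2]
  have h2 : Nat.card T * Y.relIndex S = Nat.card S := PGroup.card_inf_mul_relIndex S Y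
  refine Nat.le_of_mul_le_mul_right ?_ (Nat.card_pos (α := T))
  calc Nat.card C * Y.relIndex S * Nat.card T = Nat.card C * (Nat.card T * Y.relIndex S) := by ring
    _ = Nat.card C * Nat.card Sv * Nat.card (MulAction.orbit S w₀) := by rw [h2, horb]; ring
    _ ≤ e * Nat.card T * (Nat.card W - 1) := Nat.mul_le_mul h1 hle
    _ = e * (Nat.card W - 1) * Nat.card T := by ring

/-- Bound for the index through finitely many classes of translates of `W`. -/
theorem relIndex_le_of_classes [Finite G] {α : Type*} {H' W : Subgroup G}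
    (hY : ∀ h ∈ H', ∀ y ∈ Y, h * y * h⁻¹ ∈ Y) (κ : G → α) (T : Finset α)
    (hT : ∀ h ∈ H', κ h ∈ T)
    (hκ : ∀ h ∈ H', ∀ h' ∈ H', κ h = κ h' → ∃ y ∈ H' ⊓ Y, h⁻¹ * y * h' ∈ normalizer (W : Set G)) :
    Y.relIndex H' ≤ T.card * Y.relIndex (H' ⊓ normalizer (W : Set G)) := by
  classical
  set S := H' ⊓ normalizer (W : Set G) with hSdef
  set Y' := H' ⊓ Y with hY'
  let _ := Fintype.ofFinite G
  -- representatives of `S` modulo `S ⊓ Y`
  let R := S ⧸ (Y.subgroupOf S)
  have hR : Nat.card R = Y.relIndex S := rfl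
  have hfib : ∀ t ∈ T, (Finset.univ.filter fun h : G => h ∈ H' ∧ κ h = t).card
      ≤ Nat.card Y' * Nat.card R := by
    intro t _
    rcases (Finset.univ.filter fun h : G => h ∈ H' ∧ κ h = t).eq_empty_or_nonempty with h0 | ⟨h, hh⟩
    · simp [h0]
    simp only [Finset.mem_filter, Finset.mem_univ, true_and] at hh
    obtain ⟨hh, hht⟩ := hh
    rw [← Nat.card_prod, Nat.card_eq_fintype_card]
    refine le_trans (Finset.card_le_card ?_) (Finset.card_image_le
      (f := fun z : Y' × R => h * (z.1 : G) * ((Quotient.out z.2 : S) : G)) (s := Finset.univ))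
    intro h' hh'
    simp only [Finset.mem_filter, Finset.mem_univ, true_and] at hh'
    obtain ⟨y, hy, hs⟩ := hκ h hh h' hh'.1 (hht.trans hh'.2.symm)
    have hsS : h⁻¹ * y * h' ∈ S := ⟨H'.mul_mem (H'.mul_mem (H'.inv_mem hh) hy.1) hh'.1, hs⟩
    set s : S := ⟨_, hsS⟩
    set r : S := Quotient.out (QuotientGroup.mk s : R) with hr
    have hb : r⁻¹ * s ∈ Y.subgroupOf S := QuotientGroup.eq.1 (QuotientGroup.out_eq' _)
    simp only [Finset.mem_image, Finset.mem_univ, true_and, Prod.exists]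
    have hb' : (r : G)⁻¹ * (s : G) ∈ Y := hb
    have hbH : (r : G)⁻¹ * (s : G) ∈ H' := H'.mul_mem (H'.inv_mem r.2.1) s.2.1
    have ha : h⁻¹ * y⁻¹ * h ∈ Y' := by
      refine ⟨H'.mul_mem (H'.mul_mem (H'.inv_mem hh) (H'.inv_mem hy.1)) hh, ?_⟩
      simpa using hY h⁻¹ (H'.inv_mem hh) y⁻¹ (Y.inv_mem hy.2)
    have hc : (r : G) * ((r : G)⁻¹ * (s : G)) * (r : G)⁻¹ ∈ Y' :=
      ⟨H'.mul_mem (H'.mul_mem r.2.1 hbH) (H'.inv_mem r.2.1), hY r r.2.1 _ hb'⟩
    refine ⟨⟨_, mul_mem ha hc⟩, QuotientGroup.mk s, ?_⟩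
    show h * (h⁻¹ * y⁻¹ * h * ((r : G) * ((r : G)⁻¹ * (h⁻¹ * y * h')) * (r : G)⁻¹)) * (r : G) = h'
    group
  have hcard : Nat.card H' ≤ T.card * (Nat.card Y' * Nat.card R) := by
    rw [Nat.card_eq_fintype_card, Fintype.card_of_subtype
      (Finset.univ.filter fun h : G => h ∈ H') (by simp)]
    rw [Finset.card_eq_sum_card_fiberwise (f := κ) (t := T) (fun h hh => hT h (by simpa using hh))]
    refine (Finset.sum_le_card_nsmul _ _ _ fun t ht => ?_).trans (le_of_eq (smul_eq_mul _ _))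
    rw [Finset.filter_filter]
    exact hfib t ht
  rw [← PGroup.card_inf_mul_relIndex H' Y, hR, mul_left_comm] at hcard
  exact Nat.le_of_mul_le_mul_left hcard Nat.card_pos

/-- Fixed spaces of different subgroups are independent. -/
theorem prod_card_le [Finite G] [IsMulCommutative V] {ι : Type*} [Fintype ι]
    (W B : ι → Subgroup G) (hWV : ∀ i, W i ≤ V) (hBV : ∀ j, B j ≤ normalizer (V : Set G))
    (hcop : ∀ j, (Nat.card (B j)).Coprime (Nat.card V))
    (hnorm : ∀ i j, B j ≤ normalizer (W i : Set G))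
    (hfix : ∀ j, W j ≤ centralizer (B j : Set G))
    (hdisj : ∀ i j, i ≠ j → W i ⊓ centralizer (B j : Set G) = ⊥) :
    ∏ i, Nat.card (W i) ≤ Nat.card V := by
  classical
  rw [← Nat.card_pi]
  let f : (∀ i, W i) →* V :=
    { toFun := fun x => ∏ i, ⟨(x i : G), hWV i (x i).2⟩
      map_one' := Finset.prod_eq_one fun i _ => rfl
      map_mul' := fun a b => by
        rw [← Finset.prod_mul_distrib]
        rfl }
  refine Nat.card_le_card_of_injective f ((injective_iff_map_eq_one f).2 fun x hx => funext fun j => ?_)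
  have h2 := congrArg (Coprime.conjProd (hBV j)) hx
  rw [map_one, show f x = ∏ i, (⟨(x i : G), hWV i (x i).2⟩ : V) from rfl, map_prod] at h2
  rw [Finset.prod_eq_single j] at h2
  · rw [Coprime.conjProd_of_mem_centralizer (hBV j) (hfix j (x j).2)] at h2
    refine Subtype.ext ?_
    have h3 : ((x j : G)) ^ Nat.card (B j) = 1 := congrArg Subtype.val h2
    exact Subgroup.mem_bot.1 (Coprime.mem_of_pow_mem_of_mem (H := ⊥) (hWV j (x j).2) (hcop j)
      (Subgroup.mem_bot.2 h3))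
  · intro i _ hij
    let _ := Fintype.ofFinite (B j)
    refine Subtype.ext ?_
    have h3 : (Coprime.conjProd (hBV j) ⟨(x i : G), hWV i (x i).2⟩ : G) ∈ W i := by
      rw [Coprime.conjProd_apply]
      refine Subgroup.mem_subgroupOf.1 (Subgroup.prod_mem ((W i).subgroupOf V) fun b _ => ?_)
      rw [Subgroup.mem_subgroupOf, Coprime.coe_conjAut]
      exact (mem_normalizer_iff.1 (hnorm i j b.2) _).1 (x i).2
    exact (Subgroup.eq_bot_iff_forall _).1 (hdisj i j hij) _
      ⟨h3, (Coprime.conjProd_mem_centralizer (hBV j) _).2⟩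
  · intro h
    exact absurd (Finset.mem_univ j) h

/-- An elementary abelian group has a subgroup of index at most `p` with fixed points. -/
theorem exists_fixed_relIndex_le [Finite G] {A : Subgroup G} [IsMulCommutative A] {p : ℕ}
    (hp : p.Prime) (hexp : ∀ a ∈ A, a ^ p = 1) (hAV : A ≤ normalizer (V : Set G))
    (hcop : (Nat.card A).Coprime (Nat.card V)) (hV : V ≠ ⊥) :
    ∃ B ≤ A, B.relIndex A ≤ p ∧ fixV V B ≠ ⊥ := by
  by_contra hcon
  push Not at hcon
  refine hV (eq_bot_iff.2 (Coprime.le_of_cyclic_quotient hAV hcop fun B hB hg => ?_))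
  obtain ⟨g, hg, hle⟩ := hg
  exact (hcon B hB (Coprime.relIndex_le_of_cyclic_quotient hp hexp hB hg hle)).le

end Cfsg.Agent.DerangeIndex
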