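import Cfsg.Agent.Lib.DerangeIndex.Setup

/-!
# The symplectic case

A noncentral element of order `p` of `coreK` with fixed points contradicts a large index.
-/

set_option autoImplicit false

namespace Cfsg.Agent.DerangeIndex

open Subgroup
open scoped commutatorElement

variable {G : Type*} [Group G] {V H Y H' P : Subgroup G} {p : ℕ} {z : G}

/-- The final arithmetic: polylogarithmically many classes lose against a third root. -/
theorem sq_le_of_log {n d M W : ℕ} (hn : 2 ^ 256 ≤ n) (hM : 2 ^ M ≤ n) (hW : W ^ 3 ≤ n)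
    (hd : d ≤ 16 * M ^ 4 * W) : (d + 1) ^ 2 ≤ n := by
  have hn0 : n ≠ 0 := by
    intro h
    subst h
    exact absurd (Nat.le_zero.1 hn) (pow_ne_zero _ two_ne_zero)
  set l := Nat.log 2 n with hl
  have h1 : 2 ^ l ≤ n := Nat.pow_log_le_self 2 hn0
  have h2 : 256 ≤ l := Nat.le_log_of_pow_le one_lt_two hn
  have hMl : M ≤ l := Nat.le_log_of_pow_le one_lt_two hM
  have key : ∀ k : ℕ, 256 ≤ k → 2 ^ 30 * k ^ 24 ≤ 2 ^ k := by
    intro k hk
    induction k, hk using Nat.le_induction with
    | base =>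
      calc 2 ^ 30 * 256 ^ 24 = 2 ^ 30 * (2 ^ 8) ^ 24 := by norm_num
        _ = 2 ^ (30 + 8 * 24) := by rw [← pow_mul, ← pow_add]
        _ ≤ 2 ^ 256 := Nat.pow_le_pow_right (by norm_num) (by norm_num)
    | succ k hk ih =>
      have hstep : (k + 1) ^ 24 ≤ 2 * k ^ 24 := by
        have h3 : ((k + 1) * 256) ^ 24 ≤ (k * 257) ^ 24 := Nat.pow_le_pow_left (by omega) 24
        rw [mul_pow, mul_pow] at h3
        have h4 : 257 ^ 24 ≤ 2 * 256 ^ 24 := by norm_num
        refine Nat.le_of_mul_le_mul_right (?_ : _ * 256 ^ 24 ≤ _ * 256 ^ 24) (by positivity)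
        calc (k + 1) ^ 24 * 256 ^ 24 ≤ k ^ 24 * 257 ^ 24 := h3
          _ ≤ k ^ 24 * (2 * 256 ^ 24) := Nat.mul_le_mul_left _ h4
          _ = 2 * k ^ 24 * 256 ^ 24 := by ring
      calc 2 ^ 30 * (k + 1) ^ 24 ≤ 2 ^ 30 * (2 * k ^ 24) := Nat.mul_le_mul_left _ hstep
        _ = 2 * (2 ^ 30 * k ^ 24) := by ring
        _ ≤ 2 * 2 ^ k := Nat.mul_le_mul_left _ ih
        _ = 2 ^ (k + 1) := by rw [pow_succ']
  rcases Nat.eq_zero_or_pos W with rfl | hWpos
  · rw [mul_zero, Nat.le_zero] at hd
    subst hd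
    simpa using Nat.one_le_iff_ne_zero.2 hn0
  have h5 : d + 1 ≤ 32 * l ^ 4 * W := by
    have h6 : 16 * M ^ 4 * W ≤ 16 * l ^ 4 * W := by gcongr
    have h7 : 1 ≤ l ^ 4 * W := Nat.one_le_iff_ne_zero.2 (by positivity)
    simp only [mul_assoc] at h6 hd ⊢
    omega
  refine (Nat.pow_le_pow_iff_left (show 3 ≠ 0 by norm_num)).1 ?_
  calc ((d + 1) ^ 2) ^ 3 = (d + 1) ^ 6 := by ring
    _ ≤ (32 * l ^ 4 * W) ^ 6 := Nat.pow_le_pow_left h5 6
    _ = 2 ^ 30 * l ^ 24 * (W ^ 3) ^ 2 := by ring
    _ ≤ n * n ^ 2 := Nat.mul_le_mul ((key l h2).trans h1) (Nat.pow_le_pow_left hW 2)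
    _ = n ^ 3 := by ring

/-- The centraliser of an element with commutators in a central subgroup of order `p`. -/
theorem card_centralizer_mul [Finite G] {K : Subgroup G} {a z : G} (hp : p.Prime)
    (hz : orderOf z = p) (hzc : ∀ k ∈ K, k * z = z * k) (hK : ∀ k ∈ K, ⁅k, a⁆ ∈ zpowers z)
    (hne : ∃ k ∈ K, k * a ≠ a * k) :
    Nat.card (K ⊓ centralizer {a} : Subgroup G) * p = Nat.card K := by
  classical
  have hcard : Nat.card (zpowers z) = p := by rw [Nat.card_zpowers, hz]
  have := Fact.mk hp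
  let ψ : K →* zpowers z := MonoidHom.mk' (fun k => ⟨⁅(k : G), a⁆, hK k k.2⟩) (fun u w => by
    refine Subtype.ext ?_
    show ⁅(u : G) * (w : G), a⁆ = ⁅(u : G), a⁆ * ⁅(w : G), a⁆
    obtain ⟨i, hi⟩ := hK w w.2
    obtain ⟨j, hj⟩ := hK u u.2
    replace hi : z ^ i = ⁅(w : G), a⁆ := hi
    replace hj : z ^ j = ⁅(u : G), a⁆ := hj
    have hc : Commute (u : G) (z ^ i) := (show Commute (u : G) z from hzc u u.2).zpow_right i
    calc ⁅(u : G) * (w : G), a⁆ = u * ⁅(w : G), a⁆ * (u : G)⁻¹ * ⁅(u : G), a⁆ := by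
          simp only [commutatorElement_def]; group
      _ = z ^ i * ⁅(u : G), a⁆ := by rw [← hi, hc.eq, mul_inv_cancel_right]
      _ = ⁅(u : G), a⁆ * ⁅(w : G), a⁆ := by
          rw [← hi, ← hj, ← zpow_add, ← zpow_add, add_comm])
  have hker : Nat.card ψ.ker = Nat.card (K ⊓ centralizer {a} : Subgroup G) := by
    refine Nat.card_congr
      { toFun := fun k => ⟨k.1, k.1.2, mem_centralizer_singleton_iff.2
          (commutatorElement_eq_one_iff_mul_comm.1 (congrArg Subtype.val (MonoidHom.mem_ker.1 k.2)))⟩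
        invFun := fun k => ⟨⟨k.1, k.2.1⟩, MonoidHom.mem_ker.2 (Subtype.ext
          (commutatorElement_eq_one_iff_mul_comm.2 (mem_centralizer_singleton_iff.1 k.2.2)))⟩
        left_inv := fun _ => rfl
        right_inv := fun _ => rfl }
  have hrange : Nat.card ψ.range = p := by
    have hdvd : Nat.card ψ.range ∣ p := hcard ▸ ψ.range.card_subgroup_dvd_card
    refine (hp.eq_one_or_self_of_dvd _ hdvd).resolve_left fun h1 => ?_
    obtain ⟨k, hk, hka⟩ := hne
    have h2 : (ψ ⟨k, hk⟩ : zpowers z) ∈ (⊥ : Subgroup (zpowers z)) :=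
      (Subgroup.card_eq_one.1 h1) ▸ ⟨_, rfl⟩
    exact hka (commutatorElement_eq_one_iff_mul_comm.1
      (congrArg Subtype.val (Subgroup.mem_bot.1 h2)))
  rw [← hker, ← hrange, ← Subgroup.index_ker, Subgroup.card_mul_index]

namespace PSetting

variable [Finite G]

/-- A maximal elementary abelian subgroup of `coreK` with its maximality. -/
structure Frame (S : PSetting V H Y H' P p z) (A : Subgroup G) : Prop where
  le : A ≤ coreK P p z
  comm : IsMulCommutative A
  exp : ∀ a ∈ A, a ^ p = 1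
  zmem : z ∈ A
  max : ∀ x ∈ coreK P p z, (∀ a ∈ A, x * a = a * x) → x ^ p = 1 → x ∈ A

theorem exists_frame (S : PSetting V H Y H' P p z) {t : G} (ht : t ∈ coreK P p z)
    (htp : t ^ p = 1) : ∃ A : Subgroup G, Frame S A ∧ t ∈ A := by
  let 𝒜 : Set (Subgroup G) :=
    {A | A ≤ coreK P p z ∧ IsMulCommutative A ∧ (∀ a ∈ A, a ^ p = 1) ∧ z ∈ A ∧ t ∈ A}
  have hext : ∀ (s : Set G), (∀ a ∈ s, ∀ b ∈ s, a * b = b * a) → (∀ a ∈ s, a ^ p = 1) →
      ∀ a ∈ closure s, a ^ p = 1 := by
    intro s hc he a ha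
    have hcomm : IsMulCommutative (closure s) := isMulCommutative_closure hc
    induction ha using closure_induction with
    | mem x hx => exact he x hx
    | one => exact one_pow p
    | mul u w hu hw iu iw =>
      rw [Commute.mul_pow (congrArg Subtype.val (hcomm.is_comm.comm ⟨u, hu⟩ ⟨w, hw⟩)), iu, iw,
        one_mul]
    | inv u _ iu => rw [inv_pow, iu, inv_one]
  have hne : 𝒜.Nonempty := by
    have hc : ∀ a ∈ ({t, z} : Set G), ∀ b ∈ ({t, z} : Set G), a * b = b * a := by
      rintro a (rfl | rfl) b (rfl | rfl) <;>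
        first | rfl | exact S.zcent _ (coreK_le ht) | exact (S.zcent _ (coreK_le ht)).symm
    refine ⟨closure {t, z}, (closure_le _).2 ?_, isMulCommutative_closure hc,
      hext _ hc ?_, subset_closure (by simp), subset_closure (by simp)⟩
    · rintro a (rfl | rfl)
      · exact ht
      · exact S.zmem_coreK
    · rintro a (rfl | rfl)
      · exact htp
      · exact S.zpow_p
  obtain ⟨A, hA⟩ := (Set.toFinite 𝒜).exists_maximal hne
  obtain ⟨h1, h2, h3, h4, h5⟩ := hA.prop
  refine ⟨A, ⟨h1, h2, h3, h4, fun x hx hxc hxp => ?_⟩, h5⟩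
  have hc : ∀ a ∈ insert x (A : Set G), ∀ b ∈ insert x (A : Set G), a * b = b * a := by
    rintro a (rfl | ha) b (rfl | hb)
    · rfl
    · exact hxc b hb
    · exact (hxc a ha).symm
    · exact setLike_mul_comm ha hb
  have hmem : closure (insert x (A : Set G)) ∈ 𝒜 := by
    refine ⟨(closure_le _).2 ?_, isMulCommutative_closure hc, hext _ hc ?_,
      subset_closure (Or.inr h4), subset_closure (Or.inr h5)⟩
    · rintro a (rfl | ha)
      · exact hx
      · exact h1 ha
    · rintro a (rfl | ha)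
      · exact hxp
      · exact h3 a ha
  exact (hA.le_of_ge hmem (fun a ha => subset_closure (Or.inr ha))) (subset_closure (Or.inl rfl))

variable {S : PSetting V H Y H' P p z} {A : Subgroup G}

theorem Frame.leP (F : Frame S A) : A ≤ P := F.le.trans coreK_le

theorem Frame.exists_not_commute (F : Frame S A) {a : G} (ha : a ∈ A) (haz : a ∉ zpowers z) :
    ∃ k ∈ coreK P p z, k * a ≠ a * k := by
  by_contra h
  push Not at h
  exact haz (S.coreK_central (F.le ha) (F.exp a ha) h)

theorem Frame.exists_shift (F : Frame S A) {a c : G} (ha : a ∈ A) (haz : a ∉ zpowers z)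
    (hc : c ∈ zpowers z) : ∃ k ∈ coreK P p z, k * a * k⁻¹ = a * c := by
  obtain ⟨k, hk, hka⟩ := F.exists_not_commute ha haz
  have hkc : ⁅k, a⁆ ∈ zpowers z := S.coreK_comm hk a (F.leP ha)
  have := Fact.mk S.prime
  have hne : ⁅k, a⁆ ≠ 1 := fun h => hka (commutatorElement_eq_one_iff_mul_comm.1 h)
  have hgen : zpowers ⁅k, a⁆ = zpowers z := by
    refine PGroup.eq_of_le_of_card_le (zpowers_le.2 hkc) ?_
    rw [S.card_zpowers_eq, Nat.card_zpowers]
    obtain ⟨i, hi⟩ := hkc
    replace hi : z ^ i = ⁅k, a⁆ := hi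
    rw [orderOf_eq_prime (p := p) ?_ hne]
    rw [← hi, ← zpow_natCast, ← zpow_mul, mul_comm, zpow_mul, zpow_natCast, S.zpow_p, one_zpow]
  have hc' : c ∈ Submonoid.powers ⁅k, a⁆ := mem_powers_iff_mem_zpowers.2 (hgen ▸ hc)
  obtain ⟨n, rfl⟩ := hc'
  refine ⟨k ^ n, pow_mem hk n, ?_⟩
  have hcomm : Commute a ⁅k, a⁆ := S.commute_z (F.leP ha) hkc
  have h1 : k * a * k⁻¹ = a * ⁅k, a⁆ := by
    rw [hcomm.eq, commutatorElement_def]
    group
  have hkz : Commute k ⁅k, a⁆ := S.commute_z (coreK_le hk) hkc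
  clear hc hgen hkc
  induction n with
  | zero => simp
  | succ n ih =>
    calc k ^ (n + 1) * a * (k ^ (n + 1))⁻¹ = k * (k ^ n * a * (k ^ n)⁻¹) * k⁻¹ := by
          rw [pow_succ']; group
      _ = k * a * k⁻¹ * (k * ⁅k, a⁆ ^ n * k⁻¹) := by rw [ih]; group
      _ = a * ⁅k, a⁆ * ⁅k, a⁆ ^ n := by
          rw [h1, (hkz.pow_right n).eq, mul_inv_cancel_right]
      _ = a * ⁅k, a⁆ ^ (n + 1) := by rw [pow_succ', mul_assoc]

theorem Frame.card_eq (F : Frame S A) :
    Nat.card (coreK P p z) * p =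
      Nat.card (coreK P p z ⊓ centralizer (A : Set G) : Subgroup G) * Nat.card A := by
  classical
  have := Fintype.ofFinite G
  set K := coreK P p z
  set C := K ⊓ centralizer (A : Set G)
  set SK := (Finset.univ.filter fun k : G => k ∈ K) with hSK
  set SA := (Finset.univ.filter fun a : G => a ∈ A) with hSA
  have hcardS : ∀ L : Subgroup G, (Finset.univ.filter fun k : G => k ∈ L).card = Nat.card L :=
    fun L => by rw [Nat.card_eq_fintype_card, Fintype.card_of_subtype
      (Finset.univ.filter fun k : G => k ∈ L) (by simp)]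
  have hdc := Finset.sum_card_bipartiteAbove_eq_sum_card_bipartiteBelow
    (s := SA) (t := SK) (fun a k : G => k * a = a * k)
  have hA : ∀ a ∈ SA, p * (SK.filter fun k => k * a = a * k).card =
      if a ∈ zpowers z then p * Nat.card K else Nat.card K := by
    intro a ha
    rw [hSA, Finset.mem_filter] at ha
    split_ifs with haz
    · rw [Finset.filter_true_of_mem, hcardS]
      intro k hk
      rw [hSK, Finset.mem_filter] at hk
      exact S.commute_z (coreK_le hk.2) haz
    · rw [← card_centralizer_mul S.prime S.zord (fun k hk => S.zcent k (coreK_le hk))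
        (fun k hk => S.coreK_comm hk a (F.leP ha.2)) (F.exists_not_commute ha.2 haz), mul_comm,
        ← hcardS]
      congr 2
      ext k
      simp [hSK, K, mem_centralizer_singleton_iff]
  have hK : ∀ k ∈ SK, p * (SA.filter fun a => k * a = a * k).card =
      if k ∈ C then p * Nat.card A else Nat.card A := by
    intro k hk
    rw [hSK, Finset.mem_filter] at hk
    split_ifs with hkC
    · rw [Finset.filter_true_of_mem, hcardS]
      intro a ha
      rw [hSA, Finset.mem_filter] at ha
      exact (hkC.2 a ha.2).symm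
    · have hne : ∃ a ∈ A, a * k ≠ k * a := by
        by_contra h
        push Not at h
        exact hkC ⟨hk.2, fun a ha => h a ha⟩
      rw [← card_centralizer_mul (K := A) (a := k) S.prime S.zord
        (fun a ha => S.zcent a (F.leP ha)) (fun a ha => by
          rw [← commutatorElement_inv]
          exact inv_mem (S.coreK_comm hk.2 a (F.leP ha))) hne, mul_comm, ← hcardS]
      congr 2
      ext a
      simp only [hSA, Finset.mem_filter, Finset.mem_univ, true_and, mem_inf,
        mem_centralizer_singleton_iff]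
      exact and_congr_right fun _ => eq_comm
  have hS := congrArg (p * ·) hdc
  simp only [Finset.mul_sum, Finset.bipartiteAbove, Finset.bipartiteBelow] at hS
  rw [Finset.sum_congr rfl hA, Finset.sum_congr rfl hK, Finset.sum_ite, Finset.sum_ite,
    Finset.sum_const, Finset.sum_const, Finset.sum_const, Finset.sum_const] at hS
  simp only [smul_eq_mul] at hS
  have hz1 : (SA.filter fun a => a ∈ zpowers z).card = p := by
    rw [← S.card_zpowers_eq, ← hcardS]
    congr 1
    ext a
    simp only [hSA, Finset.mem_filter, Finset.mem_univ, true_and]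
    exact ⟨fun h => h.2, fun h => ⟨zpowers_le.2 F.zmem h, h⟩⟩
  have hC1 : (SK.filter fun k => k ∈ C).card = Nat.card C := by
    rw [← hcardS]
    congr 1
    ext a
    simp only [hSK, Finset.mem_filter, Finset.mem_univ, true_and]
    exact ⟨fun h => h.2, fun h => ⟨h.1, h⟩⟩
  have hz2 := Finset.card_filter_add_card_filter_not (s := SA) (fun a => a ∈ zpowers z)
  have hC2 := Finset.card_filter_add_card_filter_not (s := SK) (fun k => k ∈ C)
  rw [hz1, show SA.card = Nat.card A from hcardS A] at hz2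
  rw [hC1, show SK.card = Nat.card K from hcardS K] at hC2
  rw [hz1, hC1] at hS
  obtain ⟨r, rfl⟩ : ∃ r, p = r + 1 := ⟨p - 1, by have := S.prime.pos; omega⟩
  have h2 : r * ((r + 1) * Nat.card K) = r * (Nat.card C * Nat.card A) := by
    nlinarith [hS, hz2, hC2]
  have hr : 0 < r := by have := S.prime.two_le; omega
  have := Nat.eq_of_mul_eq_mul_left hr h2
  rw [← this, mul_comm]

theorem Frame.centralizer_le (F : Frame S A) (hp2 : p ≠ 2) :
    coreK P p z ⊓ centralizer (A : Set G) ≤ A :=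
  fun x hx => F.max x hx.1 (fun a ha => (hx.2 a ha).symm) ((S.coreK_pow hx.1).2 hp2)

theorem Frame.card_centralizer_le (F : Frame S A) :
    Nat.card (coreK P p z ⊓ centralizer (A : Set G) : Subgroup G) ≤ 4 * Nat.card A := by
  classical
  rcases eq_or_ne p 2 with rfl | hp2
  swap
  · exact (Nat.le_of_dvd Nat.card_pos (card_dvd_of_le (F.centralizer_le hp2))).trans (by omega)
  set K := coreK P 2 z
  set C := K ⊓ centralizer (A : Set G) with hC
  have hAC : A ≤ C := fun a ha => ⟨F.le ha, fun b hb =>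
    congrArg Subtype.val (F.comm.is_comm.comm ⟨b, hb⟩ ⟨a, ha⟩)⟩
  have hz2 : z ^ 2 = 1 := S.zpow_p
  have hzp : ∀ c ∈ zpowers z, c = 1 ∨ c = z := by
    rintro _ ⟨i, rfl⟩
    show z ^ i = 1 ∨ z ^ i = z
    rcases Int.even_or_odd' i with ⟨k, rfl | rfl⟩
    · exact Or.inl (by rw [zpow_mul, zpow_ofNat, hz2, one_zpow])
    · exact Or.inr (by rw [zpow_add, zpow_mul, zpow_ofNat, hz2, one_zpow, one_mul, zpow_one])
  have hsq : ∀ x ∈ C, x ∉ A → x ^ 2 = z := fun x hx hxA =>
    (hzp _ (S.coreK_pow hx.1).1).resolve_left fun h =>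
      hxA (F.max x hx.1 (fun a ha => (hx.2 a ha).symm) h)
  have hcommut : ∀ x ∈ C, x ∉ A → ∀ w ∈ C, x * w = w * x → w ∈ A ∨ x⁻¹ * w ∈ A := by
    intro x hx hxA w hw hxw
    by_cases hwA : w ∈ A
    · exact Or.inl hwA
    refine Or.inr (F.max _ (K.mul_mem (K.inv_mem hx.1) hw.1)
      (fun a ha => ((C.mul_mem (C.inv_mem hx) hw).2 a ha).symm) ?_)
    rw [(show Commute x w from hxw).inv_left.mul_pow, inv_pow, hsq x hx hxA, hsq w hw hwA,
      inv_mul_cancel]
  have hcom : ∀ x ∈ C, ∀ w ∈ C, x * w ≠ w * x → ⁅x, w⁆ = z := fun x hx w hw h =>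
    (hzp _ (S.coreK_comm hx.1 w (coreK_le hw.1))).resolve_left
      fun h' => h (commutatorElement_eq_one_iff_mul_comm.1 h')
  by_cases hx : ∃ x ∈ C, x ∉ A
  swap
  · push Not at hx
    exact (Nat.le_of_dvd Nat.card_pos (card_dvd_of_le (show C ≤ A from hx))).trans (by omega)
  obtain ⟨x, hxC, hxA⟩ := hx
  have hex : ∃ y ∈ C, ∀ w ∈ C, w ∈ A ∨ x⁻¹ * w ∈ A ∨ y⁻¹ * w ∈ A ∨ (y * x)⁻¹ * w ∈ A := by
    by_cases hy : ∃ y ∈ C, y ∉ A ∧ x⁻¹ * y ∉ A
    · obtain ⟨y, hyC, hyA, hyx⟩ := hy
      refine ⟨y, hyC, fun w hw => ?_⟩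
      by_contra hcon
      push Not at hcon
      obtain ⟨h1, h2, h3, h4⟩ := hcon
      have hxy : x * y ≠ y * x := fun h => (hcommut x hxC hxA y hyC h).elim hyA hyx
      have hxw : x * w ≠ w * x := fun h => (hcommut x hxC hxA w hw h).elim h1 h2
      have hu : y⁻¹ * w ∈ C := C.mul_mem (C.inv_mem hyC) hw
      have hxu : x * (y⁻¹ * w) = (y⁻¹ * w) * x := by
        have e1 : x * y * x⁻¹ = z * y := by
          rw [← hcom x hxC y hyC hxy, commutatorElement_def]; group
        have e2 : x * w * x⁻¹ = z * w := by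
          rw [← hcom x hxC w hw hxw, commutatorElement_def]; group
        have e3 : x * (y⁻¹ * w) * x⁻¹ = y⁻¹ * w := by
          calc x * (y⁻¹ * w) * x⁻¹ = (x * y * x⁻¹)⁻¹ * (x * w * x⁻¹) := by group
            _ = y⁻¹ * w := by rw [e1, e2]; group
        rw [← mul_inv_eq_iff_eq_mul]
        exact e3
      rcases hcommut x hxC hxA _ hu hxu with h | h
      · exact h3 h
      · refine h4 ?_
        rwa [mul_inv_rev, mul_assoc]
    · push Not at hy
      refine ⟨1, C.one_mem, fun w hw => ?_⟩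
      by_cases hwA : w ∈ A
      · exact Or.inl hwA
      · exact Or.inr (Or.inl (hy w hw hwA))
  obtain ⟨y, hyC, hyall⟩ := hex
  have hsub : (C : Set G) ⊆ ((A : Set G) ∪ (fun a => x * a) '' (A : Set G)) ∪
      ((fun a => y * a) '' (A : Set G) ∪ (fun a => y * x * a) '' (A : Set G)) := by
    intro w hw
    rcases hyall w hw with h | h | h | h
    · exact Or.inl (Or.inl h)
    · exact Or.inl (Or.inr ⟨_, h, by group⟩)
    · exact Or.inr (Or.inl ⟨_, h, by group⟩)
    · exact Or.inr (Or.inr ⟨_, h, by group⟩)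
  have h1 := Set.ncard_le_ncard hsub (Set.toFinite _)
  have h2 := Set.ncard_union_le ((A : Set G) ∪ (fun a => x * a) '' (A : Set G))
    ((fun a => y * a) '' (A : Set G) ∪ (fun a => y * x * a) '' (A : Set G))
  have h3 := Set.ncard_union_le (A : Set G) ((fun a => x * a) '' (A : Set G))
  have h4 := Set.ncard_union_le ((fun a => y * a) '' (A : Set G)) ((fun a => y * x * a) '' (A : Set G))
  have h5 := Set.ncard_image_le (f := fun a => x * a) (Set.toFinite (A : Set G))
  have h6 := Set.ncard_image_le (f := fun a => y * a) (Set.toFinite (A : Set G))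
  have h7 := Set.ncard_image_le (f := fun a => y * x * a) (Set.toFinite (A : Set G))
  rw [show Nat.card C = (C : Set G).ncard from rfl, show Nat.card A = (A : Set G).ncard from rfl]
  omega

/-- The index of the centraliser is logarithmic. -/
theorem Frame.exists_log (F : Frame S A) :
    ∃ M : ℕ, M * p = Nat.card A ∧ 2 ^ M ≤ Nat.card V ∧
      M * Nat.card (coreK P p z ⊓ centralizer (A : Set G) : Subgroup G) = Nat.card (coreK P p z) := by
  classical
  set K := coreK P p z
  set C := K ⊓ centralizer (A : Set G)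
  have := F.comm
  have hp := S.prime
  have := Fact.mk hp
  obtain ⟨B, hBA, hBi, hBf⟩ := exists_fixed_relIndex_le (V := V) hp F.exp (F.leP.trans S.normP)
    (S.lin.card_coprime (F.leP.trans S.hPY)) (S.lin.ne_bot (S.hPY S.zmem) S.zne)
  have hzB : z ∉ B := fun h => hBf
    (eq_bot_iff.2 ((fixV_mono (zpowers_le.2 h)).trans S.zfix.le))
  have hBz : ∀ B' ≤ A, Nat.card B' = Nat.card B → ∀ B'' ≤ A, ¬ B'' ≤ B' → B' ⊔ B'' = A := by
    intro B' hB' hc B'' hB'' hne
    refine PGroup.eq_of_le_of_card_le (sup_le hB' hB'') ?_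
    have hA : IsPGroup p A := fun a => ⟨1, Subtype.ext (by simpa using F.exp a a.2)⟩
    have hlt : B'.subgroupOf A < (B' ⊔ B'').subgroupOf A := by
      refine lt_of_le_of_ne (fun x hx => mem_sup_left (T := B'') hx) fun he => hne fun b hb => ?_
      have : (⟨b, hB'' hb⟩ : A) ∈ (B' ⊔ B'').subgroupOf A := mem_sup_right (S := B') hb
      rw [← he] at this
      exact this
    have h := PGroup.mul_card_le_of_lt hA hlt
    rw [Nat.card_congr (subgroupOfEquivOfLe hB').toEquiv,
      Nat.card_congr (subgroupOfEquivOfLe (sup_le hB' hB'')).toEquiv, hc] at h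
    have hA' := PGroup.card_inf_mul_relIndex A B
    rw [inf_eq_right.2 hBA] at hA'
    rw [← hA', mul_comm]
    exact (Nat.mul_le_mul_right _ hBi).trans h
  let ι := K ⧸ C.subgroupOf K
  let _ : Fintype ι := Fintype.ofFinite ι
  let k : ι → G := fun i => ((Quotient.out i : K) : G)
  have hkA : ∀ i, B.map (MulAut.conj (k i)).toMonoidHom ≤ A := by
    rintro i _ ⟨b, hb, rfl⟩
    have hc := S.coreK_comm (Quotient.out i).2 b (F.leP (hBA hb))
    have : (MulAut.conj (k i)).toMonoidHom b = ⁅k i, b⁆ * b := by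
      simp [commutatorElement_def, mul_assoc]
    rw [this]
    exact A.mul_mem (zpowers_le.2 F.zmem hc) (hBA hb)
  have hne : ∀ i j, i ≠ j → z ∈ B.map (MulAut.conj (k i)).toMonoidHom ⊔
      B.map (MulAut.conj (k j)).toMonoidHom := by
    intro i j hij
    rw [hBz _ (hkA i) (card_map_of_injective (MulAut.conj (k i)).injective) _ (hkA j) fun hle => ?_]
    · exact F.zmem
    have heq : B.map (MulAut.conj (k j)).toMonoidHom = B.map (MulAut.conj (k i)).toMonoidHom :=
      PGroup.eq_of_le_of_card_le hle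
        (by rw [card_map_of_injective (MulAut.conj (k i)).injective,
          card_map_of_injective (MulAut.conj (k j)).injective])
    have hs : B.map (MulAut.conj ((k i)⁻¹ * k j)).toMonoidHom = B := by
      rw [map_conj_mul, heq, ← map_conj_mul, inv_mul_cancel]
      ext x
      simp
    have hsK : (k i)⁻¹ * k j ∈ K :=
      mul_mem (inv_mem (Quotient.out i).2) (Quotient.out j).2
    refine hij ?_
    rw [← QuotientGroup.out_eq' i, ← QuotientGroup.out_eq' j, QuotientGroup.eq]
    show (k i)⁻¹ * k j ∈ C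
    refine ⟨hsK, fun a ha => ?_⟩
    set s := (k i)⁻¹ * k j
    have hsup : A = B ⊔ zpowers z := (hBz B hBA rfl (zpowers z) (zpowers_le.2 F.zmem)
      fun h => hzB (h (mem_zpowers z))).symm
    refine commute_of_mem_sup ?_ ?_ a (hsup ▸ ha)
    · intro b hb
      have hc : ⁅s, b⁆ ∈ zpowers z := S.coreK_comm hsK b (F.leP (hBA hb))
      have hcB : ⁅s, b⁆ ∈ B := by
        have h1 : s * b * s⁻¹ ∈ B := hs.le ⟨b, hb, rfl⟩
        rw [commutatorElement_def]
        exact mul_mem h1 (inv_mem hb)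
      have hbot : B ⊓ zpowers z = ⊥ := by
        rw [eq_bot_iff_forall]
        intro c hc
        by_contra hc1
        have heq : zpowers c = zpowers z := PGroup.eq_of_le_of_card_le (zpowers_le.2 hc.2) (by
          rw [S.card_zpowers_eq, Nat.card_zpowers, orderOf_eq_prime (F.exp c (hBA hc.1)) hc1])
        exact hzB (zpowers_le.2 hc.1 (heq.symm ▸ mem_zpowers z))
      exact (commutatorElement_eq_one_iff_mul_comm.1
        ((eq_bot_iff_forall _).1 hbot _ ⟨hcB, hc⟩)).symm
    · intro b hb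
      exact (S.commute_z (coreK_le hsK) hb).symm
  have h1 := S.pow_card_le F.leP k (fun i => coreK_le (Quotient.out i).2) hkA hne
  have hW : 2 ≤ Nat.card (fixV V B) := by
    have : Nat.card (fixV V B) ≠ 1 := fun h => hBf (card_eq_one.1 h)
    have := Nat.card_pos (α := fixV V B)
    omega
  have h3 : Fintype.card ι * Nat.card C = Nat.card K := by
    rw [mul_comm, ← PGroup.card_inf_mul_relIndex K C, inf_eq_right.2 (inf_le_left : C ≤ K),
      ← Nat.card_eq_fintype_card]
    rfl
  refine ⟨Fintype.card ι, ?_, le_trans (Nat.pow_le_pow_left hW _) h1, h3⟩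
  have h2 := F.card_eq
  rw [← h3, mul_right_comm, mul_comm _ (Nat.card A)] at h2
  exact Nat.eq_of_mul_eq_mul_right Nat.card_pos h2

theorem Frame.card_core_le (F : Frame S A) {M : ℕ} (h1 : M * p = Nat.card A)
    (h2 : M * Nat.card (coreK P p z ⊓ centralizer (A : Set G) : Subgroup G) =
      Nat.card (coreK P p z)) : Nat.card (coreK P p z) ≤ p * (4 * M ^ 2) := by
  have h := Nat.mul_le_mul_left M F.card_centralizer_le
  rw [h2, ← h1] at h
  calc _ ≤ M * (4 * (M * p)) := h
    _ = _ := by ring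

/-- The number of classes modulo `⟨z⟩`. -/
theorem card_image_le [Fintype G] [DecidableEq (G ⧸ zpowers z)] (S : PSetting V H Y H' P p z)
    (T : Finset G) (hT : ∀ x ∈ T, ∀ c ∈ zpowers z, x * c ∈ T) :
    p * (T.image fun x : G => (x : G ⧸ zpowers z)).card ≤ T.card := by
  classical
  refine Finset.mul_card_image_le_card_of_maps_to (f := fun x : G => (x : G ⧸ zpowers z)) ?_ p ?_
  · intro x hx
    exact Finset.mem_image_of_mem _ hx
  · intro q hq
    obtain ⟨x, hx, rfl⟩ := Finset.mem_image.1 hq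
    rw [← S.card_zpowers_eq, Nat.card_eq_fintype_card, Fintype.card_of_subtype
      (Finset.univ.filter fun c : G => c ∈ zpowers z) (by simp)]
    refine Finset.card_le_card_of_injOn (fun c => x * c) ?_ (fun a _ b _ hab => mul_left_cancel hab)
    intro c hc
    simp only [Finset.coe_filter, Finset.mem_univ, true_and, Set.mem_ofPred_eq] at hc ⊢
    exact ⟨hT x hx c hc, QuotientGroup.eq.2 (by simpa using inv_mem hc)⟩

theorem conj_coset (S : PSetting V H Y H' P p z) {b h h' : G} (hh' : h' ∈ H')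
    (heq : ((h * b * h⁻¹ : G) : G ⧸ zpowers z) = ((h' * b * h'⁻¹ : G) : G ⧸ zpowers z)) :
    ∃ c ∈ zpowers z, h'⁻¹ * h * b * (h'⁻¹ * h)⁻¹ = b * c := by
  have h1 := QuotientGroup.eq.1 heq.symm
  have h2 := (mem_normalizer_iff''.1 (S.znorm hh') _).1 h1
  refine ⟨_, h2, ?_⟩
  group

theorem false_of_core (S : PSetting V H Y H' P p z) (hn : 2 ^ 256 ≤ Nat.card V) {t : G}
    (ht : t ∈ coreK P p z) (htp : t ^ p = 1) (htz : t ∉ zpowers z)
    (htf : fixV V (zpowers t) ≠ ⊥) : False := by
  classical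
  have := Fintype.ofFinite G
  have := Fact.mk S.prime
  obtain ⟨A, F, htA⟩ := S.exists_frame ht htp
  obtain ⟨M, hMA, hM2, hMC⟩ := F.exists_log
  have hcard := F.card_core_le hMA hMC
  have := F.comm
  set K := coreK P p z with hKdef
  set C := K ⊓ centralizer (A : Set G) with hCdef
  have hbig := S.lin.big
  set TK := (Finset.univ.filter fun x : G => x ∈ K).image fun x : G => (x : G ⧸ zpowers z) with hTK
  have hTKcard : TK.card ≤ 4 * M ^ 2 := by
    have h1 := S.card_image_le (Finset.univ.filter fun x : G => x ∈ K) fun x hx c hc => by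
      simp only [Finset.mem_filter, Finset.mem_univ, true_and] at hx ⊢
      exact K.mul_mem hx (zpowers_le.2 S.zmem_coreK hc)
    rw [← Fintype.card_of_subtype (Finset.univ.filter fun x : G => x ∈ K) (by simp) (p := fun x => x ∈ K),
      ← Nat.card_eq_fintype_card] at h1
    exact Nat.le_of_mul_le_mul_left (h1.trans hcard) S.prime.pos
  have hmemTK : ∀ h ∈ H', ∀ b ∈ K, ((h * b * h⁻¹ : G) : G ⧸ zpowers z) ∈ TK := fun h hh b hb =>
    Finset.mem_image.2 ⟨_, Finset.mem_filter.2 ⟨Finset.mem_univ _,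
      (mem_normalizer_iff.1 (S.coreK_norm hh) b).1 hb⟩, rfl⟩
  have hzgen : ∀ B : Subgroup G, ∀ c c' : G, c ∈ zpowers z → c' ∈ zpowers z → c ≠ c' →
      ∀ b, b * c ∈ B → b * c' ∈ B → z ∈ B := by
    intro B c c' hc hc' hne b h1 h2
    have h3 : c⁻¹ * c' ∈ B := by
      have := B.mul_mem (B.inv_mem h1) h2
      rwa [mul_inv_rev, mul_assoc, inv_mul_cancel_left] at this
    have h4 : c⁻¹ * c' ∈ zpowers z := mul_mem (inv_mem hc) hc'
    have heq : zpowers (c⁻¹ * c') = zpowers z := by
      refine PGroup.eq_of_le_of_card_le (zpowers_le.2 h4) ?_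
      obtain ⟨i, hi⟩ := h4
      replace hi : z ^ i = c⁻¹ * c' := hi
      rw [S.card_zpowers_eq, Nat.card_zpowers, orderOf_eq_prime (p := p) ?_ fun h => hne (inv_mul_eq_one.1 h)]
      rw [← hi, ← zpow_natCast, ← zpow_mul, mul_comm, zpow_mul, zpow_natCast, S.zpow_p, one_zpow]
    exact zpowers_le.2 h3 (heq.symm ▸ mem_zpowers z)
  -- translates of `⟨b⟩`
  have hpow : ∀ b ∈ A, b ∉ zpowers z → Nat.card (fixV V (zpowers b)) ^ p ≤ Nat.card V := by
    intro b hb hbz
    let _ : Fintype (zpowers z) := Fintype.ofFinite _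
    choose k hk hkb using fun c : zpowers z => F.exists_shift hb hbz c.2
    have h := S.pow_card_le (B := zpowers b) F.leP k (fun c => coreK_le (hk c)) (fun c => by
      rw [MonoidHom.map_zpowers, zpowers_le]
      show k c * b * (k c)⁻¹ ∈ A
      rw [hkb c]
      exact A.mul_mem hb (zpowers_le.2 F.zmem c.2)) (fun c c' hne => by
      refine hzgen _ c c' c.2 c'.2 (fun h => hne (Subtype.ext h)) b ?_ ?_
      · exact mem_sup_left ⟨b, mem_zpowers b, hkb c⟩
      · exact mem_sup_right ⟨b, mem_zpowers b, hkb c'⟩)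
    rwa [← Nat.card_eq_fintype_card, S.card_zpowers_eq] at h
  rcases eq_or_ne p 2 with rfl | hp2
  swap
  · -- odd `p`
    set W := fixV V (zpowers t)
    have hb := S.lin.bound (W := W) (C := ⊥) S.le S.cov inf_le_left htf
      (fun h : G => ((h * t * h⁻¹ : G) : G ⧸ zpowers z)) TK (fun h hh => hmemTK h hh t ht)
      (fun h hh h' hh' heq => by
        obtain ⟨c, hc, hu⟩ := S.conj_coset hh' heq
        obtain ⟨k, hk, hkt⟩ := F.exists_shift htA htz hc
        have hy : h' * k * h'⁻¹ ∈ K := (mem_normalizer_iff.1 (S.coreK_norm hh') k).1 hk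
        refine ⟨_, ⟨S.hPH (coreK_le hy), S.hPY (coreK_le hy)⟩, ?_⟩
        rw [show h⁻¹ * (h' * k * h'⁻¹) * h' = (h'⁻¹ * h)⁻¹ * k by group]
        refine mul_inv_mem_normalizer_fixV (S.lin.norm (S.le (mul_mem
          (inv_mem (mul_mem (inv_mem hh') hh)) (S.hPH (coreK_le hk))))) ?_
        rw [mem_normalizer_iff_map_conj_eq, MonoidHom.map_zpowers]
        congr 1
        show (h'⁻¹ * h)⁻¹ * k * t * ((h'⁻¹ * h)⁻¹ * k)⁻¹ = t
        calc (h'⁻¹ * h)⁻¹ * k * t * ((h'⁻¹ * h)⁻¹ * k)⁻¹
            = (h'⁻¹ * h)⁻¹ * (k * t * k⁻¹) * (h'⁻¹ * h) := by group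
          _ = t := by rw [hkt, ← hu]; group)
      bot_le (e := 1) (fun v _ _ => by rw [bot_inf_eq, card_bot])
    rw [card_bot, one_mul, one_mul] at hb
    have hW3 : Nat.card W ^ 3 ≤ Nat.card V := by
      refine le_trans (Nat.pow_le_pow_right Nat.card_pos ?_) (hpow t htA htz)
      have := S.prime.two_le
      omega
    have hd : Y.relIndex H ≤ 16 * M ^ 4 * Nat.card W := by
      refine hb.trans ?_
      calc TK.card * (Nat.card W - 1) ≤ (4 * M ^ 2) * Nat.card W :=
            Nat.mul_le_mul hTKcard (Nat.sub_le _ _)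
        _ ≤ _ := by
          refine Nat.mul_le_mul_right _ ?_
          calc 4 * M ^ 2 ≤ 16 * (M ^ 2 * M ^ 2) :=
                Nat.mul_le_mul (by norm_num) (Nat.le_mul_self _)
            _ = 16 * M ^ 4 := by ring
    have := sq_le_of_log hn hM2 hW3 hd
    omega
  have hz2 : z ^ 2 = 1 := S.zpow_p
  have hzp : ∀ c ∈ zpowers z, c = 1 ∨ c = z := by
    rintro _ ⟨i, rfl⟩
    show z ^ i = 1 ∨ z ^ i = z
    rcases Int.even_or_odd' i with ⟨k, rfl | rfl⟩
    · exact Or.inl (by rw [zpow_mul, zpow_ofNat, hz2, one_zpow])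
    · exact Or.inr (by rw [zpow_add, zpow_mul, zpow_ofNat, hz2, one_zpow, one_mul, zpow_one])
  have hz1 : z ≠ 1 := S.zne
  rcases Nat.lt_or_ge M 3 with hM3 | hM3
  · -- `p = 2` and `|A| = 4`
    have hA4 : Nat.card A = 4 := by
      have h1 : 2 * 2 ≤ Nat.card A := by
        have hlt : zpowers z < A := lt_of_le_of_ne (zpowers_le.2 F.zmem) fun h => htz (h ▸ htA)
        have hApg : IsPGroup 2 A := fun a => ⟨1, Subtype.ext (by simpa using F.exp a a.2)⟩
        have hlt' : (zpowers z).subgroupOf A < ⊤ := lt_top_iff_ne_top.2 fun h =>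
          hlt.not_ge (subgroupOf_eq_top.1 h)
        have h := PGroup.mul_card_le_of_lt hApg hlt'
        rwa [Nat.card_congr (subgroupOfEquivOfLe (zpowers_le.2 F.zmem)).toEquiv,
          S.card_zpowers_eq, card_top] at h
      omega
    have hM : M = 2 := by omega
    subst hM
    have hAmem : ∀ a ∈ A, a = 1 ∨ a = z ∨ a = t ∨ a = t * z := by
      intro a ha
      by_contra hcon
      push Not at hcon
      obtain ⟨h1, h2, h3, h4⟩ := hcon
      have hsub : ({1, z, t, t * z, a} : Finset G) ⊆ Finset.univ.filter (fun x : G => x ∈ A) := by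
        intro x hx
        simp only [Finset.mem_insert, Finset.mem_singleton] at hx
        simp only [Finset.mem_filter, Finset.mem_univ, true_and]
        rcases hx with rfl | rfl | rfl | rfl | rfl
        exacts [one_mem _, F.zmem, htA, A.mul_mem htA F.zmem, ha]
      have h5 := Finset.card_le_card hsub
      rw [← Fintype.card_of_subtype (Finset.univ.filter fun x : G => x ∈ A) (by simp)
        (p := fun x => x ∈ A), ← Nat.card_eq_fintype_card, hA4] at h5
      have ht1 : t ≠ 1 := fun h => htz (h ▸ one_mem _)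
      have htzz : t ≠ z := fun h => htz (h ▸ mem_zpowers z)
      have htzne1 : t * z ≠ 1 := fun h => htz (by
        rw [eq_inv_of_mul_eq_one_left h]; exact inv_mem (mem_zpowers z))
      have htznez : t * z ≠ z := fun h => ht1 (mul_eq_right.1 h)
      have htznet : t * z ≠ t := fun h => hz1 (mul_eq_left.1 h)
      simp only [Finset.card_insert_of_notMem, Finset.mem_insert, Finset.mem_singleton, not_or,
        Finset.card_singleton, Ne.symm hz1, Ne.symm ht1, Ne.symm htzne1, Ne.symm h1, Ne.symm htzz,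
        Ne.symm htznez, Ne.symm h2, Ne.symm htznet, Ne.symm h3, Ne.symm h4, not_false_eq_true,
        and_self] at h5
      omega
    set I := Finset.univ.filter fun x : G => x ∈ K ∧ x ^ 2 = 1 ∧ x ∉ zpowers z with hI
    set T := I.image fun x : G => (x : G ⧸ zpowers z) with hT
    have hTI : 2 * T.card ≤ I.card := S.card_image_le I fun x hx c hc => by
      simp only [hI, Finset.mem_filter, Finset.mem_univ, true_and] at hx ⊢
      refine ⟨K.mul_mem hx.1 (zpowers_le.2 S.zmem_coreK hc), ?_, fun h => hx.2.2 ?_⟩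
      · rw [(S.commute_z (coreK_le hx.1) hc).mul_pow, hx.2.1, one_mul]
        rcases hzp c hc with rfl | rfl
        exacts [one_pow 2, hz2]
      · simpa using mul_mem h (inv_mem hc)
    have hIcard : 2 * I.card ≤ 4 + Nat.card C := by
      have hsplit := Finset.card_filter_add_card_filter_not (s := I) (fun x => x ∈ C)
      have h1 : (I.filter fun x => x ∈ C).card ≤ 2 := by
        refine le_trans (Finset.card_le_card ?_) (Finset.card_le_two (a := t) (b := t * z))
        intro x hx
        simp only [hI, Finset.mem_filter, Finset.mem_univ, true_and] at hx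
        obtain ⟨⟨hxK, hx2, hxz⟩, hxC⟩ := hx
        rcases hAmem x (F.max x hxK (fun a ha => (hxC.2 a ha).symm) hx2) with h | h | h | h
        · exact absurd (h ▸ one_mem _) hxz
        · exact absurd (h ▸ mem_zpowers z) hxz
        · simp [h]
        · simp [h]
      have h2 : 2 * (I.filter fun x => x ∉ C).card ≤ Nat.card C := by
        set J := I.filter fun x => x ∉ C with hJ
        have hdisj : Disjoint J (J.image (· * t)) := by
          rw [Finset.disjoint_left]
          intro x hx hx'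
          obtain ⟨w, hw, rfl⟩ := Finset.mem_image.1 hx'
          simp only [hJ, hI, Finset.mem_filter, Finset.mem_univ, true_and] at hx hw
          refine hw.2 ⟨hw.1.1, fun a ha => ?_⟩
          have hwt : w * t = t * w := by
            have e1 : w * t * (w * t) = 1 := by rw [← sq, hx.1.2.1]
            have e2 : w * w = 1 := by rw [← sq]; exact hw.1.2.1
            have e3 : t * t = 1 := by rw [← sq]; exact htp
            calc w * t = w * (w * t * (w * t)) * t := by rw [e1, mul_one]
              _ = w * w * (t * w) * (t * t) := by group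
              _ = t * w := by rw [e2, e3, one_mul, mul_one]
          have hwz : w * z = z * w := S.zcent w (coreK_le hw.1.1)
          rcases hAmem a ha with rfl | rfl | rfl | rfl
          · rw [one_mul, mul_one]
          · exact hwz.symm
          · exact hwt.symm
          · exact ((show Commute w t from hwt).mul_right hwz).symm.eq
        have hsub : J ∪ J.image (· * t) ⊆
            (Finset.univ.filter fun x : G => x ∈ K).filter (fun x => x ∉ C) := by
          intro x hx
          simp only [Finset.mem_filter, Finset.mem_univ, true_and]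
          rcases Finset.mem_union.1 hx with hx | hx
          · simp only [hJ, hI, Finset.mem_filter, Finset.mem_univ, true_and] at hx
            exact ⟨hx.1.1, hx.2⟩
          · obtain ⟨w, hw, rfl⟩ := Finset.mem_image.1 hx
            simp only [hJ, hI, Finset.mem_filter, Finset.mem_univ, true_and] at hw
            refine ⟨K.mul_mem hw.1.1 ht, fun h => hw.2 ?_⟩
            have htC : t ∈ C := ⟨ht, fun a ha => setLike_mul_comm ha htA⟩
            simpa using C.mul_mem h (C.inv_mem htC)
        have h3 := Finset.card_le_card hsub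
        rw [Finset.card_union_of_disjoint hdisj,
          Finset.card_image_of_injective _ (mul_left_injective t)] at h3
        have h4 := Finset.card_filter_add_card_filter_not
          (s := Finset.univ.filter fun x : G => x ∈ K) (fun x => x ∈ C)
        have h5 : ((Finset.univ.filter fun x : G => x ∈ K).filter fun x => x ∈ C).card =
            Nat.card C := by
          rw [Nat.card_eq_fintype_card, Fintype.card_of_subtype
            ((Finset.univ.filter fun x : G => x ∈ K).filter fun x => x ∈ C) (fun x => by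
              simp only [Finset.mem_filter, Finset.mem_univ, true_and]
              exact ⟨fun h => h.2, fun h => ⟨h.1, h⟩⟩)]
        rw [h5, ← Fintype.card_of_subtype (Finset.univ.filter fun x : G => x ∈ K) (by simp)
          (p := fun x => x ∈ K), ← Nat.card_eq_fintype_card, ← hMC] at h4
        omega
      omega
    have hC4 : 4 ≤ Nat.card C := hA4 ▸ Nat.le_of_dvd Nat.card_pos (card_dvd_of_le
      (show A ≤ C from fun a ha => ⟨F.le ha, fun b hb => setLike_mul_comm hb ha⟩))
    set W := fixV V (zpowers t) with hW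
    have hb := S.lin.bound (W := W) (C := C) S.le S.cov inf_le_left htf
      (fun h : G => ((h * t * h⁻¹ : G) : G ⧸ zpowers z)) T (fun h hh => by
        refine Finset.mem_image.2 ⟨h * t * h⁻¹, ?_, rfl⟩
        simp only [hI, Finset.mem_filter, Finset.mem_univ, true_and]
        exact ⟨(mem_normalizer_iff.1 (S.coreK_norm hh) t).1 ht, by rw [conj_pow, htp]; group,
          fun hmem => htz ((mem_normalizer_iff.1 (S.znorm hh) t).2 hmem)⟩)
      (fun h hh h' hh' heq => by
        obtain ⟨c, hc, hu⟩ := S.conj_coset hh' heq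
        obtain ⟨k, hk, hkt⟩ := F.exists_shift htA htz hc
        have hy : h' * k * h'⁻¹ ∈ K := (mem_normalizer_iff.1 (S.coreK_norm hh') k).1 hk
        refine ⟨_, ⟨S.hPH (coreK_le hy), S.hPY (coreK_le hy)⟩, ?_⟩
        rw [show h⁻¹ * (h' * k * h'⁻¹) * h' = (h'⁻¹ * h)⁻¹ * k by group]
        refine mul_inv_mem_normalizer_fixV (S.lin.norm (S.le (mul_mem
          (inv_mem (mul_mem (inv_mem hh') hh)) (S.hPH (coreK_le hk))))) ?_
        rw [mem_normalizer_iff_map_conj_eq, MonoidHom.map_zpowers]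
        congr 1
        show (h'⁻¹ * h)⁻¹ * k * t * ((h'⁻¹ * h)⁻¹ * k)⁻¹ = t
        calc (h'⁻¹ * h)⁻¹ * k * t * ((h'⁻¹ * h)⁻¹ * k)⁻¹
            = (h'⁻¹ * h)⁻¹ * (k * t * k⁻¹) * (h'⁻¹ * h) := by group
          _ = t := by rw [hkt, ← hu]; group)
      (fun c hc => ⟨⟨S.hPH (coreK_le hc.1), mul_inv_mem_normalizer_fixV (S.normP (coreK_le hc.1)) (by
          rw [mem_normalizer_iff_map_conj_eq, MonoidHom.map_zpowers]
          congr 1
          show c * t * c⁻¹ = t
          rw [(hc.2 t htA).symm, mul_inv_cancel_right])⟩, S.hPY (coreK_le hc.1)⟩)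
      (e := 2) (fun v hv hv1 => by
        refine le_trans (Nat.le_of_dvd Nat.card_pos (card_dvd_of_le (show C ⊓ centralizer {v} ≤
          zpowers t from ?_))) (by
            rw [Nat.card_zpowers]; exact Nat.le_of_dvd two_pos (orderOf_dvd_of_pow_eq_one htp))
        intro c hc
        have hcv : c * v = v * c := mem_centralizer_singleton_iff.1 hc.2
        have hzv : z * v ≠ v * z := fun h => hv1
          ((eq_bot_iff_forall _).1 S.zfix v (mem_fixV_zpowers.2 ⟨hv.1, h⟩))
        have htv : t * v = v * t := hv.2 t (mem_zpowers t)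
        have hc2 : c ^ 2 = 1 := (hzp _ (S.coreK_pow hc.1.1).1).resolve_right fun h => hzv (by
          rw [← h]; exact ((show Commute c v from hcv).pow_left 2).eq)
        rcases hAmem c (F.max c hc.1.1 (fun a ha => (hc.1.2 a ha).symm) hc2) with h | h | h | h
        · exact h ▸ one_mem _
        · exact absurd (h ▸ hcv) hzv
        · exact h ▸ mem_zpowers t
        · refine absurd ?_ hzv
          have e3 : t * t = 1 := by rw [← sq]; exact htp
          have hz' : z = t * c := by rw [h, ← mul_assoc, e3, one_mul]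
          rw [hz']
          exact ((show Commute t v from htv).mul_left hcv).eq)
    have hW2 := hpow t htA htz
    have hd1 : Y.relIndex H ≤ Nat.card W - 1 := by
      refine Nat.le_of_mul_le_mul_left ?_ (show 0 < 2 * Nat.card C by omega)
      calc 2 * Nat.card C * Y.relIndex H = 2 * (Nat.card C * Y.relIndex H) := by ring
        _ ≤ 2 * (T.card * (2 * (Nat.card W - 1))) := Nat.mul_le_mul_left 2 hb
        _ = 4 * T.card * (Nat.card W - 1) := by ring
        _ ≤ 2 * Nat.card C * (Nat.card W - 1) := Nat.mul_le_mul_right _ (by omega)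
    have hWpos : 1 ≤ Nat.card W := Nat.card_pos
    have := Nat.pow_le_pow_left (show Y.relIndex H + 1 ≤ Nat.card W by omega) 2
    rw [← hW] at hW2
    omega
  · -- `p = 2` and rank at least three
    obtain ⟨B, hBA, hBi, hBf⟩ := exists_fixed_relIndex_le (V := V) S.prime F.exp
      (F.leP.trans S.normP) (S.lin.card_coprime (F.leP.trans S.hPY))
      (S.lin.ne_bot (S.hPY S.zmem) S.zne)
    have hzB : z ∉ B := fun h => hBf
      (eq_bot_iff.2 ((fixV_mono (zpowers_le.2 h)).trans S.zfix.le))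
    have hB3 : 3 ≤ Nat.card B := by
      have hA' := PGroup.card_inf_mul_relIndex A B
      rw [inf_eq_right.2 hBA] at hA'
      have := Nat.mul_le_mul_left (Nat.card B) hBi
      omega
    obtain ⟨b₁, hb₁, b₂, hb₂, hne1, hne2, hne12⟩ :
        ∃ b₁ ∈ B, ∃ b₂ ∈ B, b₁ ≠ 1 ∧ b₂ ≠ 1 ∧ b₁ ≠ b₂ := by
      have h1 : 2 ≤ ((Finset.univ.filter fun x : G => x ∈ B).erase 1).card := by
        rw [Finset.card_erase_of_mem (by simp), ← Fintype.card_of_subtype
          (Finset.univ.filter fun x : G => x ∈ B) (by simp) (p := fun x => x ∈ B),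
          ← Nat.card_eq_fintype_card]
        omega
      obtain ⟨a, ha, b, hb, hab⟩ := Finset.one_lt_card.1 h1
      simp only [Finset.mem_erase, Finset.mem_filter, Finset.mem_univ, true_and] at ha hb
      exact ⟨a, ha.2, b, hb.2, ha.1, hb.1, hab⟩
    have hnz : ∀ b ∈ B, b ≠ 1 → b ∉ zpowers z := fun b hb hb1 h => by
      rcases hzp b h with rfl | rfl
      · exact hb1 rfl
      · exact hzB hb
    have hA₁ := hBA hb₁
    have hA₂ := hBA hb₂
    have hval : ∀ k ∈ K, ∀ a ∈ A, k * a * k⁻¹ = a ∨ k * a * k⁻¹ = a * z := by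
      intro k hk a ha
      have hc := S.coreK_comm hk a (F.leP ha)
      have e : k * a * k⁻¹ = a * ⁅k, a⁆ := by
        rw [(S.commute_z (F.leP ha) hc).eq, commutatorElement_def]; group
      rcases hzp _ hc with h | h <;> rw [h] at e
      · exact Or.inl (by rw [e, mul_one])
      · exact Or.inr e
    have hconjz : ∀ k ∈ K, k * z * k⁻¹ = z := fun k hk => by
      rw [S.zcent k (coreK_le hk), mul_inv_cancel_right]
    -- an element moving exactly the first generator
    have hfirst : ∀ a b : G, a ∈ B → b ∈ B → a ≠ 1 → b ≠ 1 → a ≠ b →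
        ∃ k ∈ K, k * a * k⁻¹ = a * z ∧ k * b * k⁻¹ = b := by
      intro a b haB hbB ha1 hb1 hab
      obtain ⟨k, hk, hka⟩ := F.exists_shift (hBA haB) (hnz a haB ha1) (mem_zpowers z)
      rcases hval k hk b (hBA hbB) with hkb | hkb
      · exact ⟨k, hk, hka, hkb⟩
      have hab1 : a * b ≠ 1 := fun h => hab (by
        rw [eq_inv_of_mul_eq_one_left h, inv_eq_iff_mul_eq_one, ← sq]
        exact F.exp b (hBA hbB))
      obtain ⟨m, hm, hmab⟩ := F.exists_shift (A.mul_mem (hBA haB) (hBA hbB))
        (hnz _ (B.mul_mem haB hbB) hab1) (mem_zpowers z)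
      have hprod : m * a * m⁻¹ * (m * b * m⁻¹) = a * b * z := by rw [← hmab]; group
      have hza : z * a = a * z := (S.zcent a (F.leP (hBA haB))).symm
      have hzb : z * b = b * z := (S.zcent b (F.leP (hBA hbB))).symm
      rcases hval m hm a (hBA haB) with hma | hma
      · refine ⟨k * m, K.mul_mem hk hm, ?_, ?_⟩
        · calc k * m * a * (k * m)⁻¹ = k * (m * a * m⁻¹) * k⁻¹ := by group
            _ = a * z := by rw [hma, hka]
        · rw [hma] at hprod
          replace hprod : a * (m * b * m⁻¹) = a * (b * z) := by rw [hprod, mul_assoc]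
          calc k * m * b * (k * m)⁻¹ = k * (m * b * m⁻¹) * k⁻¹ := by group
            _ = k * b * k⁻¹ * (k * z * k⁻¹) := by rw [mul_left_cancel hprod]; group
            _ = b * (z * z) := by rw [hkb, hconjz k hk, mul_assoc]
            _ = b := by rw [← sq, hz2, mul_one]
      · refine ⟨m, hm, hma, ?_⟩
        rw [hma] at hprod
        replace hprod : a * z * (m * b * m⁻¹) = a * z * b := by
          rw [hprod, mul_assoc a z, hzb, mul_assoc]
        exact mul_left_cancel hprod
    obtain ⟨e₁, he₁, he₁a, he₁b⟩ := hfirst b₁ b₂ hb₁ hb₂ hne1 hne2 hne12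
    obtain ⟨e₂, he₂, he₂b, he₂a⟩ := hfirst b₂ b₁ hb₂ hb₁ hne2 hne1 hne12.symm
    have hall : ∀ c ∈ zpowers z, ∀ c' ∈ zpowers z,
        ∃ k ∈ K, k * b₁ * k⁻¹ = b₁ * c ∧ k * b₂ * k⁻¹ = b₂ * c' := by
      intro c hc c' hc'
      rcases hzp c hc with h | h <;> rcases hzp c' hc' with h' | h' <;> rw [h, h']
      · exact ⟨1, K.one_mem, by group, by group⟩
      · exact ⟨e₂, he₂, by rw [he₂a, mul_one], he₂b⟩
      · exact ⟨e₁, he₁, he₁a, by rw [he₁b, mul_one]⟩
      · refine ⟨e₁ * e₂, K.mul_mem he₁ he₂, ?_, ?_⟩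
        · calc e₁ * e₂ * b₁ * (e₁ * e₂)⁻¹ = e₁ * (e₂ * b₁ * e₂⁻¹) * e₁⁻¹ := by group
            _ = b₁ * z := by rw [he₂a, he₁a]
        · calc e₁ * e₂ * b₂ * (e₁ * e₂)⁻¹ = e₁ * (e₂ * b₂ * e₂⁻¹) * e₁⁻¹ := by group
            _ = e₁ * b₂ * e₁⁻¹ * (e₁ * z * e₁⁻¹) := by rw [he₂b]; group
            _ = b₂ * z := by rw [he₁b, hconjz e₁ he₁]
    set B' := zpowers b₁ ⊔ zpowers b₂ with hB'
    have hB'B : B' ≤ B := sup_le (zpowers_le.2 hb₁) (zpowers_le.2 hb₂)
    have hW : fixV V B' ≠ ⊥ := fun h => hBf (eq_bot_iff.2 ((fixV_mono hB'B).trans h.le))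
    have hnorm : ∀ s : G, s * b₁ * s⁻¹ = b₁ → s * b₂ * s⁻¹ = b₂ →
        s ∈ normalizer (B' : Set G) := fun s h1 h2 => by
      rw [mem_normalizer_iff_map_conj_eq, hB', Subgroup.map_sup, MonoidHom.map_zpowers,
        MonoidHom.map_zpowers]
      congr 2
    have hb := S.lin.bound (W := fixV V B') (C := ⊥) S.le S.cov inf_le_left hW
      (fun h : G => (((h * b₁ * h⁻¹ : G) : G ⧸ zpowers z), ((h * b₂ * h⁻¹ : G) : G ⧸ zpowers z)))
      (TK ×ˢ TK) (fun h hh => Finset.mem_product.2
        ⟨hmemTK h hh b₁ (F.le hA₁), hmemTK h hh b₂ (F.le hA₂)⟩)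
      (fun h hh h' hh' heq => by
        obtain ⟨c, hc, hu⟩ := S.conj_coset hh' (congrArg Prod.fst heq)
        obtain ⟨c', hc', hu'⟩ := S.conj_coset hh' (congrArg Prod.snd heq)
        obtain ⟨k, hk, hk1, hk2⟩ := hall c hc c' hc'
        have hy : h' * k * h'⁻¹ ∈ K := (mem_normalizer_iff.1 (S.coreK_norm hh') k).1 hk
        refine ⟨_, ⟨S.hPH (coreK_le hy), S.hPY (coreK_le hy)⟩, ?_⟩
        rw [show h⁻¹ * (h' * k * h'⁻¹) * h' = (h'⁻¹ * h)⁻¹ * k by group]
        refine mul_inv_mem_normalizer_fixV (S.lin.norm (S.le (mul_mem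
          (inv_mem (mul_mem (inv_mem hh') hh)) (S.hPH (coreK_le hk))))) (hnorm _ ?_ ?_)
        · calc (h'⁻¹ * h)⁻¹ * k * b₁ * ((h'⁻¹ * h)⁻¹ * k)⁻¹
              = (h'⁻¹ * h)⁻¹ * (k * b₁ * k⁻¹) * (h'⁻¹ * h) := by group
            _ = b₁ := by rw [hk1, ← hu]; group
        · calc (h'⁻¹ * h)⁻¹ * k * b₂ * ((h'⁻¹ * h)⁻¹ * k)⁻¹
              = (h'⁻¹ * h)⁻¹ * (k * b₂ * k⁻¹) * (h'⁻¹ * h) := by group
            _ = b₂ := by rw [hk2, ← hu']; group)
      bot_le (e := 1) (fun v _ _ => by rw [bot_inf_eq, card_bot])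
    rw [card_bot, one_mul, one_mul, Finset.card_product] at hb
    let _ : Fintype (zpowers z) := Fintype.ofFinite _
    choose k hk hk1 hk2 using fun c : zpowers z × zpowers z => hall c.1 c.1.2 c.2 c.2.2
    have hW4 := S.pow_card_le (B := B') F.leP k (fun c => coreK_le (hk c)) (fun c => by
      rw [hB', Subgroup.map_sup, MonoidHom.map_zpowers, MonoidHom.map_zpowers]
      refine sup_le (zpowers_le.2 ?_) (zpowers_le.2 ?_)
      · show k c * b₁ * (k c)⁻¹ ∈ A
        rw [hk1 c]; exact A.mul_mem hA₁ (zpowers_le.2 F.zmem c.1.2)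
      · show k c * b₂ * (k c)⁻¹ ∈ A
        rw [hk2 c]; exact A.mul_mem hA₂ (zpowers_le.2 F.zmem c.2.2)) (fun c c' hne => by
      have hm : ∀ (x : zpowers z × zpowers z) (b : G), b ∈ B' →
          k x * b * (k x)⁻¹ ∈ B'.map (MulAut.conj (k x)).toMonoidHom :=
        fun x b hb => ⟨b, hb, rfl⟩
      by_cases h1 : (c.1 : G) = c'.1
      · have h2 : (c.2 : G) ≠ c'.2 := fun h2 => hne (Prod.ext (Subtype.ext h1) (Subtype.ext h2))
        refine hzgen _ _ _ c.2.2 c'.2.2 h2 b₂ (mem_sup_left ?_) (mem_sup_right ?_)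
        · rw [← hk2 c]; exact hm c b₂ (mem_sup_right (mem_zpowers b₂))
        · rw [← hk2 c']; exact hm c' b₂ (mem_sup_right (mem_zpowers b₂))
      · refine hzgen _ _ _ c.1.2 c'.1.2 h1 b₁ (mem_sup_left ?_) (mem_sup_right ?_)
        · rw [← hk1 c]; exact hm c b₁ (mem_sup_left (mem_zpowers b₁))
        · rw [← hk1 c']; exact hm c' b₁ (mem_sup_left (mem_zpowers b₁)))
    rw [Fintype.card_prod, ← Nat.card_eq_fintype_card, S.card_zpowers_eq] at hW4
    have hW3 : Nat.card (fixV V B') ^ 3 ≤ Nat.card V :=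
      le_trans (Nat.pow_le_pow_right Nat.card_pos (by norm_num)) hW4
    have hd : Y.relIndex H ≤ 16 * M ^ 4 * Nat.card (fixV V B') := by
      refine hb.trans ?_
      calc TK.card * TK.card * (Nat.card (fixV V B') - 1)
          ≤ (4 * M ^ 2) * (4 * M ^ 2) * Nat.card (fixV V B') :=
            Nat.mul_le_mul (Nat.mul_le_mul hTKcard hTKcard) (Nat.sub_le _ _)
        _ = 16 * M ^ 4 * Nat.card (fixV V B') := by ring
    have := sq_le_of_log hn hM2 hW3 hd
    omega

end PSetting

end Cfsg.Agent.DerangeIndex
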