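import Cfsg.Agent.Lib.DerangeIndex.Frame
import Cfsg.Agent.Lib.DerangeIndex.Climb

/-!
# Semiregularity of the normal part of a linear setting

If `|V| ≥ 2^256` then no nontrivial element of `Y` has a nontrivial fixed point on `V`.
-/

set_option autoImplicit false

namespace Cfsg.Agent.DerangeIndex

open Subgroup
open scoped commutatorElement

/-- Without a normal four-group the noncentral involutions form at most two classes. -/
theorem exists_two_classes {P : Type*} [Group P] [Finite P] (hP : IsPGroup 2 P)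
    (hE : ¬ ∃ E : Subgroup P, E.Normal ∧ Cfsg.IsElementaryAbelian 2 E ∧ Nat.card E = 2 ^ 2) :
    ∃ a b : P, ∀ x : P, x ^ 2 = 1 → x ∉ center P → ∃ k : P, k * x * k⁻¹ = a ∨ k * x * k⁻¹ = b := by
  have : Fact (Nat.Prime 2) := ⟨Nat.prime_two⟩
  by_cases hc : IsCyclic P
  · refine ⟨1, 1, fun x _ hx => absurd (mem_center_iff.2 fun g => ?_) hx⟩
    let _ := hc.commGroup
    exact mul_comm g x
  rcases (PGroup.exists_normal_elementary_sq_or_cases hP hc).resolve_left hE with
    ⟨-, ⟨n, ⟨e⟩⟩ | ⟨n, ⟨e⟩⟩ | hq⟩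
  · refine ⟨1, 1, fun x hx hxc => absurd ?_ hxc⟩
    have hn : n ≠ 0 := by
      rintro rfl
      have hfin : Finite (QuaternionGroup 0) := Finite.of_equiv P e.toEquiv
      have : Finite (ZMod (2 * 0)) := Finite.of_injective (fun i => QuaternionGroup.a (n := 0) i)
        (fun a b h => by simpa using h)
      exact Infinite.not_finite (α := ℤ) this
    have : NeZero n := ⟨hn⟩
    have h2 : (e x) ^ 2 = 1 := by rw [← map_pow, hx, map_one]
    rcases hex : e x with i | i
    · rw [hex, sq, QuaternionGroup.a_mul_a, ← QuaternionGroup.a_zero] at h2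
      have h3 : i + i = 0 := QuaternionGroup.a.inj h2
      rw [mem_center_iff]
      intro g
      apply e.injective
      rw [map_mul, map_mul, hex]
      rcases e g with j | j
      · rw [QuaternionGroup.a_mul_a, QuaternionGroup.a_mul_a, add_comm]
      · rw [QuaternionGroup.xa_mul_a, QuaternionGroup.a_mul_xa]
        congr 1
        rw [sub_eq_add_neg, ← eq_neg_of_add_eq_zero_left h3]
    · rw [hex, QuaternionGroup.xa_sq, ← QuaternionGroup.a_zero] at h2
      have h3 : ((n : ℕ) : ZMod (2 * n)) = 0 := QuaternionGroup.a.inj h2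
      rw [CharP.cast_eq_zero_iff (ZMod (2 * n)) (2 * n)] at h3
      have := Nat.le_of_dvd (Nat.pos_of_ne_zero hn) h3
      omega
  · refine ⟨e.symm (DihedralGroup.sr 0), e.symm (DihedralGroup.sr 1), fun x hx hxc => ?_⟩
    rcases hex : e x with i | i
    · refine absurd (mem_center_iff.2 fun g => e.injective ?_) hxc
      have h2 : (e x) ^ 2 = 1 := by rw [← map_pow, hx, map_one]
      rw [hex, sq, DihedralGroup.r_mul_r, ← DihedralGroup.r_zero] at h2
      have h3 : i + i = 0 := DihedralGroup.r.inj h2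
      rw [map_mul, map_mul, hex]
      rcases e g with j | j
      · rw [DihedralGroup.r_mul_r, DihedralGroup.r_mul_r, add_comm]
      · rw [DihedralGroup.sr_mul_r, DihedralGroup.r_mul_sr]
        congr 1
        rw [sub_eq_add_neg, ← eq_neg_of_add_eq_zero_left h3]
    · obtain ⟨m, rfl⟩ := ZMod.intCast_surjective i
      obtain ⟨k, hk⟩ : ∃ k : ℤ, m = 2 * k ∨ m = 2 * k + 1 := Int.even_or_odd' m
      refine ⟨e.symm (DihedralGroup.r (k : ZMod n)), ?_⟩
      have hcalc : e.symm (DihedralGroup.r (k : ZMod n)) * x *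
          (e.symm (DihedralGroup.r (k : ZMod n)))⁻¹ =
          e.symm (DihedralGroup.sr ((m : ZMod n) - k - k)) := by
        apply e.injective
        rw [map_mul, map_mul, map_inv, e.apply_symm_apply, e.apply_symm_apply, hex,
          DihedralGroup.inv_r, DihedralGroup.r_mul_sr, DihedralGroup.sr_mul_r]
        congr 1
        rw [sub_eq_add_neg ((m : ZMod n) - k)]
      rw [hcalc]
      rcases hk with rfl | rfl
      · exact Or.inl (by congr 2; push_cast; ring)
      · exact Or.inr (by congr 2; push_cast; ring)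
  · obtain ⟨n, hn, hcard, x₀, y, hxo, hyo, hyx⟩ := hq
    have hidx : (zpowers x₀).index = 2 := by
      have h := (zpowers x₀).card_mul_index
      rw [Nat.card_zpowers, hxo, hcard, pow_succ] at h
      exact Nat.eq_of_mul_eq_mul_left (by positivity) h
    have : (zpowers x₀).Normal := normal_of_index_eq_two hidx
    set r : ℤ := ((2 ^ (n - 1) - 1 : ℕ) : ℤ) with hr
    have hy : y * x₀ * y⁻¹ = x₀ ^ r := by rw [hr, zpow_natCast]; exact hyx
    have hconj : ∀ i : ℤ, y * x₀ ^ i * y⁻¹ = x₀ ^ (r * i) := fun i => by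
      rw [← conj_zpow, hy, ← zpow_mul]
    have hy2 : y⁻¹ = y := inv_eq_of_mul_eq_one_left (by
      rw [← sq, ← hyo, pow_orderOf_eq_one])
    have hord : ∀ i : ℤ, x₀ ^ i = 1 ↔ (2 : ℤ) ^ n ∣ i := fun i => by
      rw [← orderOf_dvd_iff_zpow_eq_one, hxo]
      push_cast
      exact Iff.rfl
    have hyn : y ∉ zpowers x₀ := by
      rintro ⟨i, hi⟩
      replace hi : x₀ ^ i = y := hi
      rw [← hi] at hy
      have h1 : x₀ ^ (r - 1) = 1 := by
        rw [zpow_sub, zpow_one, ← hy]; group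
      rw [hord] at h1
      have h2 : 2 ^ 2 ≤ 2 ^ (n - 1) := Nat.pow_le_pow_right two_pos (by omega)
      have h3 : 2 ^ (n - 1) * 2 = 2 ^ n := by rw [← pow_succ]; congr 1; omega
      have h4 : r - 1 = ((2 ^ (n - 1) - 2 : ℕ) : ℤ) := by rw [hr]; omega
      rw [h4] at h1
      have h5 : 2 ^ n ∣ 2 ^ (n - 1) - 2 := by exact_mod_cast h1
      have := Nat.le_of_dvd (by omega) h5
      omega
    refine ⟨y, y * x₀, fun w hw hwc => ?_⟩
    by_cases hwx : w ∈ zpowers x₀
    · refine absurd (mem_center_iff.2 fun g => ?_) hwc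
      obtain ⟨i, rfl⟩ := hwx
      have hwy : y * x₀ ^ i * y⁻¹ = x₀ ^ i := by
        rw [hconj, ← mul_inv_eq_one, ← zpow_neg, ← zpow_add, hord]
        rw [← zpow_natCast, ← zpow_mul, hord] at hw
        have h2 : (2 : ℤ) ∣ r - 1 := by
          have h2' : 2 ≤ 2 ^ (n - 1) := Nat.one_lt_pow (by omega) one_lt_two
          have h3 : 2 ∣ 2 ^ (n - 1) := dvd_pow_self 2 (by omega)
          rw [hr]
          omega
        obtain ⟨u, hu⟩ := h2
        rw [show r * i + -i = (r - 1) * i by ring, hu, show 2 * u * i = u * (i * (2 : ℕ)) by push_cast; ring]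
        exact Dvd.dvd.mul_left hw u
      by_cases hg : g ∈ zpowers x₀
      · obtain ⟨j, rfl⟩ := hg
        exact (Commute.zpow_zpow_self x₀ j i).eq
      · have hyg : y⁻¹ * g ∈ zpowers x₀ := by
          rw [mul_mem_iff_of_index_two hidx, inv_mem_iff]
          exact iff_of_false hyn hg
        obtain ⟨j, hj⟩ := hyg
        replace hj : x₀ ^ j = y⁻¹ * g := hj
        rw [show g = y * x₀ ^ j by rw [hj, mul_inv_cancel_left], mul_assoc,
          (Commute.zpow_zpow_self x₀ j i).eq, ← mul_assoc, mul_inv_eq_iff_eq_mul.1 hwy, mul_assoc]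
    · have hyw : y⁻¹ * w ∈ zpowers x₀ := by
        rw [mul_mem_iff_of_index_two hidx, inv_mem_iff]
        exact iff_of_false hyn hwx
      obtain ⟨i, hi⟩ := hyw
      replace hi : x₀ ^ i = y⁻¹ * w := hi
      have hw' : w = y * x₀ ^ i := by rw [hi, mul_inv_cancel_left]
      have hmove : ∀ k : ℤ, x₀ ^ k * w * (x₀ ^ k)⁻¹ = y * x₀ ^ (i + k * (r - 1)) := by
        intro k
        have h1 : x₀ ^ k * y = y * x₀ ^ (r * k) := by
          rw [← hconj k, hy2, ← mul_assoc, ← mul_assoc, show y * y = 1 from mul_eq_one_iff_inv_eq.2 hy2,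
            one_mul]
        calc x₀ ^ k * w * (x₀ ^ k)⁻¹ = x₀ ^ k * y * x₀ ^ i * (x₀ ^ k)⁻¹ := by rw [hw']; group
          _ = y * x₀ ^ (r * k) * x₀ ^ i * x₀ ^ (-k) := by rw [h1, zpow_neg]
          _ = y * x₀ ^ (i + k * (r - 1)) := by
            rw [mul_assoc, mul_assoc, ← zpow_add, ← zpow_add]; congr 2; ring
      set u : ℤ := 2 ^ (n - 2) - 1 with hu
      have hru : r - 1 = 2 * u := by
        have h1 : 1 ≤ 2 ^ (n - 1) := Nat.one_le_two_pow
        rw [hr, hu, Nat.cast_sub h1]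
        push_cast
        rw [show n - 1 = n - 2 + 1 by omega, pow_succ]
        ring
      obtain ⟨α, β, hab⟩ : IsCoprime u ((2 : ℤ) ^ n) := by
        refine IsCoprime.pow_right ?_
        refine ⟨-1, 2 ^ (n - 3), ?_⟩
        rw [hu, show n - 2 = n - 3 + 1 by omega, pow_succ]
        ring
      obtain ⟨m, hm⟩ : ∃ m : ℤ, i = 2 * m ∨ i = 2 * m + 1 := Int.even_or_odd' i
      refine ⟨x₀ ^ (-(m * α)), ?_⟩
      rw [hmove, hru]
      rcases hm with rfl | rfl
      · refine Or.inl (mul_eq_left.2 ((hord _).2 ⟨2 * m * β, ?_⟩))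
        linear_combination -(2 * m) * hab
      · refine Or.inr (congrArg (y * ·) ?_)
        show x₀ ^ (2 * m + 1 + -(m * α) * (2 * u)) = x₀
        rw [show 2 * m + 1 + -(m * α) * (2 * u) = 2 ^ n * (2 * m * β) + 1 by
          linear_combination -(2 * m) * hab, zpow_add, zpow_one,
          (hord _).2 (dvd_mul_right _ _), one_mul]

variable {G : Type*} [Group G] {V H Y H' P : Subgroup G} {p : ℕ} {z : G}

/-- An involution without fixed points inverts an abelian group. -/
theorem inv_of_fix_bot {V : Subgroup G} [IsMulCommutative V] {a v : G}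
    (ha2 : a * a = 1) (hn : a ∈ normalizer (V : Set G)) (hfix : fixV V (zpowers a) = ⊥)
    (hv : v ∈ V) : a * v * a⁻¹ = v⁻¹ := by
  have hav : a * v * a⁻¹ ∈ V := (mem_normalizer_iff.1 hn v).1 hv
  refine eq_inv_of_mul_eq_one_left ((eq_bot_iff_forall _).1 hfix _ (mem_fixV_zpowers.2
    ⟨mul_mem hav hv, ?_⟩))
  have hi : a⁻¹ = a := inv_eq_of_mul_eq_one_left ha2
  calc a * (a * v * a⁻¹ * v) = (a * a) * v * (a⁻¹ * v) := by group
    _ = v * (a * v * a⁻¹) * a := by rw [ha2, hi, one_mul]; simp [mul_assoc, ha2]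
    _ = a * v * a⁻¹ * v * a := by rw [setLike_mul_comm hv hav]

theorem PSetting.false_of_no_four [Finite G] (S : PSetting V H Y H' P 2 z)
    (hE : ¬ ∃ E : Subgroup P, E.Normal ∧ Cfsg.IsElementaryAbelian 2 E ∧ Nat.card E = 2 ^ 2)
    {t : G} (ht : t ∈ P) (ht2 : t ^ 2 = 1) (htz : t ∉ zpowers z)
    (htf : fixV V (zpowers t) ≠ ⊥) : False := by
  classical
  have := S.lin.comm
  obtain ⟨a, b, hab⟩ := exists_two_classes S.pgroup hE
  have hz2 : z * z = 1 := by rw [← sq]; exact S.zpow_p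
  have ht22 : t * t = 1 := by rw [← sq]; exact ht2
  have hcomm : Commute t z := S.zcent t ht
  set u := t * z with hu
  have huP : u ∈ P := P.mul_mem ht S.zmem
  have hu2 : u * u = 1 := by
    calc u * u = t * (z * t) * z := by rw [hu]; group
      _ = t * t * (z * z) := by rw [← hcomm.eq]; group
      _ = 1 := by rw [ht22, hz2, one_mul]
  have huz : u ∉ zpowers z := fun h => htz (by simpa [hu] using mul_mem h (inv_mem (mem_zpowers z)))
  have huf : fixV V (zpowers u) ≠ ⊥ := fun h => by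
    refine (show t ≠ 1 from fun h1 => htz (h1 ▸ one_mem _)) ?_
    refine S.lin.faithful t (S.lin.le (S.hPY ht)) fun v hv => ?_
    have e1 := inv_of_fix_bot hz2 (S.normP S.zmem) S.zfix hv
    have e2 := inv_of_fix_bot hu2 (S.normP huP) h hv
    rw [← mul_inv_eq_iff_eq_mul]
    calc t * v * t⁻¹ = u * (z⁻¹ * v * z) * u⁻¹ := by rw [hu]; group
      _ = u * v⁻¹ * u⁻¹ := by
        rw [show z⁻¹ = z from inv_eq_of_mul_eq_one_left hz2] at e1 ⊢
        rw [e1]
      _ = (u * v * u⁻¹)⁻¹ := by group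
      _ = v := by rw [e2, inv_inv]
  -- independence of the two fixed spaces
  have hprod : Nat.card (fixV V (zpowers t)) * Nat.card (fixV V (zpowers u)) ≤ Nat.card V := by
    have hzne : ∀ v ∈ V, t * v = v * t → u * v = v * u → v = 1 := fun v hv h1 h2 => by
      refine (eq_bot_iff_forall _).1 S.zfix v (mem_fixV_zpowers.2 ⟨hv, ?_⟩)
      have : z = t * u := by rw [hu, ← mul_assoc, ht22, one_mul]
      rw [this]
      exact ((show Commute t v from h1).mul_left h2).eq
    have hPV := S.normP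
    have hn : ∀ a' ∈ ({t, u} : Set G), ∀ b' ∈ ({t, u} : Set G),
        zpowers b' ≤ normalizer (fixV V (zpowers a') : Set G) := by
      intro a' ha' b' hb'
      have haP : a' ∈ P := by rcases ha' with rfl | rfl <;> assumption
      have hbP : b' ∈ P := by rcases hb' with rfl | rfl <;> assumption
      rw [zpowers_le]
      refine mul_inv_mem_normalizer_fixV (hPV hbP) ?_
      rw [mem_normalizer_iff_map_conj_eq, MonoidHom.map_zpowers]
      congr 1
      show b' * a' * b'⁻¹ = a'
      rw [mul_inv_eq_iff_eq_mul]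
      have htu : Commute t u := (Commute.refl t).mul_right hcomm
      rcases ha' with rfl | rfl <;> rcases hb' with rfl | rfl
      exacts [rfl, htu.symm.eq, htu.eq, rfl]
    have h := prod_card_le (V := V) (fun i : Bool => fixV V (zpowers (cond i t u)))
      (fun i => zpowers (cond i t u)) (fun i => inf_le_left)
      (fun i => by cases i; exacts [zpowers_le.2 (hPV huP), zpowers_le.2 (hPV ht)])
      (fun i => S.lin.card_coprime (by cases i; exacts [zpowers_le.2 (S.hPY huP), zpowers_le.2 (S.hPY ht)]))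
      (fun i j => hn _ (by cases i <;> simp) _ (by cases j <;> simp)) (fun i => inf_le_right)
      (fun i j hij => by
        rw [eq_bot_iff_forall]
        intro v hv
        have h1 := hv.1.2 _ (mem_zpowers _)
        have h2 := hv.2 _ (mem_zpowers _)
        cases i <;> cases j
        exacts [absurd rfl hij, hzne v hv.1.1 h2 h1, hzne v hv.1.1 h1 h2, absurd rfl hij])
    simpa [Fintype.prod_bool] using h
  obtain ⟨s, hsP, hs2, hsz, hsf, hsW⟩ : ∃ s ∈ P, s ^ 2 = 1 ∧ s ∉ zpowers z ∧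
      fixV V (zpowers s) ≠ ⊥ ∧ Nat.card (fixV V (zpowers s)) ^ 2 ≤ Nat.card V := by
    rcases le_total (Nat.card (fixV V (zpowers t))) (Nat.card (fixV V (zpowers u))) with hle | hle
    · exact ⟨t, ht, ht2, htz, htf, by rw [sq]; exact (Nat.mul_le_mul_left _ hle).trans hprod⟩
    · exact ⟨u, huP, by rw [sq]; exact hu2, huz, huf,
        by rw [sq]; exact (Nat.mul_le_mul_right _ hle).trans hprod⟩
  set W := fixV V (zpowers s)
  have hconj : ∀ h (hh : h ∈ H'), ∃ k : P, k * ⟨h * s * h⁻¹, (mem_normalizer_iff.1 (S.hnP hh) s).1 hsP⟩ * k⁻¹ = a ∨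
      k * ⟨h * s * h⁻¹, (mem_normalizer_iff.1 (S.hnP hh) s).1 hsP⟩ * k⁻¹ = b := by
    intro h hh
    refine hab _ (Subtype.ext (by show (h * s * h⁻¹) ^ 2 = 1; rw [conj_pow, hs2]; group)) fun hc => ?_
    refine hsz ((mem_normalizer_iff.1 (S.znorm hh) s).2 (S.coreK_central ?_ ?_ ?_))
    · refine subset_closure ⟨(mem_normalizer_iff.1 (S.hnP hh) s).1 hsP,
        by rw [conj_pow, hs2]; group, fun y hy => ?_⟩
      rw [commutatorElement_eq_one_iff_mul_comm.2
        (congrArg Subtype.val (mem_center_iff.1 hc ⟨y, hy⟩)).symm]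
      exact one_mem _
    · rw [conj_pow, hs2]; group
    · exact fun k hk => congrArg Subtype.val (mem_center_iff.1 hc ⟨k, PSetting.coreK_le hk⟩)
  have hb := S.lin.bound (W := W) (C := zpowers z) S.le S.cov inf_le_left hsf
    (fun h : G => decide (∃ k : G, k ∈ P ∧ k * (h * s * h⁻¹) * k⁻¹ = (a : G)))
    Finset.univ (fun h _ => Finset.mem_univ _) (fun h hh h' hh' heq => by
      rw [decide_eq_decide] at heq
      obtain ⟨k, k', hk, hk', he⟩ : ∃ k k' : G, k ∈ P ∧ k' ∈ P ∧
          k * (h * s * h⁻¹) * k⁻¹ = k' * (h' * s * h'⁻¹) * k'⁻¹ := by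
        by_cases h1 : ∃ k : G, k ∈ P ∧ k * (h * s * h⁻¹) * k⁻¹ = (a : G)
        · obtain ⟨k', hk', he'⟩ := heq.1 h1
          obtain ⟨k, hk, he⟩ := h1
          exact ⟨k, k', hk, hk', he.trans he'.symm⟩
        · have h2 := fun h' => h1 (heq.2 h')
          obtain ⟨k, hk⟩ := hconj h hh
          obtain ⟨k', hk'⟩ := hconj h' hh'
          have e := hk.resolve_left fun e => h1 ⟨k, k.2, congrArg Subtype.val e⟩
          have e' := hk'.resolve_left fun e => h2 ⟨k', k'.2, congrArg Subtype.val e⟩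
          exact ⟨k, k', k.2, k'.2, congrArg Subtype.val (e.trans e'.symm)⟩
      have hy : k⁻¹ * k' ∈ P := P.mul_mem (P.inv_mem hk) hk'
      refine ⟨_, ⟨S.hPH hy, S.hPY hy⟩, ?_⟩
      refine mul_inv_mem_normalizer_fixV (S.lin.norm (S.le (H'.mul_mem
        (H'.mul_mem (H'.inv_mem hh) (S.hPH hy)) hh'))) ?_
      rw [mem_normalizer_iff_map_conj_eq, MonoidHom.map_zpowers]
      congr 1
      show h⁻¹ * (k⁻¹ * k') * h' * s * (h⁻¹ * (k⁻¹ * k') * h')⁻¹ = s
      calc h⁻¹ * (k⁻¹ * k') * h' * s * (h⁻¹ * (k⁻¹ * k') * h')⁻¹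
          = h⁻¹ * k⁻¹ * (k' * (h' * s * h'⁻¹) * k'⁻¹) * k * h := by group
        _ = s := by rw [← he]; group)
    (zpowers_le.2 ⟨⟨S.hPH S.zmem, mul_inv_mem_normalizer_fixV (S.normP S.zmem) (by
      rw [mem_normalizer_iff_map_conj_eq, MonoidHom.map_zpowers]
      congr 1
      show z * s * z⁻¹ = s
      rw [← S.zcent s hsP, mul_inv_cancel_right])⟩, S.hPY S.zmem⟩)
    (e := 1) (fun v hv hv1 => le_of_eq (card_eq_one.2 ((eq_bot_iff_forall _).2 fun c hc => by
      by_contra hc1
      have heq : zpowers c = zpowers z := PGroup.eq_of_le_of_card_le (zpowers_le.2 hc.1) (by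
        rw [S.card_zpowers_eq, Nat.card_zpowers]
        obtain ⟨i, hi⟩ := hc.1
        replace hi : z ^ i = c := hi
        have := Fact.mk S.prime
        rw [orderOf_eq_prime (p := 2) ?_ hc1]
        rw [← hi, ← zpow_natCast, ← zpow_mul, mul_comm, zpow_mul, zpow_natCast, S.zpow_p, one_zpow])
      refine hv1 ((eq_bot_iff_forall _).1 S.zfix v (heq ▸ mem_fixV_zpowers.2
        ⟨hv.1, mem_centralizer_singleton_iff.1 hc.2⟩)))))
  rw [S.card_zpowers_eq, Finset.card_univ, Fintype.card_bool] at hb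
  have hWpos : 1 ≤ Nat.card W := Nat.card_pos
  have := Nat.pow_le_pow_left (show Y.relIndex H + 1 ≤ Nat.card W by omega) 2
  have := S.lin.big
  omega

/-- Semiregularity. -/
theorem LinSetting.semiregular [Finite G] (L : LinSetting V H Y) (hn : 2 ^ 256 ≤ Nat.card V)
    {y v : G} (hy : y ∈ Y) (hy1 : y ≠ 1) (hv : v ∈ V) (hyv : y * v = v * y) : v = 1 := by
  by_contra hv1
  obtain ⟨p, hp, hpd⟩ := Nat.exists_prime_and_dvd (show orderOf y ≠ 1 from
    fun h => hy1 (orderOf_eq_one_iff.1 h))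
  have := Fact.mk hp
  set x := y ^ (orderOf y / p) with hx
  have hxo : orderOf x = p := orderOf_pow_orderOf_div (orderOf_pos y).ne' hpd
  have hxY : x ∈ Y := pow_mem hy _
  have hxv : x * v = v * x := ((show Commute y v from hyv).pow_left _).eq
  have hxp : x ^ p = 1 := by rw [← hxo, pow_orderOf_eq_one]
  have hxpg : IsPGroup p (zpowers x) :=
    IsPGroup.of_card (n := 1) (by rw [Nat.card_zpowers, hxo, pow_one])
  obtain ⟨P, hxP, hP⟩ := exists_isSylowIn p (zpowers x) Y (zpowers_le.2 hxY) hxpg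
  have hxmem : x ∈ P := hxP (mem_zpowers x)
  have hPne : P ≠ ⊥ := fun h => by
    rw [h, mem_bot] at hxmem
    rw [hxmem, orderOf_one] at hxo
    exact hp.ne_one hxo.symm
  set H' := H ⊓ normalizer (P : Set G) with hH'
  have hcov : ∀ h ∈ H, ∃ k ∈ H', k⁻¹ * h ∈ Y := by
    intro h hh
    obtain ⟨δ, hδ, hN⟩ := hP.frattini (h := h) (fun w hw => L.conj h hh w hw)
    refine ⟨δ * h, ⟨H.mul_mem (L.le hδ) hh, hN⟩, ?_⟩
    have := L.conj h⁻¹ (H.inv_mem hh) δ⁻¹ (Y.inv_mem hδ)
    simpa [mul_assoc] using this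
  obtain ⟨z, S⟩ := exists_pSetting L hp (H' := H') inf_le_left hcov hP.le
    (le_inf (hP.le.trans L.le) le_normalizer) inf_le_right hP.pgroup hPne
  have hxf : fixV V (zpowers x) ≠ ⊥ := fun h =>
    hv1 ((eq_bot_iff_forall _).1 h v (mem_fixV_zpowers.2 ⟨hv, hxv⟩))
  have hxz : x ∉ zpowers z := fun h => hxf (by
    have heq : zpowers x = zpowers z := PGroup.eq_of_le_of_card_le (zpowers_le.2 h)
      (by rw [S.card_zpowers_eq, Nat.card_zpowers, hxo])
    rw [heq, S.zfix])
  by_cases hE : ∃ E : Subgroup P, E.Normal ∧ Cfsg.IsElementaryAbelian p E ∧ Nat.card E = p ^ 2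
  · obtain ⟨t, ht, htp, htz, htf⟩ := S.exists_mem_coreK_fix hE
    exact S.false_of_core hn ht htp htz htf
  have hnc : ¬ IsCyclic P := by
    intro hc
    refine hxz ?_
    exact PGroup.mem_zpowers_of_isCyclic hc S.zmem hxmem S.zord hxp
  obtain ⟨rfl, -⟩ := (PGroup.exists_normal_elementary_sq_or_cases hP.pgroup hnc).resolve_left hE
  exact S.false_of_no_four hE hxmem hxp hxz hxf

end Cfsg.Agent.DerangeIndex
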