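import Cfsg.Agent.Lib.DerangeIndex.Regular
import Cfsg.Agent.Lib.DerangeIndex.Semiregular

/-!
# The linear setting on a regular abelian Sylow subgroup

`H = N(Q) ∩ G_x` acts on `Q`, fixed-point-freely outside `D` and, for large degree, everywhere.
-/

set_option autoImplicit false

namespace Cfsg.Agent.DerangeIndex

open MulAction Subgroup

variable {G : Type*} [Group G] {Ω : Type*} [MulAction G Ω] {D : Subgroup G} {q : ℕ} {Q : Subgroup G}
  {x : Ω}

/-- The complement `N(Q) ∩ G_x`. -/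
abbrev stabN (Q : Subgroup G) (x : Ω) : Subgroup G :=
  Subgroup.normalizer (Q : Set G) ⊓ stabilizer G x

/-- Its part inside `D`. -/
abbrev stabY (D Q : Subgroup G) (x : Ω) : Subgroup G := stabN Q x ⊓ D

theorem RegularSylow.card_eq (R : RegularSylow D q Q x) : Nat.card Q = Nat.card Ω := by
  rw [← card_orbit_of_semi R.semi, ← Nat.card_univ (α := Ω)]
  congr 1
  have : orbit Q x = Set.univ := by
    ext y
    simp only [Set.mem_univ, iff_true]
    obtain ⟨u, hu, rfl⟩ := R.trans y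
    exact ⟨⟨u, hu⟩, rfl⟩
  rw [this]

theorem RegularSylow.eq_one_of_fix (R : RegularSylow D q Q x) {u : G} (hu : u ∈ Q)
    (hx : u • x = x) : u = 1 :=
  (Subgroup.eq_bot_iff_forall _).1 R.semi u ⟨hu, hx⟩

theorem RegularSylow.smul_injOn (R : RegularSylow D q Q x) {u v : G} (hu : u ∈ Q) (hv : v ∈ Q)
    (h : u • x = v • x) : u = v := by
  have := R.eq_one_of_fix (mul_mem (inv_mem hv) hu) (by rw [mul_smul, h, inv_smul_smul])
  exact (inv_mul_eq_one.1 this).symm

theorem RegularSylow.not_dvd_of_le [Finite G] [Fact q.Prime] (R : RegularSylow D q Q x)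
    {T : Subgroup G} (hT : T ≤ D ⊓ stabilizer G x) : ¬ q ∣ Nat.card T := by
  intro hdvd
  obtain ⟨t, ht⟩ := exists_prime_orderOf_dvd_card' q hdvd
  have hp : IsPGroup q (Subgroup.zpowers (t : G)) :=
    IsPGroup.of_card (n := 1) (by rw [Nat.card_zpowers, orderOf_coe, ht, pow_one])
  have h1 := R.stab_coprime _ ((Subgroup.zpowers_le.2 t.2).trans hT) hp
  rw [Subgroup.zpowers_eq_bot] at h1
  have : orderOf t = 1 := by rw [← orderOf_coe, h1, orderOf_one]
  exact (Fact.out : q.Prime).ne_one (ht ▸ this)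

theorem RegularSylow.linSetting [Finite G] [FaithfulSMul G Ω] [Fact q.Prime] (S : Split D Ω)
    (R : RegularSylow D q Q x) (hbig : Nat.card Ω < (D.index + 1) ^ 2) :
    LinSetting Q (stabN Q x) (stabY D Q x) := by
  have := S.normal
  refine ⟨R.comm, inf_le_left, inf_le_left, fun h hh y hy =>
    ⟨(stabN Q x).mul_mem ((stabN Q x).mul_mem hh hy.1) ((stabN Q x).inv_mem hh),
      S.normal.conj_mem y hy.2 h⟩, ?_, ?_, ?_, ?_, ?_⟩
  · obtain ⟨k, hk⟩ := IsPGroup.iff_card.1 R.sylow.pgroup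
    rw [hk]
    exact Nat.Coprime.pow_right k ((Nat.Prime.coprime_iff_not_dvd Fact.out).2
      (R.not_dvd_of_le (T := stabY D Q x) fun t ht => ⟨ht.2, ht.1.2⟩)).symm
  · intro h hh hc
    refine eq_of_smul_eq_smul (α := Ω) fun y => ?_
    rw [one_smul]
    obtain ⟨u, hu, rfl⟩ := R.trans y
    rw [← mul_smul, hc u hu, mul_smul, mem_stabilizer_iff.1 hh.2]
  · intro h hh hY v hv hc
    refine R.eq_one_of_fix hv ?_
    refine S.unique h (fun hD => hY ⟨hh, hD⟩) _ _ ?_ (mem_stabilizer_iff.1 hh.2)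
    rw [← mul_smul, hc, mul_smul, mem_stabilizer_iff.1 hh.2]
  · intro H' hle hcov W hW hn
    refine R.irred W H' hW (hle.trans inf_le_right) (fun g => ?_) hn
    obtain ⟨h, hh, hhg⟩ := R.cov g
    obtain ⟨k, hk, hkh⟩ := hcov h hh
    refine ⟨k, hk, ?_⟩
    rw [show k⁻¹ * g = k⁻¹ * h * (h⁻¹ * g) by group]
    exact mul_mem hkh.2 hhg
  · rw [R.card_eq, show (stabY D Q x).relIndex (stabN Q x) = D.relIndex (stabN Q x) by
      rw [stabY, inf_comm, Subgroup.inf_relIndex_right], R.cov.relIndex]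
    exact hbig

/-- The situation in which everything in `N(Q) ∩ G_x` acts semiregularly on `Q \ {1}`. -/
structure Core (G : Type*) [Group G] {Ω : Type*} [MulAction G Ω] (q : ℕ) (Q : Subgroup G) (x : Ω) :
    Prop where
  prime : q.Prime
  reg : RegularSylow (Derangement.derGrp G Ω) q Q x
  semireg : ∀ h ∈ stabN Q x, ∀ v ∈ Q, h * v = v * h → v ≠ 1 → h = 1
  big : Nat.card Ω < ((Derangement.derGrp G Ω).index + 1) ^ 2
  nontriv : Derangement.derGrp G Ω ⊓ stabilizer G x ≠ ⊥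
  one_lt : 1 < Nat.card Ω

theorem exists_core [Finite G] [Finite Ω] [FaithfulSMul G Ω] [IsPretransitive G Ω]
    (hn : 2 ^ 256 ≤ Nat.card Ω) (hD : Derangement.derGrp G Ω ≠ ⊤)
    (hbig : Nat.card Ω < ((Derangement.derGrp G Ω).index + 1) ^ 2)
    (hnt : ∀ y : Ω, Derangement.derGrp G Ω ⊓ stabilizer G y ≠ ⊥) :
    ∃ (q : ℕ) (Q : Subgroup G) (x : Ω), Core G q Q x := by
  have hn1 : 1 < Nat.card Ω := lt_of_lt_of_le (Nat.one_lt_two_pow (by norm_num)) hn
  obtain ⟨q, hq, Q, x, R⟩ := exists_regularSylow split_derGrp hD hn1 hbig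
  have := Fact.mk hq
  have L := R.linSetting split_derGrp hbig
  refine ⟨q, Q, x, hq, R, fun h hh v hv hc hv1 => ?_, hbig, hnt x, hn1⟩
  by_contra h1
  by_cases hY : h ∈ stabY (Derangement.derGrp G Ω) Q x
  · exact hv1 (L.semiregular (R.card_eq ▸ hn) hY h1 hv hc)
  · exact hv1 (L.fpf h hh hY v hv hc)

end Cfsg.Agent.DerangeIndex
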