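import Cfsg.Agent.Lib.DerangeIndex.CharBound
import Mathlib.GroupTheory.GroupAction.Primitive

/-!
# The index of the subgroup generated by the derangements
-/

set_option autoImplicit false

namespace Cfsg.Agent.DerangeIndex

open MulAction

/-- Unless the group is primitive Frobenius, `([G : D] + 1)^2 ≤ |Ω|`. -/
theorem index_succ_sq_le {G Ω : Type*} [Group G] [Finite G] [MulAction G Ω] [Finite Ω]
    [FaithfulSMul G Ω] [IsPretransitive G Ω] (hn : 2 ^ 256 ≤ Nat.card Ω) :
    (IsPreprimitive G Ω ∧ (∃ g : G, g ≠ 1 ∧ ∃ ω : Ω, g • ω = ω) ∧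
        ∀ g : G, g ≠ 1 → Nat.card (fixedBy Ω g) ≤ 1) ∨
      ((Derangement.derGrp G Ω).index + 1) ^ 2 ≤ Nat.card Ω := by
  by_cases hsq : ((Derangement.derGrp G Ω).index + 1) ^ 2 ≤ Nat.card Ω
  · exact Or.inr hsq
  rw [not_le] at hsq
  have h4 : 4 ≤ Nat.card Ω :=
    le_trans (le_trans (by norm_num) (Nat.pow_le_pow_right (by norm_num) (by norm_num : 2 ≤ 256))) hn
  have hD : Derangement.derGrp G Ω ≠ ⊤ := by
    intro h
    rw [h, Subgroup.index_top] at hsq
    omega
  have : Nontrivial Ω := Finite.one_lt_card_iff_nontrivial.1 (by omega)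
  left
  obtain ⟨a, ha⟩ : ∃ a : Ω, Derangement.derGrp G Ω ⊓ stabilizer G a = ⊥ := by
    by_contra hcon
    push Not at hcon
    obtain ⟨q, Q, x, K⟩ := exists_core hn hD hsq hcon
    exact K.false
  have hall : ∀ b : Ω, Derangement.derGrp G Ω ⊓ stabilizer G b = ⊥ := by
    intro b
    obtain ⟨g, rfl⟩ := exists_smul_eq G a b
    rw [Subgroup.eq_bot_iff_forall]
    rintro u ⟨hu, hub⟩
    have h1 := (Subgroup.eq_bot_iff_forall _).1 ha (g⁻¹ * u * g)
      ⟨Derangement.derGrp_normal.conj_mem' u hu g, by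
        show (g⁻¹ * u * g) • a = a
        rw [mul_smul, mul_smul, mem_stabilizer_iff.1 hub, inv_smul_smul]⟩
    have h2 : u = g * (g⁻¹ * u * g) * g⁻¹ := by group
    rw [h2, h1, mul_one, mul_inv_cancel]
  refine ⟨?_, ?_, ?_⟩
  · rw [← isCoatom_stabilizer_iff_preprimitive G a]
    refine ⟨fun htop => ?_, fun U hU => ?_⟩
    · obtain ⟨b, hb⟩ := exists_ne a
      obtain ⟨g, hg⟩ := exists_smul_eq G a b
      have : g ∈ stabilizer G a := htop ▸ Subgroup.mem_top g
      exact hb (hg.symm.trans this)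
    · by_contra hUt
      have := (split_derGrp (G := G) (Ω := Ω)).sq_le_of_between a U hU hUt
      omega
  · by_contra hcon
    push Not at hcon
    refine hD (eq_top_iff.2 fun g _ => ?_)
    by_cases hg : g = 1
    · exact hg ▸ Subgroup.one_mem _
    · exact Derangement.mem_derGrp_of_forall_ne fun ω => hcon g hg ω
  · intro g hg
    rw [Finite.card_le_one_iff_subsingleton]
    refine ⟨fun b c => Subtype.ext (by_contra fun hne => hg ?_)⟩
    exact (Subgroup.eq_bot_iff_forall _).1 (hall b.1) g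
      ⟨Derangement.mem_of_two_fixed hne b.2 c.2, b.2⟩

end Cfsg.Agent.DerangeIndex
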