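import Cfsg.Agent.Lib.DerangeIndex.Climb

/-!
# The degree is a prime power and a Sylow subgroup of `D` is regular abelian

Unless `([G:D] + 1)^2 ≤ |Ω|`.
-/

set_option autoImplicit false

namespace Cfsg.Agent.DerangeIndex

open MulAction

variable {G : Type*} [Group G] {Ω : Type*} [MulAction G Ω] {D : Subgroup G}

/-- A `q`-subgroup whose normalizer has a covering point stabilizer. -/
structure Stage (D : Subgroup G) (q : ℕ) (U : Subgroup G) (x : Ω) : Prop where
  le : U ≤ D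
  pgroup : IsPGroup q U
  inter : IsSylowIn q (U ⊓ stabilizer G x) (D ⊓ stabilizer G x)
  cov : Covers D (Subgroup.normalizer (U : Set G) ⊓ stabilizer G x)

theorem stage_start [Finite G] [Finite Ω] (S : Split D Ω) {q : ℕ} [Fact q.Prime] (x : Ω) :
    ∃ U : Subgroup G, Stage D q U x := by
  obtain ⟨U, -, hU⟩ := exists_isSylowIn q ⊥ (D ⊓ stabilizer G x) bot_le IsPGroup.of_bot
  have hUx : U ≤ stabilizer G x := hU.le.trans inf_le_right
  refine ⟨U, hU.le.trans inf_le_left, hU.pgroup, by rwa [inf_eq_left.2 hUx], fun g => ?_⟩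
  obtain ⟨h, hh, hhg⟩ := S.covers_stabilizer x g
  obtain ⟨δ, hδ, hN⟩ := hU.frattini (h := h) (fun v hv =>
    ⟨S.normal.conj_mem v hv.1 h, (stabilizer G x).mul_mem ((stabilizer G x).mul_mem hh hv.2) ((stabilizer G x).inv_mem hh)⟩)
  refine ⟨δ * h, ⟨hN, mul_mem hδ.2 hh⟩, ?_⟩
  rw [show (δ * h)⁻¹ * g = h⁻¹ * δ⁻¹ * h * (h⁻¹ * g) by group]
  exact mul_mem (S.normal.conj_mem' _ (inv_mem hδ.1) h) hhg

theorem stage_step [Finite G] [Finite Ω] (S : Split D Ω) (hD : D ≠ ⊤) {q : ℕ} [Fact q.Prime]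
    {U : Subgroup G} {x : Ω} (h : Stage D q U x) (hns : ¬ IsSylowIn q U D) :
    ∃ (U' : Subgroup G) (y : Ω), Nat.card U < Nat.card U' ∧ Stage D q U' y := by
  have := S.normal
  classical
  let L : Subgroup G := Subgroup.normalizer (U : Set G)
  obtain ⟨U', hUU', hU'⟩ := exists_isSylowIn q U (D ⊓ L) (le_inf h.le Subgroup.le_normalizer) h.pgroup
  have hlt : Nat.card U < Nat.card U' := by
    refine lt_of_le_of_ne (Nat.le_of_dvd Nat.card_pos (Subgroup.card_dvd_of_le hUU')) fun heq => ?_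
    obtain ⟨Q, hUQ, hQ⟩ := exists_isSylowIn q U D h.le h.pgroup
    by_cases hQU : Q ≤ U
    · exact hns ⟨h.le, h.pgroup, fun R hR hRp => (hQ.max R hR hRp).trans
        (Nat.le_of_dvd Nat.card_pos (Subgroup.card_dvd_of_le hQU))⟩
    obtain ⟨u, hu1, hu2⟩ := PGroup.exists_mem_normalizer_not_mem (G := Q) hQ.pgroup
      (H := U.subgroupOf Q) (fun h' => hQU (Subgroup.subgroupOf_eq_top.1 h'))
    have huL : (u : G) ∈ L := by
      refine Subgroup.mem_normalizer_fintype fun v hv => ?_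
      have := (Subgroup.mem_normalizer_iff.1 hu1 ⟨v, hUQ hv⟩).1 hv
      exact this
    have hsub : U ⊔ Subgroup.zpowers (u : G) ≤ Q :=
      sup_le hUQ (Subgroup.zpowers_le.2 u.2)
    have h1 := hU'.max (U ⊔ Subgroup.zpowers (u : G))
      (le_inf (hsub.trans hQ.le) (sup_le Subgroup.le_normalizer (Subgroup.zpowers_le.2 huL)))
      (hQ.pgroup.to_le hsub)
    have h2 := PGroup.eq_of_le_of_card_le (le_sup_left : U ≤ U ⊔ Subgroup.zpowers (u : G))
      (heq ▸ h1)
    exact hu2 (Subgroup.mem_subgroupOf.2 (h2 ▸ Subgroup.mem_sup_right (Subgroup.mem_zpowers _)))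
  let M : Subgroup G := D ⊓ L
  have hML : ∀ l ∈ L, ∀ m ∈ M, l * m * l⁻¹ ∈ M := fun l hl m hm =>
    ⟨S.normal.conj_mem m hm.1 l, L.mul_mem (L.mul_mem hl hm.2) (L.inv_mem hl)⟩
  let Y : Set Ω := orbit M x
  have hLY : ∀ l ∈ L, ∀ y ∈ Y, l • y ∈ Y := by
    intro l hl y hy
    obtain ⟨m, rfl⟩ := hy
    obtain ⟨k, hk, hkl⟩ := h.cov l
    have hkM : k⁻¹ * l ∈ M := ⟨hkl, L.mul_mem (L.inv_mem hk.1) hl⟩
    refine ⟨⟨l * m * l⁻¹, hML l hl m m.2⟩ * ⟨k * (k⁻¹ * l) * k⁻¹, hML k hk.1 _ hkM⟩, ?_⟩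
    show (l * (m : G) * l⁻¹ * (k * (k⁻¹ * l) * k⁻¹)) • x = l • ((m : G) • x)
    rw [show l * (m : G) * l⁻¹ * (k * (k⁻¹ * l) * k⁻¹) = l * (m : G) * k⁻¹ by group, mul_smul,
      mul_smul, inv_smul_eq_iff.2 (mem_stabilizer_iff.1 hk.2).symm]
  -- the actions on `Y`
  let actL : MulAction L Y :=
    { smul := fun l y => ⟨(l : G) • y.1, hLY l l.2 y.1 y.2⟩
      one_smul := fun y => Subtype.ext (one_smul G y.1)
      mul_smul := fun a b y => Subtype.ext (mul_smul (a : G) (b : G) y.1) }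
  let K : Subgroup G := Subgroup.normalizer (U' : Set G) ⊓ L
  let actK : MulAction K Y :=
    { smul := fun l y => ⟨(l : G) • y.1, hLY l l.2.2 y.1 y.2⟩
      one_smul := fun y => Subtype.ext (one_smul G y.1)
      mul_smul := fun a b y => Subtype.ext (mul_smul (a : G) (b : G) y.1) }
  have : Nonempty Y := ⟨⟨x, mem_orbit_self x⟩⟩
  have hpre : IsPretransitive (D.subgroupOf L) Y := by
    refine ⟨fun a b => ?_⟩
    obtain ⟨m, hm⟩ := a.2
    obtain ⟨m', hm'⟩ := b.2
    refine ⟨⟨⟨m' * (m : G)⁻¹, mul_mem m'.2.2 (inv_mem m.2.2)⟩,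
      D.mul_mem m'.2.1 (D.inv_mem m.2.1)⟩, Subtype.ext ?_⟩
    show ((m' : G) * (m : G)⁻¹) • a.1 = b.1
    rw [← hm, ← hm']
    show ((m' : G) * (m : G)⁻¹) • ((m : G) • x) = (m' : G) • x
    rw [mul_smul, inv_smul_smul]
  have hone : ∀ g : L, g ∉ D.subgroupOf L → Nat.card (fixedBy Y g) = 1 := by
    intro g hg
    refine Derangement.card_fixedBy_eq_one_of_le_one (D.subgroupOf L) (fun g hg => ?_) hg
    rw [Finite.card_le_one_iff_subsingleton]
    exact ⟨fun a b => Subtype.ext (Subtype.ext (S.unique _ hg _ _ (congrArg Subtype.val a.2)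
      (congrArg Subtype.val b.2)))⟩
  have hKcov : Covers D K := by
    intro g
    obtain ⟨k, hk, hkg⟩ := h.cov g
    obtain ⟨δ, hδ, hN⟩ := hU'.frattini (h := k) (fun v hv => hML k hk.1 v hv)
    refine ⟨δ * k, ⟨hN, mul_mem hδ.2 hk.1⟩, ?_⟩
    rw [show (δ * k)⁻¹ * g = k⁻¹ * δ⁻¹ * k * (k⁻¹ * g) by group]
    exact mul_mem (S.normal.conj_mem' _ (inv_mem hδ.1) k) hkg
  have hKD : D.subgroupOf K ≠ ⊤ := by
    intro htop
    refine hD (eq_top_iff.2 fun g _ => ?_)
    obtain ⟨k, hk, hkg⟩ := hKcov g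
    have hkD : k ∈ D := Subgroup.subgroupOf_eq_top.1 htop hk
    rw [show g = k * (k⁻¹ * g) by group]
    exact mul_mem hkD hkg
  obtain ⟨y, hy⟩ := exists_covering_fixed (K := K) (Y := Y) (D.subgroupOf K) hKD (fun g hg => by
    rw [← hone ⟨(g : G), g.2.2⟩ (fun h' => hg h')]
    exact Nat.card_congr (Equiv.subtypeEquivRight fun _ => Iff.rfl))
  obtain ⟨m, hm⟩ := y.2
  replace hm : (m : G) • x = y.1 := hm
  refine ⟨U', y.1, hlt, hU'.le.trans inf_le_left, hU'.pgroup, ?_, fun g => ?_⟩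
  · refine ⟨fun u hu => ⟨(hU'.le hu.1).1, hu.2⟩, hU'.pgroup.to_le inf_le_left, fun R hR hRp => ?_⟩
    let R' := R.map (MulAut.conj (m : G)⁻¹).toMonoidHom
    have h1 : Nat.card R' ≤ Nat.card (U ⊓ stabilizer G x : Subgroup G) := by
      refine h.inter.max R' ?_ (hRp.map _)
      rintro _ ⟨r, hr, rfl⟩
      refine ⟨by simpa using S.normal.conj_mem' r (hR hr).1 (m : G), ?_⟩
      show ((m : G)⁻¹ * r * (m : G)⁻¹⁻¹) • x = x
      rw [inv_inv, mul_smul, mul_smul, hm, show r • y.1 = y.1 from (hR hr).2, inv_smul_eq_iff, hm]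
    rw [card_map_conj] at h1
    refine h1.trans ?_
    rw [← card_map_conj (U ⊓ stabilizer G x) (m : G)]
    refine Nat.le_of_dvd Nat.card_pos (Subgroup.card_dvd_of_le ?_)
    rintro _ ⟨u, hu, rfl⟩
    refine ⟨hUU' ?_, ?_⟩
    · simpa using ((Subgroup.mem_normalizer_iff.1 m.2.2) u).1 hu.1
    · show ((m : G) * u * (m : G)⁻¹) • y.1 = y.1
      rw [← hm, mul_smul, inv_smul_smul, mul_smul, show u • x = x from hu.2]
  · obtain ⟨k, hk, hkg⟩ := hKcov g
    obtain ⟨k', hk', hkk⟩ := hy ⟨k, hk⟩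
    refine ⟨k', ⟨k'.2.1, congrArg Subtype.val hk'⟩, ?_⟩
    rw [show (k' : G)⁻¹ * g = ((k' : G)⁻¹ * k) * (k⁻¹ * g) by group]
    exact mul_mem hkk hkg

theorem exists_stage_sylow [Finite G] [Finite Ω] (S : Split D Ω) (hD : D ≠ ⊤) (q : ℕ)
    [Fact q.Prime] (x₀ : Ω) :
    ∃ (Q : Subgroup G) (x : Ω), Stage D q Q x ∧ IsSylowIn q Q D := by
  obtain ⟨U, hU⟩ := stage_start S (q := q) x₀
  suffices key : ∀ (k : ℕ) (U : Subgroup G) (x : Ω), Stage D q U x →
      Nat.card D - Nat.card U ≤ k → ∃ (Q : Subgroup G) (x : Ω), Stage D q Q x ∧ IsSylowIn q Q D from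
    key _ U x₀ hU le_rfl
  intro k
  induction k with
  | zero =>
    intro U x h hk
    refine ⟨U, x, h, h.le, h.pgroup, fun R hR _ => ?_⟩
    have := Nat.le_of_dvd Nat.card_pos (Subgroup.card_dvd_of_le hR)
    omega
  | succ k ih =>
    intro U x h hk
    by_cases hs : IsSylowIn q U D
    · exact ⟨U, x, h, hs⟩
    obtain ⟨U', y, hlt, h'⟩ := stage_step S hD h hs
    have := Nat.le_of_dvd Nat.card_pos (Subgroup.card_dvd_of_le h'.le)
    exact ih U' y h' (by omega)

theorem orbit_sup_eq {W C : Subgroup G} {x : Ω} (hC : C ≤ stabilizer G x)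
    (hn : C ≤ Subgroup.normalizer (W : Set G)) :
    orbit ↥(W ⊔ C) x = orbit W x := by
  ext y
  constructor
  · rintro ⟨⟨g, hg⟩, rfl⟩
    have hg' : g ∈ (↑(W ⊔ C) : Set G) := hg
    rw [Subgroup.coe_mul_of_right_le_normalizer_left W C hn] at hg'
    obtain ⟨w, hw, c, hc, rfl⟩ := hg'
    refine ⟨⟨w, hw⟩, ?_⟩
    show w • x = (w * c) • x
    rw [mul_smul, mem_stabilizer_iff.1 (hC hc)]
  · rintro ⟨⟨w, hw⟩, rfl⟩
    exact ⟨⟨w, Subgroup.mem_sup_left hw⟩, rfl⟩

/-- The data produced: a regular abelian Sylow subgroup with an irreducible covering stabilizer. -/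
structure RegularSylow (D : Subgroup G) (q : ℕ) (Q : Subgroup G) (x : Ω) : Prop where
  sylow : IsSylowIn q Q D
  comm : IsMulCommutative Q
  trans : ∀ y : Ω, ∃ u ∈ Q, u • x = y
  semi : Q ⊓ stabilizer G x = ⊥
  stab_coprime : ∀ R : Subgroup G, R ≤ D ⊓ stabilizer G x → IsPGroup q R → R = ⊥
  cov : Covers D (Subgroup.normalizer (Q : Set G) ⊓ stabilizer G x)
  irred : ∀ W C : Subgroup G, W ≤ Q → C ≤ stabilizer G x → Covers D C →
    C ≤ Subgroup.normalizer (W : Set G) → W = ⊥ ∨ W = Q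

theorem card_orbit_of_semi {W : Subgroup G} {x : Ω} (hW : W ⊓ stabilizer G x = ⊥) :
    Nat.card (orbit W x) = Nat.card W := by
  have h := card_orbit_mul_stabilizer W x
  have hbot : stabilizer W x = ⊥ := by
    rw [eq_bot_iff]
    intro w hw
    exact Subgroup.mem_bot.2 (Subtype.ext
      ((Subgroup.eq_bot_iff_forall _).1 hW w ⟨w.2, hw⟩))
  rwa [hbot, Subgroup.card_bot, mul_one] at h

/-- The reduction to a regular abelian Sylow subgroup. -/
theorem exists_regularSylow [Finite G] [Finite Ω] [FaithfulSMul G Ω] (S : Split D Ω) (hD : D ≠ ⊤)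
    (hn : 1 < Nat.card Ω) (hbig : Nat.card Ω < (D.index + 1) ^ 2) :
    ∃ q : ℕ, q.Prime ∧ ∃ (Q : Subgroup G) (x : Ω), RegularSylow D q Q x := by
  have := S.normal
  obtain ⟨q, hq, hqn⟩ := Nat.exists_prime_and_dvd (by omega : Nat.card Ω ≠ 1)
  have := Fact.mk hq
  have : Nonempty Ω := (Nat.card_pos_iff.1 (by omega)).1
  obtain ⟨Q, x, hst, hQ⟩ := exists_stage_sylow S hD q (Classical.arbitrary Ω)
  refine ⟨q, hq, Q, x, ?_⟩
  let C : Subgroup G := Subgroup.normalizer (Q : Set G) ⊓ stabilizer G x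
  have hno : ∀ W C' : Subgroup G, C' ≤ stabilizer G x → Covers D C' →
      C' ≤ Subgroup.normalizer (W : Set G) → Nat.card (orbit W x) ∣ Nat.card Ω →
      Nat.card (orbit W x) ≤ 1 ∨ Nat.card (orbit W x) = Nat.card Ω := by
    intro W C' h1 h2 h3 h4
    by_contra hcon
    push Not at hcon
    have hle := Nat.le_of_dvd (by omega) h4
    have h5 := S.sq_le_of_orbit (W ⊔ C') x (h2.mono (le_inf le_sup_right h1))
    rw [orbit_sup_eq h1 h3] at h5
    have := h5 h4 hcon.1 (lt_of_le_of_ne hle hcon.2)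
    omega
  -- the index of a transitive action
  have htr : IsPretransitive D Ω :=
    ⟨fun a b => (S.trans a b).elim fun g hg => ⟨⟨g, hg.1⟩, hg.2⟩⟩
  have hDcard : Nat.card Ω * Nat.card (D ⊓ stabilizer G x : Subgroup G) = Nat.card D := by
    rw [← card_orbit_mul_stabilizer D x, orbit_eq_univ, Nat.card_univ]
    congr 1
    exact Nat.card_congr
      { toFun := fun g => ⟨⟨g.1, g.2.1⟩, g.2.2⟩
        invFun := fun g => ⟨g.1.1, g.1.2, g.2⟩
        left_inv := fun _ => rfl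
        right_inv := fun _ => rfl }
  have hQorb : Nat.card (orbit Q x) * Nat.card (Q ⊓ stabilizer G x : Subgroup G) = Nat.card Q := by
    rw [← card_orbit_mul_stabilizer Q x]
    congr 1
    exact Nat.card_congr
      { toFun := fun g => ⟨⟨g.1, g.2.1⟩, g.2.2⟩
        invFun := fun g => ⟨g.1.1, g.1.2, g.2⟩
        left_inv := fun _ => rfl
        right_inv := fun _ => rfl }
  -- Sylow orders are the `q`-parts
  have hsyl : ∀ U N : Subgroup G, IsSylowIn q U N →
      Nat.card U = q ^ (Nat.card N).factorization q := by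
    intro U N hU
    let P : Sylow q N := Classical.arbitrary _
    rw [← P.card_eq_multiplicity]
    refine le_antisymm ?_ ?_
    · obtain ⟨P', hP'⟩ := (hU.pgroup.of_equiv
        (Subgroup.subgroupOfEquivOfLe hU.le).symm).exists_le_sylow
      rw [← Nat.card_congr (Subgroup.subgroupOfEquivOfLe hU.le).toEquiv,
        Nat.card_congr (Sylow.equiv P P').toEquiv]
      exact Nat.le_of_dvd Nat.card_pos (Subgroup.card_dvd_of_le hP')
    · rw [← Subgroup.card_map_of_injective N.subtype_injective]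
      exact hU.max _ (Subgroup.map_subtype_le _) (P.2.map _)
  have horb : Nat.card (orbit Q x) = q ^ (Nat.card Ω).factorization q := by
    have h1 := hsyl _ _ hQ
    have h2 := hsyl _ _ hst.inter
    rw [← hDcard, Nat.factorization_mul (by omega) Nat.card_pos.ne', Finsupp.add_apply, pow_add,
      ← hQorb, h2] at h1
    exact Nat.eq_of_mul_eq_mul_right (pow_pos hq.pos _) h1
  have hQx : Nat.card (orbit Q x) = Nat.card Ω := by
    refine (hno Q C inf_le_right hst.cov inf_le_left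
      (horb ▸ Nat.ordProj_dvd _ _)).resolve_left fun h1 => ?_
    have := hq.factorization_pos_of_dvd (by omega) hqn
    rw [horb] at h1
    have := Nat.one_lt_pow this.ne' hq.one_lt
    omega
  have huniv : orbit Q x = Set.univ :=
    Set.eq_of_subset_of_ncard_le (Set.subset_univ _)
      (by rw [← Nat.card_coe_set_eq (orbit Q x), hQx, Set.ncard_univ]) (Set.toFinite _)
  have htrans : ∀ y : Ω, ∃ u ∈ Q, u • x = y := by
    intro y
    have hy : y ∈ orbit Q x := huniv ▸ Set.mem_univ y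
    obtain ⟨⟨u, hu⟩, rfl⟩ := hy
    exact ⟨u, hu, rfl⟩
  -- the point stabilizer in `Q` contains the derived subgroup, hence is trivial
  let Qx : Subgroup G := Q ⊓ stabilizer G x
  have hder : ⁅Q, Q⁆ ≤ Qx := by
    have hle : Qx ⊔ ⁅Q, Q⁆ ≤ Q := sup_le inf_le_left (Subgroup.commutator_le_self Q)
    have hnorm : C ≤ Subgroup.normalizer ((Qx ⊔ ⁅Q, Q⁆ : Subgroup G) : Set G) := by
      intro c hc
      rw [Subgroup.mem_normalizer_iff_map_conj_eq, Subgroup.map_sup, Subgroup.map_commutator,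
        Subgroup.mem_normalizer_iff_map_conj_eq.1 hc.1]
      congr 1
      rw [Subgroup.map_inf _ _ _ (MulAut.conj c).injective,
        Subgroup.mem_normalizer_iff_map_conj_eq.1 hc.1,
        Subgroup.mem_normalizer_iff_map_conj_eq.1 (Subgroup.le_normalizer hc.2)]
    let W := Qx ⊔ ⁅Q, Q⁆
    have horbW : Nat.card (orbit W x) * Nat.card Qx = Nat.card W := by
      rw [← card_orbit_mul_stabilizer W x]
      congr 1
      exact Nat.card_congr
        { toFun := fun g => ⟨⟨g.1, Subgroup.mem_sup_left g.2⟩, g.2.2⟩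
          invFun := fun g => ⟨g.1.1, hle g.1.2, g.2⟩
          left_inv := fun _ => rfl
          right_inv := fun _ => rfl }
    have hdvd : Nat.card (orbit W x) ∣ Nat.card Ω := by
      rw [← hQx]
      refine Nat.dvd_of_mul_dvd_mul_right Nat.card_pos (k := Nat.card Qx) ?_
      rw [horbW, hQorb]
      exact Subgroup.card_dvd_of_le hle
    rcases hno W C inf_le_right hst.cov hnorm hdvd with h1 | h1
    · have hWQ : W = Qx := by
        refine (PGroup.eq_of_le_of_card_le le_sup_left ?_).symm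
        rw [← horbW]
        exact (Nat.mul_le_mul_right _ h1).trans (le_of_eq (one_mul _))
      exact le_sup_right.trans hWQ.le
    · have hWQ : W = Q := PGroup.eq_of_le_of_card_le hle (by rw [← horbW, h1, ← hQx, hQorb])
      have hfr : Qx.subgroupOf Q ⊔ frattini Q = ⊤ := by
        rw [eq_top_iff]
        refine le_trans ?_ (sup_le_sup_left (PGroup.commutator_le_frattini hQ.pgroup) _)
        intro u _
        have hu : (u : G) ∈ (Qx.subgroupOf Q ⊔ _root_.commutator Q).map Q.subtype := by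
          rw [Subgroup.map_sup, Subgroup.subgroupOf_map_subtype, inf_eq_left.2 inf_le_left,
            Subgroup.map_subtype_commutator]
          exact hWQ.ge u.2
        obtain ⟨u', hu', he⟩ := hu
        exact (Subtype.ext he : u' = u) ▸ hu'
      have htop := Subgroup.subgroupOf_eq_top.1 (PGroup.eq_top_of_sup_frattini hfr)
      exact (Subgroup.commutator_le_self Q).trans htop
  have hsemi : Qx = ⊥ := by
    rw [Subgroup.eq_bot_iff_forall]
    intro u hu
    refine eq_of_smul_eq_smul (α := Ω) fun y => ?_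
    rw [one_smul]
    obtain ⟨w, hw, rfl⟩ := htrans y
    have hc : w⁻¹ * u * w ∈ Qx := by
      have : (w⁻¹ * u * w⁻¹⁻¹ * u⁻¹) * u = w⁻¹ * u * w := by group
      rw [← this, ← commutatorElement_def]
      exact mul_mem (hder (Subgroup.commutator_mem_commutator (inv_mem hw) hu.1)) hu
    have hu2 := mem_stabilizer_iff.1 hc.2
    calc u • w • x = w • ((w⁻¹ * u * w) • x) := by simp [← mul_smul, mul_assoc]
      _ = w • x := by rw [hu2]
  refine ⟨hQ, ?_, htrans, hsemi, ?_, hst.cov, ?_⟩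
  · refine ⟨⟨fun a b => Subtype.ext ?_⟩⟩
    have := hder (Subgroup.commutator_mem_commutator a.2 b.2)
    rw [hsemi, Subgroup.mem_bot] at this
    exact commutatorElement_eq_one_iff_mul_comm.1 this
  · intro R hR hRp
    have h1 := hst.inter.max R hR hRp
    rw [show Q ⊓ stabilizer G x = ⊥ from hsemi, Subgroup.card_bot] at h1
    exact Subgroup.card_eq_one.1 (le_antisymm h1 Nat.card_pos)
  · intro W C' hW hC hcov hn'
    have hWs : W ⊓ stabilizer G x = ⊥ := eq_bot_iff.2 ((inf_le_inf_right _ hW).trans hsemi.le)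
    have hQs : Q ⊓ stabilizer G x = ⊥ := hsemi
    have hWc := card_orbit_of_semi hWs
    have hQc := card_orbit_of_semi hQs
    rcases hno W C' hC hcov hn' (by
      rw [hWc, ← hQx, hQc]; exact Subgroup.card_dvd_of_le hW) with h1 | h1
    · exact Or.inl (Subgroup.card_eq_one.1 (le_antisymm (hWc ▸ h1) Nat.card_pos))
    · exact Or.inr (PGroup.eq_of_le_of_card_le hW (by rw [← hWc, h1, ← hQx, hQc]))

end Cfsg.Agent.DerangeIndex
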