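import Cfsg.Agent.Lib.DerangeIndex.Lin

/-!
# The Sylow subgroup is self-centralising in `D`, not normal, and `N(Q) ∩ G_x` is not transitive
-/

set_option autoImplicit false

namespace Cfsg.Agent.DerangeIndex

open MulAction
open scoped IsMulCommutative

variable {G : Type*} [Group G] [Finite G] {Ω : Type*} [MulAction G Ω] [Finite Ω] [FaithfulSMul G Ω]
  [IsPretransitive G Ω] {q : ℕ} {Q : Subgroup G} {x : Ω}

local notation "𝒟" => Derangement.derGrp G Ω

omit [Finite Ω] [IsPretransitive G Ω] in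
/-- Burnside's transfer in a transitive subgroup of `D` containing `Q`. -/
theorem Core.inf_stab_eq_bot (K : Core G q Q x) {C : Subgroup G} (hQC : Q ≤ C) (hC : C ≤ 𝒟)
    (hN : ∀ c ∈ C, c • x = x → c ∈ Subgroup.normalizer (Q : Set G) → c = 1) :
    C ⊓ stabilizer G x = ⊥ := by
  have := Fact.mk K.prime
  have := K.reg.comm
  obtain ⟨P, hP⟩ := (K.reg.sylow.pgroup.of_equiv
    (Subgroup.subgroupOfEquivOfLe hQC).symm).exists_le_sylow
  have hPQ : (P : Subgroup C) = Q.subgroupOf C := by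
    refine (PGroup.eq_of_le_of_card_le hP ?_).symm
    rw [Nat.card_congr (Subgroup.subgroupOfEquivOfLe hQC).toEquiv,
      ← Subgroup.card_map_of_injective C.subtype_injective]
    exact K.reg.sylow.max _ ((Subgroup.map_subtype_le _).trans hC) (P.2.map _)
  have hle : Subgroup.normalizer ((P : Subgroup C) : Set C) ≤
      Subgroup.centralizer ((P : Subgroup C) : Set C) := by
    intro c hc
    rw [hPQ] at hc ⊢
    have hcQ : (c : G) ∈ Subgroup.normalizer (Q : Set G) := by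
      refine Subgroup.mem_normalizer_fintype fun v hv => ?_
      exact (Subgroup.mem_normalizer_iff.1 hc ⟨v, hQC hv⟩).1 hv
    obtain ⟨u, hu, hux⟩ := K.reg.trans ((c : G) • x)
    have h1 : u⁻¹ * (c : G) = 1 := hN _ (C.mul_mem (C.inv_mem (hQC hu)) c.2)
      (by rw [mul_smul, ← hux, inv_smul_smul])
      ((Subgroup.normalizer (Q : Set G)).mul_mem (inv_mem (Subgroup.le_normalizer hu)) hcQ)
    rw [inv_mul_eq_one] at h1
    intro v hv
    refine Subtype.ext ?_
    show (v : G) * c = c * v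
    rw [← h1]
    exact congrArg Subtype.val (mul_comm' (⟨v, hv⟩ : Q) ⟨u, hu⟩)
  set f := MonoidHom.transferSylow P hle with hf
  have hker : ∀ c : C, (c : G) • x = x → c ∈ f.ker := by
    intro c hc
    rw [MonoidHom.mem_ker]
    have h1 : orderOf (f c) ∣ orderOf c := orderOf_map_dvd f c
    obtain ⟨k, hk⟩ := P.2 (f c)
    obtain ⟨i, -, hi⟩ := (Nat.dvd_prime_pow K.prime).1 (orderOf_dvd_of_pow_eq_one hk)
    rcases Nat.eq_zero_or_pos i with rfl | hi0
    · exact orderOf_eq_one_iff.1 (by simpa using hi)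
    exfalso
    refine K.reg.not_dvd_of_le (T := Subgroup.zpowers (c : G))
      (Subgroup.zpowers_le.2 ⟨hC c.2, hc⟩) ?_
    rw [Nat.card_zpowers, Subgroup.orderOf_coe]
    exact (dvd_trans (dvd_pow_self q hi0.ne') (hi ▸ h1))
  have hfix : ∀ c ∈ f.ker, (c : G) • x = x := by
    intro c hc
    obtain ⟨u, hu, hux⟩ := K.reg.trans ((c : G) • x)
    let u' : C := ⟨u, hQC hu⟩
    have h1 : u'⁻¹ * c ∈ f.ker := hker _ (by
      show (u⁻¹ * (c : G)) • x = x
      rw [mul_smul, ← hux, inv_smul_smul])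
    have h2 : u' ∈ f.ker := by
      have := mul_mem hc (inv_mem h1)
      rwa [mul_inv_rev, inv_inv, mul_inv_cancel_left] at this
    have h3 : u' ∈ f.ker ⊓ (P : Subgroup C) := ⟨h2, hPQ ▸ hu⟩
    rw [(MonoidHom.ker_transferSylow_isComplement' P hle).disjoint.eq_bot, Subgroup.mem_bot] at h3
    rw [← hux, show u = 1 from congrArg Subtype.val h3, one_smul]
  rw [Subgroup.eq_bot_iff_forall]
  rintro g ⟨hgC, hgx⟩
  refine eq_of_smul_eq_smul (α := Ω) fun p => ?_
  rw [one_smul]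
  obtain ⟨u, hu, rfl⟩ := K.reg.trans p
  have h := hfix _ ((MonoidHom.normal_ker f).conj_mem' _ (hker ⟨g, hgC⟩ hgx) ⟨u, hQC hu⟩)
  change (u⁻¹ * g * u) • x = x at h
  rwa [mul_smul, mul_smul, inv_smul_eq_iff] at h

omit [Finite Ω] [IsPretransitive G Ω] in
theorem Core.cent (K : Core G q Q x) {v g : G} (hv : v ∈ Q) (hv1 : v ≠ 1) (hg : g ∈ 𝒟)
    (hgv : g * v = v * g) : g ∈ Q := by
  have := K.reg.comm
  have hQC : Q ≤ 𝒟 ⊓ Subgroup.centralizer {v} := fun u hu =>
    ⟨K.reg.sylow.le hu, Subgroup.mem_centralizer_singleton_iff.2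
      (congrArg Subtype.val (mul_comm' (⟨u, hu⟩ : Q) ⟨v, hv⟩))⟩
  have hbot := K.inf_stab_eq_bot hQC inf_le_left fun c hc hcx hcN =>
    K.semireg c ⟨hcN, hcx⟩ v hv (Subgroup.mem_centralizer_singleton_iff.1 hc.2) hv1
  obtain ⟨u, hu, hux⟩ := K.reg.trans (g • x)
  have h1 := (Subgroup.eq_bot_iff_forall _).1 hbot (u⁻¹ * g)
    ⟨Subgroup.mul_mem _ (Subgroup.inv_mem _ (hQC hu))
      ⟨hg, Subgroup.mem_centralizer_singleton_iff.2 hgv⟩,
    show (u⁻¹ * g) • x = x by rw [mul_smul, ← hux, inv_smul_smul]⟩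
  rw [inv_mul_eq_one] at h1
  exact h1 ▸ hu

omit [Finite Ω] [IsPretransitive G Ω] in
theorem Core.stabY_ne_bot (K : Core G q Q x) : stabY 𝒟 Q x ≠ ⊥ := fun h =>
  K.nontriv (K.inf_stab_eq_bot K.reg.sylow.le le_rfl fun c hc hcx hcN =>
    (Subgroup.eq_bot_iff_forall _).1 h c ⟨⟨hcN, hcx⟩, hc⟩)

omit [Finite Ω] [FaithfulSMul G Ω] [IsPretransitive G Ω] in
theorem Core.card_stabN (K : Core G q Q x) :
    Nat.card (stabN Q x) = (Derangement.derGrp G Ω).index * Nat.card (stabY 𝒟 Q x) := by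
  rw [← PGroup.card_inf_mul_relIndex (stabN Q x) 𝒟, K.reg.cov.relIndex, mul_comm]

omit [Finite Ω] [FaithfulSMul G Ω] [IsPretransitive G Ω] in
theorem Core.card_moved (K : Core G q Q x) :
    Nat.card {v : G // v ∈ Q ∧ v ≠ 1} = Nat.card Ω - 1 := by
  have : Nat.card {v : G // v ∈ Q ∧ v ≠ 1} = Nat.card ↥((Q : Set G) \ {1}) := rfl
  rw [this, Nat.card_coe_set_eq, Set.ncard_diff_singleton_of_mem (one_mem Q),
    ← Nat.card_coe_set_eq, ← K.reg.card_eq]
  rfl

omit [Finite Ω] [FaithfulSMul G Ω] [IsPretransitive G Ω] in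
theorem Core.card_dvd (K : Core G q Q x) :
    Nat.card (stabN Q x) ∣ Nat.card Ω - 1 ∧
      (Nat.card (stabN Q x) = Nat.card Ω - 1 → ∀ v ∈ Q, v ≠ 1 → ∀ w ∈ Q, w ≠ 1 →
        ∃ h ∈ stabN Q x, h * v * h⁻¹ = w) := by
  let X : Type _ := {v : G // v ∈ Q ∧ v ≠ 1}
  let act : MulAction (stabN Q x) X :=
    { smul := fun s w => ⟨(s : G) * w.1 * (s : G)⁻¹,
        (Subgroup.mem_normalizer_iff.1 s.2.1 w.1).1 w.2.1, fun h => w.2.2 (by simpa using h)⟩
      one_smul := fun w => Subtype.ext (by show (1 : G) * w.1 * (1 : G)⁻¹ = w.1; group)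
      mul_smul := fun a b w => Subtype.ext (by
        show ((a : G) * b) * w.1 * ((a : G) * b)⁻¹ = a * (b * w.1 * (b : G)⁻¹) * (a : G)⁻¹
        group) }
  have hfree : ∀ w : X, stabilizer (stabN Q x) w ≤ ⊥ := fun w h hh =>
    Subgroup.mem_bot.2 (Subtype.ext (K.semireg h h.2 w.1 w.2.1
      (mul_inv_eq_iff_eq_mul.1 (congrArg Subtype.val hh)) w.2.2))
  refine ⟨?_, fun heq v hv hv1 w hw hw1 => ?_⟩
  · have h := Derangement.dvd_card_of_stabilizer_le (G := stabN Q x) (Ω := X) ⊥ hfree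
    rwa [Subgroup.index_bot, K.card_moved] at h
  · have hc := card_orbit_mul_stabilizer (stabN Q x) (⟨v, hv, hv1⟩ : X)
    rw [le_bot_iff.1 (hfree _), Subgroup.card_bot, mul_one, heq, ← K.card_moved,
      Nat.card_coe_set_eq] at hc
    have hu : orbit (stabN Q x) (⟨v, hv, hv1⟩ : X) = Set.univ :=
      Set.eq_of_subset_of_ncard_le (Set.subset_univ _) (by rw [Set.ncard_univ]; exact hc.ge)
        (Set.toFinite _)
    obtain ⟨h, hh⟩ := hu.ge (Set.mem_univ (⟨w, hw, hw1⟩ : X))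
    exact ⟨h, h.2, congrArg Subtype.val hh⟩

theorem Core.conj_injective (K : Core G q Q x) {y v v' : G} (hy : y ∈ stabN Q x) (hy1 : y ≠ 1)
    (hv : v ∈ Q) (hv' : v' ∈ Q) (h : y * (v⁻¹ * v') * y⁻¹ = v⁻¹ * v') : v = v' := by
  by_contra hne
  exact hy1 (K.semireg y hy _ (Q.mul_mem (Q.inv_mem hv) hv') (mul_inv_eq_iff_eq_mul.1 h)
    (fun h1 => hne (inv_mul_eq_one.1 h1)))

theorem Core.not_normal (K : Core G q Q x) :
    ¬ ∀ g : G, g ∈ Subgroup.normalizer (Q : Set G) := by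
  intro hn
  have := K.reg.comm
  refine K.nontriv (eq_bot_iff.2 ((inf_le_inf_right _ ?_).trans K.reg.semi.le))
  rw [Derangement.derGrp, Subgroup.closure_le]
  intro g hg
  obtain ⟨u, hu, hux⟩ := K.reg.trans (g • x)
  have hyx : (u⁻¹ * g) • x = x := by rw [mul_smul, ← hux, inv_smul_smul]
  by_cases hy1 : u⁻¹ * g = 1
  · exact inv_mul_eq_one.1 hy1 ▸ hu
  exfalso
  generalize hy : u⁻¹ * g = y at hyx hy1
  obtain rfl : g = u * y := by rw [← hy]; group
  have hyN : y ∈ stabN Q x := ⟨hn y, hyx⟩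
  have hyQ : ∀ w ∈ Q, y * w * y⁻¹ ∈ Q := fun w hw =>
    (Subgroup.mem_normalizer_iff.1 (hn y) w).1 hw
  let φ : Q → Q := fun w => w * (⟨y * w * y⁻¹, hyQ w w.2⟩ : Q)⁻¹
  have hφ : Function.Injective φ := by
    intro a b hab
    change a * _ = b * _ at hab
    refine Subtype.ext (K.conj_injective hyN hy1 a.2 b.2 ?_)
    have h2 : a⁻¹ * b = (⟨y * a * y⁻¹, hyQ a a.2⟩ : Q)⁻¹ * ⟨y * b * y⁻¹, hyQ b b.2⟩ := by
      rw [mul_inv_eq_iff_eq_mul] at hab
      nth_rw 1 [hab]
      simp only [mul_inv_rev, inv_inv, mul_assoc]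
      simp [mul_comm, mul_left_comm]
    have h3 := congrArg Subtype.val h2
    simp only [Subgroup.coe_mul, Subgroup.coe_inv] at h3
    rw [show y * ((a : G)⁻¹ * b) * y⁻¹ = (y * a * y⁻¹)⁻¹ * (y * b * y⁻¹) by group]
    exact h3.symm
  obtain ⟨w, hw⟩ := (Finite.injective_iff_surjective.1 hφ) ⟨u, hu⟩
  have hw' : (w : G) = u * (y * w * y⁻¹) := mul_inv_eq_iff_eq_mul.1 (congrArg Subtype.val hw)
  refine hg ((w : G) • x) ?_
  conv_rhs => rw [hw', mul_smul, mul_smul, inv_smul_eq_iff.2 hyx.symm, mul_smul]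
  rw [mul_smul]

/-- If `N(Q) ∩ G_x` is transitive on `Q \ {1}` we reach a contradiction. -/
theorem Core.card_ne (K : Core G q Q x) : Nat.card (stabN Q x) ≠ Nat.card Ω - 1 := by
  classical
  intro heq
  have := K.reg.comm
  have htr := K.card_dvd.2 heq
  set T : Subgroup G := 𝒟 ⊓ stabilizer G x with hT
  set Y := stabY 𝒟 Q x with hY
  have hYT : Y ≤ T := fun y hy => ⟨hy.2, hy.1.2⟩
  -- the orbits of `T` are the orbits of `Y`
  have horb : ∀ a ∈ T, ∀ v ∈ Q, v ≠ 1 → ∃ y ∈ Y, a • v • x = (y * v * y⁻¹) • x := by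
    intro a ha v hv hv1
    obtain ⟨w, hw, hwx⟩ := K.reg.trans (a • v • x)
    have hw1 : w ≠ 1 := by
      rintro rfl
      rw [one_smul, ← mul_smul, eq_comm] at hwx
      have h1 : a⁻¹ • x = x := inv_smul_eq_iff.2 ha.2.symm
      have := K.reg.eq_one_of_fix hv (by
        rw [mul_smul] at hwx
        exact ((inv_smul_eq_iff.2 hwx.symm).symm.trans h1))
      exact hv1 this
    obtain ⟨h, hh, rfl⟩ := htr v hv hv1 w hw hw1
    have hhx : h⁻¹ • x = x := inv_smul_eq_iff.2 (mem_stabilizer_iff.1 hh.2).symm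
    rw [mul_smul, mul_smul, hhx] at hwx
    have h1 : h⁻¹ * a ∈ 𝒟 := by
      refine Derangement.mem_of_two_fixed (a := x) (b := v • x) ?_ ?_ ?_
      · exact fun h0 => hv1 (K.reg.eq_one_of_fix hv h0.symm)
      · rw [mul_smul, mem_stabilizer_iff.1 ha.2, hhx]
      · rw [mul_smul, ← hwx, inv_smul_smul]
    refine ⟨h, ⟨hh, ?_⟩, ?_⟩
    · have h2 := Subgroup.mul_mem _ ha.1 (Subgroup.inv_mem _ h1)
      rwa [mul_inv_rev, inv_inv, mul_inv_cancel_left] at h2
    · rw [mul_smul, mul_smul, hhx, hwx]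
  let _ := Fintype.ofFinite Ω
  let _ := Fintype.ofFinite T
  -- upper bound for the number of fixed points
  have hfix : ∀ u : T, u ≠ 1 → Nat.card (fixedBy Ω (u : G)) + 1 ≤ Nat.card Y := by
    intro u hu
    obtain ⟨p, hp⟩ : ∃ p : Ω, (u : G) • p ≠ p := by
      by_contra hc
      push Not at hc
      exact hu (Subtype.ext (eq_of_smul_eq_smul (α := Ω) fun p => by
        rw [hc p, Subgroup.coe_one, one_smul]))
    obtain ⟨w, hw, rfl⟩ := K.reg.trans p
    obtain ⟨w', hw', hww⟩ := K.reg.trans ((u : G) • w • x)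
    have key : ∀ v : {v : G // v ∈ Q ∧ (u : G) • v • x = v • x}, ∃ y : {y : G // y ∈ Y ∧ y ≠ 1},
        y.1 * (v.1⁻¹ * w) * y.1⁻¹ = v.1⁻¹ * w' := by
      rintro ⟨v, hv, hvx⟩
      have hvw : v⁻¹ * w ≠ 1 := fun h1 => hp (by rw [← inv_mul_eq_one.1 h1]; exact hvx)
      have ha : v⁻¹ * u * v ∈ T := by
        refine ⟨Derangement.derGrp_normal.conj_mem' _ u.2.1 v, ?_⟩
        show (v⁻¹ * u * v) • x = x
        rw [mul_smul, mul_smul, hvx, inv_smul_smul]
      obtain ⟨y, hy, hyv⟩ := horb _ ha _ (Q.mul_mem (Q.inv_mem hv) hw) hvw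
      rw [← mul_smul, show v⁻¹ * (u : G) * v * (v⁻¹ * w) = v⁻¹ * u * w by group, mul_smul, mul_smul,
        ← hww, ← mul_smul] at hyv
      have heq2 : v⁻¹ * w' = y * (v⁻¹ * w) * y⁻¹ := K.reg.smul_injOn (Q.mul_mem (Q.inv_mem hv) hw')
        ((Subgroup.mem_normalizer_iff.1 hy.1.1 _).1 (Q.mul_mem (Q.inv_mem hv) hw)) hyv
      refine ⟨⟨y, hy, fun h1 => hp ?_⟩, heq2.symm⟩
      rw [h1, one_mul, inv_one, mul_one, mul_left_cancel_iff] at heq2
      rw [← hww, heq2]
    choose f hf using key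
    have hinj : Function.Injective f := by
      intro a b hab
      refine Subtype.ext (K.conj_injective (f a).2.1.1 (f a).2.2 a.2.1 b.2.1 ?_)
      have e2 := hab ▸ hf b
      have hc : (b.1⁻¹ * w') * (b.1⁻¹ * w)⁻¹ = b.1⁻¹ * (w' * w⁻¹ * b.1) := by group
      have h3 : a.1⁻¹ * b.1 = (a.1⁻¹ * w) * (b.1⁻¹ * w)⁻¹ := by group
      have h4 : a.1⁻¹ * b.1 = (a.1⁻¹ * w') * (b.1⁻¹ * w')⁻¹ := by group
      conv_lhs => rw [h3]
      conv_rhs => rw [h4, ← hf a, ← e2]
      group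
    have h1 := Nat.card_le_card_of_injective f hinj
    have h2 : Nat.card {y : G // y ∈ Y ∧ y ≠ 1} = Nat.card Y - 1 := by
      have : Nat.card {y : G // y ∈ Y ∧ y ≠ 1} = Nat.card ↥((Y : Set G) \ {1}) := rfl
      rw [this, Nat.card_coe_set_eq, Set.ncard_diff_singleton_of_mem (one_mem Y),
        ← Nat.card_coe_set_eq]
      rfl
    have h3 : Nat.card (fixedBy Ω (u : G)) =
        Nat.card {v : G // v ∈ Q ∧ (u : G) • v • x = v • x} := by
      refine (Nat.card_congr (Equiv.ofBijective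
        (fun v => (⟨v.1 • x, v.2.2⟩ : fixedBy Ω (u : G))) ⟨fun a b hab => ?_, fun p => ?_⟩)).symm
      · exact Subtype.ext (K.reg.smul_injOn a.2.1 b.2.1 (congrArg Subtype.val hab))
      · obtain ⟨v, hv, hvp⟩ := K.reg.trans p.1
        exact ⟨⟨v, hv, hvp ▸ p.2⟩, Subtype.ext hvp⟩
    have h0 : 0 < Nat.card Y := Nat.card_pos
    omega
  have hone : ∀ u : T, u ≠ 1 → (u : G) ∈ Y → Nat.card (fixedBy Ω (u : G)) ≤ 1 := by
    intro u hu huY
    rw [Finite.card_le_one_iff_subsingleton]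
    refine ⟨fun a b => Subtype.ext ?_⟩
    have key : ∀ p : fixedBy Ω (u : G), p.1 = x := by
      rintro ⟨p, hp⟩
      obtain ⟨v, hv, rfl⟩ := K.reg.trans p
      show v • x = x
      have hmem := (Subgroup.mem_normalizer_iff.1 huY.1.1 v).1 hv
      have h1 : (u : G) * v * (u : G)⁻¹ = v := K.reg.smul_injOn hmem hv (by
        rw [mul_smul, mul_smul, inv_smul_eq_iff.2 u.2.2.symm]; exact hp)
      by_contra hne
      exact hu (Subtype.ext (K.semireg _ huY.1 v hv (mul_inv_eq_iff_eq_mul.1 h1)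
        fun h0 => hne (by rw [h0, one_smul])))
    rw [key a, key b]
  -- lower bound by double counting
  have hdc : ∑ u : T, Nat.card (fixedBy Ω (u : G)) = ∑ p : Ω, Nat.card (stabilizer T p) := by
    rw [← Nat.card_sigma, ← Nat.card_sigma]
    exact Nat.card_congr
      { toFun := fun z => ⟨z.2.1, z.1, z.2.2⟩
        invFun := fun z => ⟨z.2.1, z.1, z.2.2⟩
        left_inv := fun _ => rfl
        right_inv := fun _ => rfl }
  have hst : ∀ p : Ω, p ≠ x → Nat.card T ≤ Nat.card Y * Nat.card (stabilizer T p) := by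
    intro p hp
    obtain ⟨v, hv, rfl⟩ := K.reg.trans p
    have hv1 : v ≠ 1 := fun h1 => hp (by rw [h1, one_smul])
    rw [← card_orbit_mul_stabilizer T (v • x)]
    refine Nat.mul_le_mul_right _ ?_
    have hsub : orbit T (v • x) ⊆ Set.range (fun y : Y => ((y : G) * v * (y : G)⁻¹) • x) := by
      rintro _ ⟨a, rfl⟩
      obtain ⟨y, hy, he⟩ := horb a a.2 v hv hv1
      exact ⟨⟨y, hy⟩, he.symm⟩
    rw [Nat.card_coe_set_eq]
    refine (Set.ncard_le_ncard hsub (Set.toFinite _)).trans ?_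
    rw [← Nat.card_coe_set_eq]
    exact Finite.card_range_le _
  have hstx : Nat.card (stabilizer T x) = Nat.card T := by
    rw [show stabilizer T x = ⊤ from eq_top_iff.2 fun a _ => a.2.2, Subgroup.card_top]
  have hlow : Nat.card Y * Nat.card T + (Nat.card Ω - 1) * Nat.card T ≤
      Nat.card Y * ∑ p : Ω, Nat.card (stabilizer T p) := by
    rw [← Finset.add_sum_erase _ _ (Finset.mem_univ x), mul_add, hstx, Finset.mul_sum]
    refine Nat.add_le_add_left ?_ _
    refine le_trans (le_of_eq ?_) (Finset.card_nsmul_le_sum _ _ (Nat.card T)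
      fun p hp => hst p (Finset.ne_of_mem_erase hp))
    rw [smul_eq_mul, Finset.card_erase_of_mem (Finset.mem_univ x), Finset.card_univ,
      ← Nat.card_eq_fintype_card]
  -- upper bound
  let A := Finset.univ.filter fun u : T => (u : G) ∈ Y
  let B := Finset.univ.filter fun u : T => (u : G) ∉ Y
  have hA : A.card = Nat.card Y := by
    rw [← Nat.card_congr (Subgroup.subgroupOfEquivOfLe hYT).toEquiv, Nat.card_eq_fintype_card]
    exact (Fintype.card_of_subtype _ (by simp [A, Subgroup.mem_subgroupOf])).symm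
  have hup : ∑ u : T, Nat.card (fixedBy Ω (u : G)) ≤
      Nat.card Ω + (Nat.card Y - 1) + B.card * (Nat.card Y - 1) := by
    rw [← Finset.sum_filter_add_sum_filter_not Finset.univ (fun u : T => (u : G) ∈ Y)]
    have h1A : (1 : T) ∈ A := by simp [A]
    refine Nat.add_le_add ?_ ?_
    · rw [← Finset.add_sum_erase _ _ h1A]
      refine Nat.add_le_add (Nat.card_le_card_of_injective _ Subtype.val_injective) ?_
      refine (Finset.sum_le_card_nsmul _ _ 1 fun u hu => hone u (Finset.ne_of_mem_erase hu)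
        (Finset.mem_filter.1 (Finset.mem_of_mem_erase hu)).2).trans ?_
      rw [smul_eq_mul, mul_one, Finset.card_erase_of_mem h1A, hA]
    · refine Finset.sum_le_card_nsmul B _ (Nat.card Y - 1) fun u hu => ?_
      have hne : u ≠ 1 := fun h1 => (Finset.mem_filter.1 hu).2 (h1 ▸ Y.one_mem)
      have := hfix u hne
      omega
  have hTcard : Nat.card T = Nat.card Y + B.card := by
    rw [← hA, Finset.card_filter_add_card_filter_not, Finset.card_univ, Nat.card_eq_fintype_card]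
  have hn : Nat.card Ω = (Derangement.derGrp G Ω).index * Nat.card Y + 1 := by
    have h1 : Nat.card (stabN Q x) = (Derangement.derGrp G Ω).index * Nat.card Y := K.card_stabN
    have := K.one_lt
    omega
  rw [hdc] at hup
  have hbig := K.big
  have hB : B.card = 0 := by
    by_contra hB0
    set d := (Derangement.derGrp G Ω).index
    set y := Nat.card Y
    have hy0 : 0 < y := Nat.card_pos
    obtain ⟨y', hy'⟩ : ∃ y', y = y' + 1 := ⟨y - 1, by omega⟩
    rw [hn, hTcard, Nat.add_sub_cancel] at hlow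
    rw [hn, hy', Nat.add_sub_cancel] at hup
    rw [hy'] at hlow
    have h1 := hlow.trans (Nat.mul_le_mul_left _ hup)
    have h2 : (d + 1) * (y' + 1 + B.card) ≤ d * (y' + 1) + 1 + y' + B.card * y' :=
      Nat.le_of_mul_le_mul_left (le_trans (le_of_eq (by ring)) h1) (Nat.succ_pos y')
    have h3 : (d + 1) * B.card ≤ B.card * y' := by nlinarith
    have h4 : d + 1 ≤ y' :=
      Nat.le_of_mul_le_mul_right (h3.trans (le_of_eq (mul_comm _ _))) (Nat.pos_of_ne_zero hB0)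
    rw [hn, hy'] at hbig
    nlinarith
  have hTY : T = Y := (PGroup.eq_of_le_of_card_le hYT (by omega)).symm
  refine K.not_normal fun g => ?_
  obtain ⟨h, hh, hhg⟩ := K.reg.cov g
  obtain ⟨u, hu, hux⟩ := K.reg.trans ((h⁻¹ * g) • x)
  have h5 : u⁻¹ * (h⁻¹ * g) ∈ T :=
    ⟨Subgroup.mul_mem _ (Subgroup.inv_mem _ (K.reg.sylow.le hu)) hhg,
      show (u⁻¹ * (h⁻¹ * g)) • x = x by rw [mul_smul, ← hux, inv_smul_smul]⟩
  rw [hTY] at h5
  have h6 := Subgroup.mul_mem _ hh.1 (Subgroup.mul_mem _ (Subgroup.le_normalizer hu) h5.1.1)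
  rwa [mul_inv_cancel_left, mul_inv_cancel_left] at h6

/-- The stabilizer `N(Q) ∩ G_x` has at most half as many elements as `Q \ {1}`. -/
theorem Core.two_mul_le (K : Core G q Q x) :
    2 * ((Derangement.derGrp G Ω).index * Nat.card (stabY 𝒟 Q x)) ≤ Nat.card Ω - 1 := by
  rw [← K.card_stabN]
  obtain ⟨j, hj⟩ := K.card_dvd.1
  have := K.one_lt
  rcases Nat.lt_or_ge j 2 with hj2 | hj2
  · interval_cases j
    · omega
    · exact absurd (by omega) K.card_ne
  · rw [hj, mul_comm]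
    exact Nat.mul_le_mul_left _ hj2

end Cfsg.Agent.DerangeIndex
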