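import Cfsg.Agent.Lib.DerangeIndex.Abelian
import Cfsg.Agent.Lib.PGroup.CyclicNormalAbelian

/-!
# The `p`-group in a linear setting and its critical subgroup `coreK`
-/

set_option autoImplicit false

namespace Cfsg.Agent.DerangeIndex

open Subgroup
open scoped commutatorElement

variable {G : Type*} [Group G] {V H Y H' P : Subgroup G} {p : ℕ} {z : G}

/-- A `p`-subgroup of `Y` normalised by a covering subgroup, with its central element. -/
structure PSetting (V H Y H' P : Subgroup G) (p : ℕ) (z : G) : Prop where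
  lin : LinSetting V H Y
  le : H' ≤ H
  cov : ∀ h ∈ H, ∃ k ∈ H', k⁻¹ * h ∈ Y
  hPY : P ≤ Y
  hPH : P ≤ H'
  hnP : H' ≤ normalizer (P : Set G)
  prime : p.Prime
  pgroup : IsPGroup p P
  zmem : z ∈ P
  zord : orderOf z = p
  zcent : ∀ x ∈ P, x * z = z * x
  zfix : fixV V (zpowers z) = ⊥
  znorm : H' ≤ normalizer (zpowers z : Set G)

theorem exists_pSetting [Finite G] (L : LinSetting V H Y) (hp : p.Prime) (hle : H' ≤ H)
    (hcov : ∀ h ∈ H, ∃ k ∈ H', k⁻¹ * h ∈ Y) (hPY : P ≤ Y) (hPH : P ≤ H')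
    (hnP : H' ≤ normalizer (P : Set G)) (hP : IsPGroup p P) (hPne : P ≠ ⊥) :
    ∃ z : G, PSetting V H Y H' P p z := by
  have := Fact.mk hp
  obtain ⟨z, -, hzc, hzo⟩ := PGroup.exists_central_order_p hP (N := (⊤ : Subgroup P)) (fun h => hPne
    (eq_bot_iff.2 fun x hx => by
      have : (⟨x, hx⟩ : P) ∈ (⊥ : Subgroup P) := h ▸ mem_top _
      simpa [Subgroup.mem_bot, Subtype.ext_iff] using this))
  have hzcent : ∀ x ∈ P, x * (z : G) = z * x := fun x hx =>
    congrArg Subtype.val (mem_center_iff.1 hzc ⟨x, hx⟩)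
  let Ω : Subgroup G :=
    { carrier := {x | x ∈ P ∧ x ^ p = 1 ∧ ∀ y ∈ P, y * x = x * y}
      one_mem' := ⟨one_mem _, one_pow _, fun _ _ => by rw [mul_one, one_mul]⟩
      mul_mem' := by
        rintro a b ⟨ha, ha', hac⟩ ⟨hb, hb', hbc⟩
        refine ⟨P.mul_mem ha hb, ?_, fun y hy => ?_⟩
        · rw [(show Commute a b from hbc a ha).mul_pow, ha', hb', one_mul]
        · exact ((show Commute y a from hac y hy).mul_right (show Commute y b from hbc y hy))
      inv_mem' := by
        rintro a ⟨ha, ha', hac⟩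
        exact ⟨P.inv_mem ha, by rw [inv_pow, ha', inv_one],
          fun y hy => (show Commute y a from hac y hy).inv_right⟩ }
  have hzΩ : (z : G) ∈ Ω := ⟨z.2, by rw [← hzo, ← Subgroup.orderOf_coe, pow_orderOf_eq_one], hzcent⟩
  have : IsMulCommutative Ω := ⟨⟨fun a b => Subtype.ext (b.2.2.2 a a.2.1)⟩⟩
  have hnΩ : H' ≤ normalizer (Ω : Set G) := fun h hh => by
    refine Coprime.mem_normalizer_of_forall fun x hx => ?_
    refine ⟨(mem_normalizer_iff.1 (hnP hh) x).1 hx.1, by rw [conj_pow, hx.2.1]; group, fun y hy => ?_⟩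
    have hy' := hx.2.2 _ ((mem_normalizer_iff''.1 (hnP hh) y).1 hy)
    calc y * (h * x * h⁻¹) = h * (h⁻¹ * y * h * x) * h⁻¹ := by group
      _ = h * (x * (h⁻¹ * y * h)) * h⁻¹ := by rw [hy']
      _ = h * x * h⁻¹ * y := by group
  have hΩP : Ω ≤ P := fun x hx => hx.1
  have hcard : Nat.card Ω ≤ p := L.card_le_of_invariant hle hcov (hΩP.trans hPY)
    (hΩP.trans hPH) hnΩ hp fun a ha => ha.2.1
  have hzo' : orderOf (z : G) = p := by rw [Subgroup.orderOf_coe, hzo]
  have heq : zpowers (z : G) = Ω := PGroup.eq_of_le_of_card_le (zpowers_le.2 hzΩ)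
    (by rw [Nat.card_zpowers, hzo']; exact hcard)
  have hz1 : (z : G) ≠ 1 := fun h => by
    rw [h, orderOf_one] at hzo'
    exact hp.ne_one hzo'.symm
  refine ⟨z, L, hle, hcov, hPY, hPH, hnP, hp, hP, z.2, hzo', hzcent, ?_, heq ▸ hnΩ⟩
  refine (L.irred H' hle hcov _ inf_le_left fun h hh => mul_inv_mem_normalizer_fixV
    (L.norm (hle hh)) (heq ▸ hnΩ hh)).resolve_right fun hV => hz1 ?_
  exact L.faithful z (L.le (hPY z.2)) fun v hv => (hV.ge hv).2 z (mem_zpowers _)

namespace PSetting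

theorem zne (S : PSetting V H Y H' P p z) : z ≠ 1 := fun h => by
  have := S.zord
  rw [h, orderOf_one] at this
  exact S.prime.ne_one this.symm

theorem card_zpowers_eq (S : PSetting V H Y H' P p z) : Nat.card (zpowers z) = p := by
  rw [Nat.card_zpowers, S.zord]

theorem zpow_p (S : PSetting V H Y H' P p z) : z ^ p = 1 := by
  rw [← S.zord, pow_orderOf_eq_one]

theorem commute_z (S : PSetting V H Y H' P p z) {x c : G} (hx : x ∈ P) (hc : c ∈ zpowers z) :
    Commute x c := by
  obtain ⟨i, rfl⟩ := hc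
  exact (show Commute x z from S.zcent x hx).zpow_right i

theorem normP (S : PSetting V H Y H' P p z) : P ≤ normalizer (V : Set G) :=
  S.hPY.trans (S.lin.le.trans S.lin.norm)

theorem zle (S : PSetting V H Y H' P p z) : zpowers z ≤ P := zpowers_le.2 S.zmem

/-- Translates of a fixed space are independent when pairwise joins contain `z`. -/
theorem pow_card_le [Finite G] (S : PSetting V H Y H' P p z) {B A : Subgroup G} (hA : A ≤ P)
    [IsMulCommutative A] {ι : Type*} [Fintype ι] (k : ι → G) (hk : ∀ i, k i ∈ P)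
    (hkA : ∀ i, B.map (MulAut.conj (k i)).toMonoidHom ≤ A)
    (hne : ∀ i j, i ≠ j → z ∈ B.map (MulAut.conj (k i)).toMonoidHom ⊔
      B.map (MulAut.conj (k j)).toMonoidHom) :
    Nat.card (fixV V B) ^ Fintype.card ι ≤ Nat.card V := by
  have := S.lin.comm
  have hAV := hA.trans S.normP
  have h := prod_card_le (V := V) (fun i => fixV V (B.map (MulAut.conj (k i)).toMonoidHom))
    (fun i => B.map (MulAut.conj (k i)).toMonoidHom) (fun i => inf_le_left)
    (fun j => (hkA j).trans hAV) (fun j => S.lin.card_coprime ((hkA j).trans (hA.trans S.hPY)))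
    (fun i j b hb => mul_inv_mem_normalizer_fixV (hAV (hkA j hb))
      (mem_normalizer_of_comm (hkA i) (hkA j hb))) (fun j => inf_le_right)
    (fun i j hij => by
      rw [eq_bot_iff, ← S.zfix]
      refine fun x hx => ⟨hx.1.1, fun b hb => ?_⟩
      exact commute_of_mem_sup hx.1.2 hx.2 b (zpowers_le.2 (hne i j hij) hb))
  rwa [Finset.prod_congr rfl (fun i _ => card_fixV_map_conj (S.normP (hk i))), Finset.prod_const,
    Finset.card_univ] at h

/-- `coreK`: generated by elements of order `p` central modulo `⟨z⟩`. -/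
def coreK (P : Subgroup G) (p : ℕ) (z : G) : Subgroup G :=
  closure {x : G | x ∈ P ∧ x ^ p = 1 ∧ ∀ y ∈ P, ⁅x, y⁆ ∈ zpowers z}

theorem coreK_le : coreK P p z ≤ P := (closure_le _).2 fun _ hx => hx.1

theorem coreK_comm (S : PSetting V H Y H' P p z) {x : G} (hx : x ∈ coreK P p z) :
    ∀ y ∈ P, ⁅x, y⁆ ∈ zpowers z := by
  induction hx using closure_induction with
  | mem x hx => exact hx.2.2
  | one => intro y _; rw [commutatorElement_one_left]; exact one_mem _
  | mul a b ha _ iha ihb =>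
    intro y hy
    have hc := S.commute_z (coreK_le ha) (ihb y hy)
    have : ⁅a * b, y⁆ = ⁅b, y⁆ * ⁅a, y⁆ := by
      calc ⁅a * b, y⁆ = a * ⁅b, y⁆ * a⁻¹ * ⁅a, y⁆ := by simp only [commutatorElement_def]; group
        _ = ⁅b, y⁆ * ⁅a, y⁆ := by rw [hc.eq]; group
    rw [this]
    exact mul_mem (ihb y hy) (iha y hy)
  | inv a ha iha =>
    intro y hy
    have hc := S.commute_z (P.inv_mem (coreK_le ha)) (inv_mem (iha y hy))
    have : ⁅a⁻¹, y⁆ = ⁅a, y⁆⁻¹ := by
      calc ⁅a⁻¹, y⁆ = a⁻¹ * ⁅a, y⁆⁻¹ * a := by simp only [commutatorElement_def]; group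
        _ = ⁅a, y⁆⁻¹ := by rw [hc.eq]; group
    rw [this]
    exact inv_mem (iha y hy)

theorem mul_pow_central {x y c : G} (hcx : Commute c x) (hcy : Commute c y)
    (h : y * x = x * y * c) : ∀ n : ℕ, (x * y) ^ n = x ^ n * y ^ n * c ^ (n.choose 2) := by
  have key : ∀ n : ℕ, y ^ n * x = x * y ^ n * c ^ n := by
    intro n
    induction n with
    | zero => simp
    | succ n ih =>
      calc y ^ (n + 1) * x = y ^ n * (y * x) := by rw [pow_succ, mul_assoc]
        _ = y ^ n * x * (y * c) := by rw [h]; simp [mul_assoc]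
        _ = x * y ^ n * (c ^ n * (y * c)) := by rw [ih]; simp [mul_assoc]
        _ = x * y ^ n * (y * (c ^ n * c)) := by
          rw [← mul_assoc (c ^ n), (hcy.pow_left n).eq]; simp [mul_assoc]
        _ = x * y ^ (n + 1) * c ^ (n + 1) := by rw [pow_succ, pow_succ]; simp [mul_assoc]
  intro n
  induction n with
  | zero => simp
  | succ n ih =>
    calc (x * y) ^ (n + 1) = x ^ n * y ^ n * c ^ (n.choose 2) * (x * y) := by rw [pow_succ, ih]
      _ = x ^ n * (y ^ n * x) * y * c ^ (n.choose 2) := by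
        rw [mul_assoc (x ^ n * y ^ n), ((hcx.pow_left _).mul_right (hcy.pow_left _)).eq]
        simp [mul_assoc]
      _ = x ^ n * x * y ^ n * (c ^ n * y) * c ^ (n.choose 2) := by rw [key]; simp [mul_assoc]
      _ = x ^ (n + 1) * y ^ (n + 1) * c ^ ((n + 1).choose 2) := by
        rw [(hcy.pow_left n).eq, Nat.choose_succ_succ, Nat.choose_one_right]
        simp [mul_assoc, pow_add]

theorem coreK_pow (S : PSetting V H Y H' P p z) {x : G} (hx : x ∈ coreK P p z) :
    x ^ p ∈ zpowers z ∧ (p ≠ 2 → x ^ p = 1) := by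
  induction hx using closure_induction with
  | mem x hx => exact ⟨by rw [hx.2.1]; exact one_mem _, fun _ => hx.2.1⟩
  | one => exact ⟨by rw [one_pow]; exact one_mem _, fun _ => one_pow _⟩
  | mul a b ha hb iha ihb =>
    have hcab : ⁅b, a⁆ ∈ zpowers z := S.coreK_comm hb a (coreK_le ha)
    have hc1 := (S.commute_z (coreK_le ha) hcab).symm
    have hc2 := (S.commute_z (coreK_le hb) hcab).symm
    have h : b * a = a * b * ⁅b, a⁆ := by
      rw [mul_assoc, ← hc2.eq, ← mul_assoc, ← hc1.eq, commutatorElement_def]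
      group
    rw [mul_pow_central hc1 hc2 h]
    refine ⟨mul_mem (mul_mem iha.1 ihb.1) (pow_mem hcab _), fun hp2 => ?_⟩
    rw [iha.2 hp2, ihb.2 hp2, one_mul, one_mul]
    obtain ⟨i, hi⟩ := hcab
    obtain ⟨j, hj⟩ := PGroup.dvd_choose_two_of_odd (S.prime.odd_of_ne_two hp2)
    rw [← show z ^ i = ⁅b, a⁆ from hi, hj, pow_mul]
    have : (z ^ i) ^ p = 1 := by
      rw [← zpow_natCast, ← zpow_mul, mul_comm, zpow_mul, zpow_natCast, S.zpow_p, one_zpow]
    rw [this, one_pow]
  | inv a _ iha =>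
    exact ⟨by rw [inv_pow]; exact inv_mem iha.1, fun h => by rw [inv_pow, iha.2 h, inv_one]⟩

theorem coreK_norm [Finite G] (S : PSetting V H Y H' P p z) :
    H' ≤ normalizer (coreK P p z : Set G) := by
  intro h hh
  refine Coprime.mem_normalizer_of_forall fun x hx => ?_
  induction hx using closure_induction with
  | mem x hx =>
    refine subset_closure ⟨(mem_normalizer_iff.1 (S.hnP hh) x).1 hx.1,
      by rw [conj_pow, hx.2.1]; group, fun y hy => ?_⟩
    have h1 := hx.2.2 _ ((mem_normalizer_iff''.1 (S.hnP hh) y).1 hy)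
    have h2 := (mem_normalizer_iff.1 (S.znorm hh) _).1 h1
    convert h2 using 1
    simp only [commutatorElement_def]
    group
  | one => simp
  | mul a b _ _ iha ihb =>
    rw [show h * (a * b) * h⁻¹ = h * a * h⁻¹ * (h * b * h⁻¹) by group]
    exact mul_mem iha ihb
  | inv a _ iha =>
    rw [show h * a⁻¹ * h⁻¹ = (h * a * h⁻¹)⁻¹ by group]
    exact inv_mem iha

/-- The central elements of order `p` of `coreK` lie in `⟨z⟩`. -/
theorem coreK_central [Finite G] (S : PSetting V H Y H' P p z) {x : G} (hx : x ∈ coreK P p z)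
    (hxp : x ^ p = 1) (hxc : ∀ k ∈ coreK P p z, k * x = x * k) : x ∈ zpowers z := by
  let A : Subgroup G :=
    { carrier := {x | x ∈ coreK P p z ∧ x ^ p = 1 ∧ ∀ y ∈ coreK P p z, y * x = x * y}
      one_mem' := ⟨one_mem _, one_pow _, fun _ _ => by rw [mul_one, one_mul]⟩
      mul_mem' := by
        rintro a b ⟨ha, ha', hac⟩ ⟨hb, hb', hbc⟩
        refine ⟨mul_mem ha hb, ?_, fun y hy => ?_⟩
        · rw [(show Commute a b from hbc a ha).mul_pow, ha', hb', one_mul]
        · exact (show Commute y a from hac y hy).mul_right (show Commute y b from hbc y hy)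
      inv_mem' := by
        rintro a ⟨ha, ha', hac⟩
        exact ⟨inv_mem ha, by rw [inv_pow, ha', inv_one],
          fun y hy => (show Commute y a from hac y hy).inv_right⟩ }
  have : IsMulCommutative A := ⟨⟨fun a b => Subtype.ext (b.2.2.2 a a.2.1)⟩⟩
  have hnA : H' ≤ normalizer (A : Set G) := fun h hh => by
    refine Coprime.mem_normalizer_of_forall fun x hx => ?_
    refine ⟨(mem_normalizer_iff.1 (S.coreK_norm hh) x).1 hx.1, by rw [conj_pow, hx.2.1]; group,
      fun y hy => ?_⟩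
    have hy' := hx.2.2 _ ((mem_normalizer_iff''.1 (S.coreK_norm hh) y).1 hy)
    calc y * (h * x * h⁻¹) = h * (h⁻¹ * y * h * x) * h⁻¹ := by group
      _ = h * (x * (h⁻¹ * y * h)) * h⁻¹ := by rw [hy']
      _ = h * x * h⁻¹ * y := by group
  have hzK : z ∈ coreK P p z := subset_closure ⟨S.zmem, S.zpow_p, fun y hy => by
    rw [commutatorElement_eq_one_iff_mul_comm.2 (S.zcent y hy).symm]
    exact one_mem _⟩
  have hzA : z ∈ A := ⟨hzK, S.zpow_p, fun y hy => S.zcent y (coreK_le hy)⟩
  have hAP : A ≤ P := fun a ha => coreK_le ha.1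
  have hcard := S.lin.card_le_of_invariant S.le S.cov (hAP.trans S.hPY)
    (hAP.trans S.hPH) hnA S.prime fun a ha => ha.2.1
  have heq : zpowers z = A := PGroup.eq_of_le_of_card_le (zpowers_le.2 hzA)
    (by rw [S.card_zpowers_eq]; exact hcard)
  exact heq.ge ⟨hx, hxp, hxc⟩

theorem zmem_coreK (S : PSetting V H Y H' P p z) : z ∈ coreK P p z :=
  subset_closure ⟨S.zmem, S.zpow_p, fun y hy => by
    rw [commutatorElement_eq_one_iff_mul_comm.2 (S.zcent y hy).symm]
    exact one_mem _⟩

/-- A normal subgroup of order `p^2` of exponent `p` gives a noncentral element with fixed points. -/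
theorem exists_mem_coreK_fix [Finite G] (S : PSetting V H Y H' P p z)
    (hE : ∃ E : Subgroup P, E.Normal ∧ Cfsg.IsElementaryAbelian p E ∧ Nat.card E = p ^ 2) :
    ∃ t ∈ coreK P p z, t ^ p = 1 ∧ t ∉ zpowers z ∧ fixV V (zpowers t) ≠ ⊥ := by
  have := Fact.mk S.prime
  obtain ⟨E, hEn, ⟨hEc, hEe⟩, hEcard⟩ := hE
  have hp1 : p < p ^ 2 := by
    have := Nat.pow_lt_pow_right S.prime.one_lt (show 1 < 2 by norm_num)
    rwa [pow_one] at this
  have hEne : E ≠ ⊥ := fun h => by
    rw [h, card_bot] at hEcard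
    exact absurd hEcard.symm (Nat.one_lt_pow two_ne_zero S.prime.one_lt).ne'
  let Z : Subgroup P := (zpowers z).subgroupOf P
  have hZn : Z.Normal := by
    refine ⟨fun c hc g => ?_⟩
    show (g : G) * (c : G) * (g : G)⁻¹ ∈ zpowers z
    rw [show (g : G) * (c : G) = c * g from (S.commute_z g.2 hc).eq, mul_inv_cancel_right]
    exact hc
  obtain ⟨c, hcE, hcc, hco⟩ := PGroup.exists_central_order_p S.pgroup hEne
  have hcz : (c : G) ∈ zpowers z := S.coreK_central
    (subset_closure ⟨c.2, by rw [← hco, ← Subgroup.orderOf_coe, pow_orderOf_eq_one], fun y hy => by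
      rw [commutatorElement_eq_one_iff_mul_comm.2
        (congrArg Subtype.val (mem_center_iff.1 hcc ⟨y, hy⟩)).symm]
      exact one_mem _⟩)
    (by rw [← hco, ← Subgroup.orderOf_coe, pow_orderOf_eq_one])
    (fun k hk => congrArg Subtype.val (mem_center_iff.1 hcc ⟨k, coreK_le hk⟩))
  have hZE : Z ≤ E := by
    intro w hw
    have heq : zpowers c = Z := PGroup.eq_of_le_of_card_le (zpowers_le.2 hcz) (by
      rw [Nat.card_zpowers, hco, Nat.card_congr (subgroupOfEquivOfLe S.zle).toEquiv,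
        S.card_zpowers_eq])
    exact zpowers_le.2 hcE (heq.ge hw)
  have hZlt : Z < E := lt_of_le_of_ne hZE fun h => by
    rw [← h, Nat.card_congr (subgroupOfEquivOfLe S.zle).toEquiv, S.card_zpowers_eq] at hEcard
    omega
  have hEK : E.map P.subtype ≤ coreK P p z := by
    rintro _ ⟨e, he, rfl⟩
    refine subset_closure ⟨e.2, by simpa using congrArg Subtype.val (hEe e he), fun y hy => ?_⟩
    have h1 := PGroup.commutator_mem_of_card S.pgroup hZlt (by
      rw [hEcard, Nat.card_congr (subgroupOfEquivOfLe S.zle).toEquiv, S.card_zpowers_eq, sq])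
      he ⟨y, hy⟩
    have h2 := inv_mem h1
    rw [commutatorElement_inv] at h2
    exact h2
  have hEY : E.map P.subtype ≤ Y := (map_subtype_le E).trans S.hPY
  have : IsMulCommutative (E.map P.subtype) := by
    refine ⟨⟨?_⟩⟩
    rintro ⟨_, a, ha, rfl⟩ ⟨_, b, hb, rfl⟩
    apply Subtype.ext
    show P.subtype a * P.subtype b = P.subtype b * P.subtype a
    rw [← map_mul, ← map_mul]
    exact congrArg _ (congrArg Subtype.val (hEc.is_comm.comm ⟨a, ha⟩ ⟨b, hb⟩))
  have hexp : ∀ a ∈ E.map P.subtype, a ^ p = 1 := by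
    rintro _ ⟨e, he, rfl⟩
    simpa using congrArg Subtype.val (hEe e he)
  obtain ⟨B, hBE, hBi, hBf⟩ := exists_fixed_relIndex_le (V := V) S.prime hexp
    ((map_subtype_le E).trans S.normP) (S.lin.card_coprime hEY)
    (S.lin.ne_bot (S.hPY S.zmem) S.zne)
  have hBne : B ≠ ⊥ := fun h => by
    rw [h, relIndex_bot_left, card_map_of_injective P.subtype_injective, hEcard] at hBi
    omega
  obtain ⟨⟨t, ht⟩, ht1⟩ := ne_bot_iff_exists_ne_one.1 hBne
  have htf : fixV V (zpowers t) ≠ ⊥ := fun h => hBf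
    (eq_bot_iff.2 ((fixV_mono (zpowers_le.2 ht)).trans h.le))
  refine ⟨t, hEK (hBE ht), hexp t (hBE ht), fun htz => htf ?_, htf⟩
  have heq : zpowers t = zpowers z := PGroup.eq_of_le_of_card_le (zpowers_le.2 htz) (by
    rw [S.card_zpowers_eq, Nat.card_zpowers,
      orderOf_eq_prime (hexp t (hBE ht)) (fun h => ht1 (Subtype.ext h))])
  rw [heq, S.zfix]

end PSetting

end Cfsg.Agent.DerangeIndex
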