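import Cfsg.Agent.EqLemmas
import Cfsg.Agent.Lib.Derangement.Basic

/-!
# Transitive normal subgroups outside which every element fixes exactly one point

A normal subgroup `D` of a permutation group is *split* if it is transitive and every element
outside it fixes exactly one point.  Then `[G:D]` divides `|Hx| - 1` whenever the stabilizer of `x`
in `H` covers `G/D`.
-/

set_option autoImplicit false

namespace Cfsg.Agent.DerangeIndex

open MulAction

variable {G : Type*} [Group G] {Ω : Type*} [MulAction G Ω]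

/-- Outside `D` elements have at most one fixed point and `D` is transitive. -/
structure Split (D : Subgroup G) (Ω : Type*) [MulAction G Ω] : Prop where
  normal : D.Normal
  trans : ∀ x y : Ω, ∃ g ∈ D, g • x = y
  unique : ∀ g : G, g ∉ D → ∀ x y : Ω, g • x = x → g • y = y → x = y

theorem split_derGrp [Finite G] [Finite Ω] [IsPretransitive G Ω] :
    Split (Derangement.derGrp G Ω) Ω where
  normal := Derangement.derGrp_normal
  trans x y := by
    have := Derangement.derGrp_transitive (G := G) (Ω := Ω)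
    obtain ⟨⟨g, hg⟩, h⟩ := exists_smul_eq (Derangement.derGrp G Ω) x y
    exact ⟨g, hg, h⟩
  unique g hg x y hx hy := by
    by_contra hxy
    exact hg (Derangement.mem_of_two_fixed hxy hx hy)

/-- `H` covers the quotient by `D`. -/
def Covers (D H : Subgroup G) : Prop := ∀ g : G, ∃ h ∈ H, h⁻¹ * g ∈ D

theorem Covers.mono {D H H' : Subgroup G} (h : Covers D H) (hle : H ≤ H') : Covers D H' :=
  fun g => (h g).imp fun _ hx => ⟨hle hx.1, hx.2⟩

theorem Covers.relIndex {D H : Subgroup G} [D.Normal] (h : Covers D H) :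
    D.relIndex H = D.index := by
  have htop : H ⊔ D = ⊤ := by
    rw [eq_top_iff]
    intro g _
    obtain ⟨k, hk, hkg⟩ := h g
    rw [show g = k * (k⁻¹ * g) by group]
    exact mul_mem (Subgroup.mem_sup_left hk) (Subgroup.mem_sup_right hkg)
  rw [← Subgroup.relIndex_sup_right, sup_comm, ← Subgroup.relIndex_top_right]
  rw [sup_comm] at htop
  rw [htop]

variable {D : Subgroup G}

theorem Split.covers_stabilizer (S : Split D Ω) (x : Ω) : Covers D (stabilizer G x) := by
  intro g
  obtain ⟨u, hu, hux⟩ := S.trans x (g • x)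
  refine ⟨u⁻¹ * g, ?_, ?_⟩
  · rw [mem_stabilizer_iff, mul_smul, ← hux, inv_smul_smul]
  · rw [mul_inv_rev, inv_inv]
    have := S.normal.conj_mem' u hu g
    simpa [mul_assoc] using this

theorem smul_mem_orbit_subgroup {H : Subgroup G} {g : G} (hg : g ∈ H) {x y : Ω}
    (hy : y ∈ orbit H x) : g • y ∈ orbit H x := by
  obtain ⟨h, rfl⟩ := hy
  exact ⟨⟨g, hg⟩ * h, mul_smul (⟨g, hg⟩ : H) h x⟩

/-- The key congruence. -/
theorem Split.dvd_orbit [Finite G] [Finite Ω] (S : Split D Ω) (H : Subgroup G) (x : Ω)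
    (hcov : Covers D (H ⊓ stabilizer G x)) :
    D.index ∣ Nat.card (orbit H x) - 1 := by
  have := S.normal
  let X : Type _ := {y : Ω // y ∈ orbit H x ∧ y ≠ x}
  let K : Subgroup G := H ⊓ stabilizer G x
  let act : MulAction K X :=
    { smul := fun k y => ⟨(k : G) • y.1, smul_mem_orbit_subgroup k.2.1 y.2.1, fun h => y.2.2
        (MulAction.injective (k : G) (h.trans (mem_stabilizer_iff.1 k.2.2).symm))⟩
      one_smul := fun y => Subtype.ext (one_smul G y.1)
      mul_smul := fun a b y => Subtype.ext (mul_smul (a : G) (b : G) y.1) }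
  have h := Derangement.dvd_card_of_stabilizer_le (G := K) (Ω := X) (D.subgroupOf K) ?_
  · change D.relIndex K ∣ _ at h
    rw [hcov.relIndex] at h
    convert h using 1
    let _ := Fintype.ofFinite Ω
    classical
    have hx : x ∈ orbit H x := mem_orbit_self x
    rw [Nat.card_congr (show X ≃ ↥(orbit H x \ {x} : Set Ω) from Equiv.refl _),
      Nat.card_coe_set_eq, Nat.card_coe_set_eq, Set.ncard_diff_singleton_of_mem hx]
  · intro y k hk
    rw [Subgroup.mem_subgroupOf]
    by_contra hkD
    exact y.2.2 (S.unique _ hkD y.1 x (congrArg Subtype.val hk) (mem_stabilizer_iff.1 k.2.2))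

theorem Split.dvd_card_sub_one [Finite G] [Finite Ω] (S : Split D Ω) (x : Ω) :
    D.index ∣ Nat.card Ω - 1 := by
  have h := S.dvd_orbit ⊤ x ((S.covers_stabilizer x).mono (le_inf le_top le_rfl))
  convert h using 2
  rw [← Nat.card_univ (α := Ω)]
  congr 1
  have : orbit (⊤ : Subgroup G) x = Set.univ := by
    ext y
    simp only [Set.mem_univ, iff_true]
    obtain ⟨g, -, rfl⟩ := S.trans x y
    exact ⟨⟨g, trivial⟩, rfl⟩
  rw [this]

/-- A factorisation of the degree into two congruent factors gives the bound. -/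
theorem sq_le_of_factor {n d b : ℕ} (hd : d ∣ n - 1) (hb : b ∣ n) (hdb : d ∣ b - 1) (hb1 : 1 < b)
    (hbn : b < n) : (d + 1) ^ 2 ≤ n := by
  obtain ⟨c, rfl⟩ := hb
  have hc : 1 < c := by
    by_contra hc
    interval_cases c <;> simp at hbn
  have h1 : d + 1 ≤ b := by
    have := Nat.le_of_dvd (by omega) hdb
    omega
  have hdc : d ∣ c - 1 := by
    have h2 : b * c - 1 = (b - 1) * c + (c - 1) := by
      obtain ⟨b', rfl⟩ : ∃ b', b = b' + 1 := ⟨b - 1, by omega⟩
      obtain ⟨c', rfl⟩ : ∃ c', c = c' + 1 := ⟨c - 1, by omega⟩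
      simp only [Nat.add_sub_cancel]
      ring_nf
      omega
    rw [h2] at hd
    exact (Nat.dvd_add_right (Dvd.dvd.mul_right hdb c)).1 hd
  have h2 : d + 1 ≤ c := by
    have := Nat.le_of_dvd (by omega) hdc
    omega
  rw [sq]
  exact Nat.mul_le_mul h1 h2

theorem Split.sq_le_of_orbit [Finite G] [Finite Ω] (S : Split D Ω) (H : Subgroup G) (x : Ω)
    (hcov : Covers D (H ⊓ stabilizer G x)) (hdvd : Nat.card (orbit H x) ∣ Nat.card Ω)
    (h1 : 1 < Nat.card (orbit H x)) (h2 : Nat.card (orbit H x) < Nat.card Ω) :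
    (D.index + 1) ^ 2 ≤ Nat.card Ω :=
  sq_le_of_factor (S.dvd_card_sub_one x) hdvd (S.dvd_orbit H x hcov) h1 h2

/-- A subgroup strictly between a point stabilizer and the whole group gives the bound. -/
theorem Split.sq_le_of_between [Finite G] [Finite Ω] (S : Split D Ω) (x : Ω) (U : Subgroup G)
    (hle : stabilizer G x < U) (hU : U ≠ ⊤) : (D.index + 1) ^ 2 ≤ Nat.card Ω := by
  have : IsPretransitive G Ω :=
    ⟨fun a b => (S.trans a b).elim fun g hg => ⟨g, hg.2⟩⟩
  have hn : Nat.card Ω = (stabilizer G x).index := (index_stabilizer_of_transitive G x).symm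
  have horb : Nat.card (orbit U x) = (stabilizer G x).relIndex U := by
    rw [Nat.card_coe_set_eq, ← MulAction.index_stabilizer U x]
    rfl
  have hpos : 0 < (stabilizer G x).relIndex U := Nat.pos_of_ne_zero (Subgroup.index_ne_zero_of_finite)
  have hmul := Subgroup.relIndex_mul_index hle.le
  refine S.sq_le_of_orbit U x ((S.covers_stabilizer x).mono (le_inf hle.le le_rfl)) ?_ ?_ ?_
  · rw [horb, hn, ← hmul]
    exact dvd_mul_right _ _
  · rw [horb]
    rcases Nat.lt_or_ge 1 ((stabilizer G x).relIndex U) with h | h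
    · exact h
    · exact absurd (Subgroup.relIndex_eq_one.1 (by omega)) (not_le_of_gt hle)
  · rw [horb, hn, ← hmul]
    refine lt_mul_of_one_lt_right hpos ?_
    have h0 : U.index ≠ 0 := Subgroup.index_ne_zero_of_finite
    have h1 : U.index ≠ 1 := fun h => hU (Subgroup.index_eq_one.1 h)
    omega

end Cfsg.Agent.DerangeIndex
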